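import Cfsg.Agent.Lib.PrimeDim.Symplectic

set_option autoImplicit false
set_option linter.style.haveILetI false

/-!
Aschbacher's theorem for subgroups of `SL(n, F)` in odd prime dimension `n`.
-/

namespace Cfsg.Agent.Lib.PrimeDim.Main

open Cfsg.Geo Cfsg.Agent.Lib.PrimeDim.Basic Cfsg.Agent.Lib.PrimeDim.Fields Cfsg.Agent.Lib.PrimeDim.Symplectic
open scoped Matrix MatrixGroups commutatorElement

section groupTheory

variable {G : Type*} [Group G]

lemma commutator_map_le {N : Subgroup G} {g : G} (hg : ∀ x ∈ N, g * x * g⁻¹ ∈ N) :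
    ∀ x ∈ ⁅N, N⁆, g * x * g⁻¹ ∈ ⁅N, N⁆ := by
  intro x hx
  have hle : N.map (MulAut.conj g).toMonoidHom ≤ N := by
    rintro _ ⟨y, hy, rfl⟩
    simpa using hg y hy
  have := Subgroup.commutator_mono hle hle
  rw [← Subgroup.map_commutator] at this
  exact this ⟨x, hx, by simp⟩

lemma le_normalizer {H N : Subgroup G} (h : ∀ g ∈ H, ∀ x ∈ N, g * x * g⁻¹ ∈ N) :
    H ≤ Subgroup.normalizer (N : Set G) := by
  intro g hg
  rw [Subgroup.mem_normalizer_iff]
  intro x
  refine ⟨h g hg x, fun hx => ?_⟩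
  simpa [mul_assoc] using h g⁻¹ (inv_mem hg) _ hx

/-- A perfect group centralised modulo a central subgroup is centralised. -/
lemma perfect_centralizes {P Z : Subgroup G} (hP : ⁅P, P⁆ = P) (hZ : ∀ z ∈ Z, ∀ x : G, z * x = x * z) {g : G}
    (hg : ∀ x ∈ P, g * x * g⁻¹ * x⁻¹ ∈ Z) : ∀ x ∈ P, g * x = x * g := by
  have hle : P ≤ Subgroup.centralizer ({g} : Set G) := by
    conv_lhs => rw [← hP]
    rw [Subgroup.commutator_le]
    intro a ha b hb
    rw [Subgroup.mem_centralizer_singleton_iff]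
    obtain ⟨u, hu, hua⟩ : ∃ u ∈ Z, g * a * g⁻¹ = u * a := ⟨_, hg a ha, by group⟩
    obtain ⟨w, hw, hwb⟩ : ∃ w ∈ Z, g * b * g⁻¹ = w * b := ⟨_, hg b hb, by group⟩
    have : g * ⁅a, b⁆ * g⁻¹ = ⁅a, b⁆ := by
      calc g * ⁅a, b⁆ * g⁻¹ = ⁅g * a * g⁻¹, g * b * g⁻¹⁆ := by simp [commutatorElement_def, mul_assoc]
        _ = u * (a * (w * b) * a⁻¹) * u⁻¹ * b⁻¹ * w⁻¹ := by rw [hua, hwb, commutatorElement_def]; group
        _ = a * (w * b) * a⁻¹ * b⁻¹ * w⁻¹ := by rw [hZ u hu (a * (w * b) * a⁻¹)]; group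
        _ = w * (a * b * a⁻¹ * b⁻¹) * w⁻¹ := by rw [← mul_assoc a w b, ← hZ w hw a]; group
        _ = ⁅a, b⁆ := by rw [hZ w hw _, commutatorElement_def]; group
    calc ⁅a, b⁆ * g = g * ⁅a, b⁆ * g⁻¹ * g := by rw [this]
      _ = g * ⁅a, b⁆ := by group
  intro x hx
  exact (Subgroup.mem_centralizer_singleton_iff.mp (hle hx)).symm

end groupTheory

variable {n : ℕ} {F : Type*} [Field F] [Fintype F]

/-- Exponent and characteristic subgroups of the frame group. -/
theorem isSymplecticType (hn : n.Prime) (h3 : 3 ≤ n) {N : Subgroup (GL (Fin n) F)} (hexp : ∀ z ∈ N, z ^ n = 1)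
    (hcard : Nat.card N = n ^ 3)
    (hchar : ∀ A : Subgroup N, A.Characteristic → IsMulCommutative A → A.map N.subtype ≤ scalars (Fin n) F) :
    IsSymplecticTypeGroup n N := by
    have hne1 : Nat.card N ≠ 1 := by rw [hcard]; exact (Nat.one_lt_pow (by norm_num) hn.one_lt).ne'
    haveI : Nontrivial N := Finite.one_lt_card_iff_nontrivial.mp (by
      have := Nat.card_pos (α := N); omega)
    refine ⟨hn, IsPGroup.of_card hcard, ?_, ?_⟩
    · intro A hA hAc
      have hle := hchar A hA hAc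
      haveI : IsCyclic (scalars (Fin n) F) := by
        exact isCyclic_of_surjective _ (MonoidHom.rangeRestrict_surjective
          (Units.map (Matrix.scalar (Fin n) : F →+* Matrix (Fin n) (Fin n) F).toMonoidHom))
      let g : A →* scalars (Fin n) F :=
        (N.subtype.comp A.subtype).codRestrict _ fun a => hle ⟨a.1, a.2, rfl⟩
      exact isCyclic_of_injective g fun a b hab => Subtype.ext (Subtype.ext (by
        have := congrArg (fun t : scalars (Fin n) F => (t : GL (Fin n) F)) hab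
        simpa [g] using this))
    · have hg : Nat.gcd 2 n = 1 := (Nat.coprime_primes Nat.prime_two hn).mpr (by omega)
      rw [hg, mul_one]
      refine (Nat.Prime.eq_one_or_self_of_dvd hn _ (Monoid.exponent_dvd_of_forall_pow_eq_one fun z => ?_)).resolve_left ?_
      · exact Subtype.ext (by simpa using hexp z z.2)
      · intro h1
        exact not_subsingleton N (Monoid.exp_eq_one_iff.mp h1)

/-- The symplectic-type case. -/
theorem symplectic_case (hn : n.Prime) (h3 : 3 ≤ n) {N : Subgroup (GL (Fin n) F)}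
    (hSL : N ≤ specialLinear (Fin n) F) (habs : ActsAbsolutelyIrreducibly (matrixSet N))
    (hcomm : ⁅N, N⁆ ≤ scalars (Fin n) F)
    (hchar : ∀ A : Subgroup N, A.Characteristic → IsMulCommutative A → A.map N.subtype ≤ scalars (Fin n) F) :
    (∃ F₀ : Subfield F, F₀ ≠ ⊤ ∧ RealisableOver F₀ (matrixSet N)) ∨
    (∃ (σ : F ≃+* F) (f : (Fin n → F) → (Fin n → F) → F), IsUnitaryForm σ f ∧ FixesForm (matrixSet N) f) ∨
    IsLinearSymplecticTypeData n N := by
  classical
  obtain ⟨⟨P, η, hη, hexp, hcard, hcc, -, -, hmono⟩⟩ := exists_frame hn h3 hSL habs hcomm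
  obtain ⟨p, f, _, _, hf, hF⟩ := exists_char_card (F := F)
  have hp : p.Prime := Fact.out
  have hq : n ∣ p ^ f - 1 := by
    rw [← hF]
    exact hη.dvd_of_pow_eq_one _ (FiniteField.pow_card_sub_one_eq_one η (hη.ne_zero hn.ne_zero))
  have hex : ∃ d, 0 < d ∧ n ∣ p ^ d - 1 := ⟨f, hf, hq⟩
  set e := Nat.find hex with he
  obtain ⟨he0, hne⟩ : 0 < e ∧ n ∣ p ^ e - 1 := Nat.find_spec hex
  have hmin : ∀ d, 0 < d → d < e → ¬ n ∣ p ^ d - 1 := fun d h1 h2 h3 => Nat.find_min hex h2 ⟨h1, h3⟩
  have hef : e ∣ f := by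
    have h1 : n ∣ p ^ (Nat.gcd e f) - 1 := by
      rw [← Nat.pow_sub_one_gcd_pow_sub_one]
      exact Nat.dvd_gcd hne hq
    have h2 : e ≤ Nat.gcd e f := by
      by_contra hlt
      exact hmin _ (Nat.gcd_pos_of_pos_left _ he0) (by omega) h1
    have h3 := le_antisymm (Nat.le_of_dvd he0 (Nat.gcd_dvd_left e f)) h2
    exact h3 ▸ Nat.gcd_dvd_right e f
  have hpow : ∀ (c : F) (k : ℕ), c ^ n = 1 → n ∣ k → c ^ k = 1 := by
    rintro c _ hc ⟨m, rfl⟩
    rw [pow_mul, hc, one_pow]
  rcases (Nat.le_of_dvd hf hef).lt_or_eq with hlt | heq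
  · -- realisable over a proper subfield
    left
    refine ⟨fixedField p e, ?_, P⁻¹, ?_⟩
    · intro htop
      have := card_fixedField (F := F) he0 hef hF
      rw [htop, Nat.card_congr (Equiv.subtypeUnivEquiv fun x => Subfield.mem_top x), Nat.card_eq_fintype_card, hF] at this
      exact hlt.ne (Nat.pow_right_injective hp.two_le this.symm)
    · intro s hs i j
      obtain ⟨z, hz, rfl⟩ := mem_matrixSet.mp hs
      obtain ⟨π, c, hc, hzc⟩ := hmono z hz
      rw [inv_inv, ← Units.val_mul, ← Units.val_mul, hzc]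
      split
      · rw [mem_fixedField]
        have h1 : 1 ≤ p ^ e := Nat.one_le_pow _ _ hp.pos
        rw [← Nat.sub_add_cancel h1, pow_succ, hpow _ _ (hc j) hne, one_mul]
      · exact zero_mem _
  rcases Nat.even_or_odd e with ⟨h, hh⟩ | hodd
  · -- a unitary form
    right; left
    have hh0 : 0 < h := by omega
    have hh' : n ∣ p ^ h + 1 := by
      have h1 : 1 ≤ p ^ h := Nat.one_le_pow _ _ hp.pos
      have h2 : p ^ e - 1 = (p ^ h + 1) * (p ^ h - 1) := by
        rw [hh, pow_add]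
        simpa [sq] using Nat.sq_sub_sq (p ^ h) 1
      rw [h2] at hne
      exact (hn.dvd_mul.mp hne).resolve_right (hmin h hh0 (by omega))
    let σ : F ≃+* F := RingEquiv.ofBijective (frob p h)
      (Finite.injective_iff_bijective.mp (frob p h : F →+* F).injective)
    have hσ : ∀ x : F, σ x = x ^ p ^ h := fun x => frob_apply p h x
    have hinvol : ∀ a : F, σ (σ a) = a := by
      intro a
      rw [hσ, hσ, ← pow_mul, ← pow_add, ← hh, heq, ← hF, FiniteField.pow_card]
    refine ⟨σ, fun u v => ∑ i, ((P⁻¹ : GL (Fin n) F).val *ᵥ u) i * σ (((P⁻¹ : GL (Fin n) F).val *ᵥ v) i),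
      ⟨?_, hinvol, ?_, ?_, ?_, ?_⟩, ?_⟩
    · intro hid
      have hfix : ∀ x : F, x ^ p ^ h = x := fun x => by rw [← hσ, hid]; rfl
      have hle := card_pow_eq_self_le (F := F) (k := p ^ h) (le_trans hp.two_le (Nat.le_self_pow hh0.ne' p))
      rw [Nat.card_congr (Equiv.subtypeUnivEquiv hfix), Nat.card_eq_fintype_card, hF] at hle
      exact absurd hle (not_le.mpr (Nat.pow_lt_pow_right hp.one_lt (by omega)))
    · intro a b v
      simp only [Matrix.mulVec_add, Pi.add_apply, add_mul, Finset.sum_add_distrib]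
    · intro c a v
      simp only [Matrix.mulVec_smul, Pi.smul_apply, smul_eq_mul, mul_assoc, Finset.mul_sum]
    · intro v w
      rw [map_sum]
      exact Finset.sum_congr rfl fun i _ => by rw [map_mul, hinvol, mul_comm]
    · intro v hv
      obtain ⟨a, ha⟩ : ∃ a, ((P⁻¹ : GL (Fin n) F).val *ᵥ v) a ≠ 0 := by
        by_contra! h0
        apply hv
        rw [← mulVec_inv_cancel P v, show (P⁻¹ : GL (Fin n) F).val *ᵥ v = 0 from funext h0, Matrix.mulVec_zero]
      refine ⟨⟨P.val *ᵥ Pi.single a 1, ?_⟩, ⟨P.val *ᵥ Pi.single a 1, ?_⟩⟩ <;> beta_reduce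
      · rw [inv_mulVec_cancel, Finset.sum_eq_single a (fun b _ hb => by simp [hb]) (by simp)]
        simpa using ha
      · rw [inv_mulVec_cancel, Finset.sum_eq_single a (fun b _ hb => by simp [hb]) (by simp)]
        simpa using ha
    · intro s hs u v
      obtain ⟨z, hz, rfl⟩ := mem_matrixSet.mp hs
      obtain ⟨π, c, hc, hzc⟩ := hmono z hz
      have hact : ∀ w : Fin n → F, ∀ j, ((P⁻¹ : GL (Fin n) F).val *ᵥ (z.val *ᵥ w)) (π j)
          = c j * ((P⁻¹ : GL (Fin n) F).val *ᵥ w) j := by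
        intro w j
        have h1 : (P⁻¹ : GL (Fin n) F).val *ᵥ (z.val *ᵥ w)
            = ((P⁻¹ * z * P : GL (Fin n) F) : Matrix (Fin n) (Fin n) F) *ᵥ ((P⁻¹ : GL (Fin n) F).val *ᵥ w) := by
          rw [Units.val_mul, Units.val_mul, ← Matrix.mulVec_mulVec, ← Matrix.mulVec_mulVec, mulVec_inv_cancel]
        rw [h1, Matrix.mulVec, dotProduct, Finset.sum_eq_single j (fun b _ hb => by rw [hzc]; simp [Ne.symm hb]) (by simp), hzc]
        simp
      beta_reduce
      rw [← Equiv.sum_comp π]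
      refine Finset.sum_congr rfl fun j _ => ?_
      rw [hact, hact, map_mul]
      have h1 : c j * σ (c j) = 1 := by rw [hσ, ← pow_succ', hpow _ _ (hc j) hh']
      calc c j * ((P⁻¹ : GL (Fin n) F).val *ᵥ u) j * (σ (c j) * σ (((P⁻¹ : GL (Fin n) F).val *ᵥ v) j))
          = (c j * σ (c j)) * (((P⁻¹ : GL (Fin n) F).val *ᵥ u) j * σ (((P⁻¹ : GL (Fin n) F).val *ᵥ v) j)) := by ring
        _ = _ := by rw [h1, one_mul]
  · -- symplectic type data
    right; right
    refine ⟨isSymplecticType hn h3 hexp hcard hchar, habs, p, e, ?_, ⟨hp, inferInstance, by rw [hF, heq], by rw [hcc]; exact hne,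
      by rw [hcc]; exact hmin⟩, Or.inl ⟨hn.odd_of_ne_two (by omega), hodd, hcc, 1, le_rfl, hcard⟩⟩
    intro hnp
    subst hnp
    have h1 : 1 ≤ n ^ e := Nat.one_le_pow _ _ hn.pos
    have h2 : n ∣ n ^ e := dvd_pow_self n he0.ne'
    have h3 := Nat.dvd_sub h2 hne
    rw [Nat.sub_sub_self h1] at h3
    exact hn.not_dvd_one h3

/-- The five structural cases for an irreducible subgroup in odd prime dimension. -/
theorem structural (hn : n.Prime) (H : Subgroup (GL (Fin n) F)) (hH : Irred H) :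
    (∃ D : Fin n → Submodule F (Fin n → F), IsMDecomposition 1 D ∧ H ≤ decompositionStabilizer D ∧
      ∃ N : Subgroup (GL (Fin n) F), N ≤ H ∧
        ∃ χ : Fin n → N → F, Function.Injective χ ∧ ∀ i, D i ≤ eigSpace N (χ i)) ∨
    (∃ N : Subgroup (GL (Fin n) F), N ≤ H ∧ NormalizedBy H N ∧ ¬ N ≤ scalars (Fin n) F ∧ Irred N ∧
      IsFieldSubalgebra n (commutant N)) ∨
    (∃ N : Subgroup (GL (Fin n) F), N ≤ H ∧ NormalizedBy H N ∧ ActsAbsolutelyIrreducibly (matrixSet N) ∧
      ⁅N, N⁆ ≤ scalars (Fin n) F ∧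
      ∀ A : Subgroup N, A.Characteristic → IsMulCommutative A → A.map N.subtype ≤ scalars (Fin n) F) ∨
    (∃ P : Subgroup (GL (Fin n) F), P ≤ H ∧ NormalizedBy H P ∧ ActsAbsolutelyIrreducibly (matrixSet P) ∧
      ⁅P, P⁆ = P ∧ IsSimpleGroup (P ⧸ (scalars (Fin n) F).subgroupOf P) ∧
      ¬ IsMulCommutative (P ⧸ (scalars (Fin n) F).subgroupOf P) ∧
      ∀ h ∈ H, (∀ x ∈ P, h * x * h⁻¹ * x⁻¹ ∈ scalars (Fin n) F) → h ∈ scalars (Fin n) F) := by
  classical
  have hn' : (Fintype.card (Fin n)).Prime := by rwa [Fintype.card_fin]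
  have h2 : 2 ≤ Fintype.card (Fin n) := hn'.two_le
  -- a minimal normalised non-scalar subgroup
  obtain ⟨N, ⟨hNH, hNn, hNs⟩, hNmin⟩ := WellFounded.has_min (wellFounded_lt (α := Subgroup (GL (Fin n) F)))
    {N | N ≤ H ∧ NormalizedBy H N ∧ ¬ N ≤ scalars (Fin n) F}
    ⟨H, le_rfl, fun h hh x hx => mul_mem (mul_mem hh hx) (inv_mem hh), not_le_scalars h2 hH⟩
  have hmin : ∀ M : Subgroup (GL (Fin n) F), M ≤ N → NormalizedBy H M → M ≤ scalars (Fin n) F ∨ M = N := by
    intro M hM hMn
    by_contra! hc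
    exact hNmin M ⟨hM.trans hNH, hMn, hc.1⟩ (lt_of_le_of_ne hM hc.2)
  have cast : ∀ {m : ℕ}, m = n → (∃ D : Fin m → Submodule F (Fin n → F), IsMDecomposition 1 D ∧ H ≤ decompositionStabilizer D ∧
      ∃ N : Subgroup (GL (Fin n) F), N ≤ H ∧
        ∃ χ : Fin m → N → F, Function.Injective χ ∧ ∀ i, D i ≤ eigSpace N (χ i)) →
      ∃ D : Fin n → Submodule F (Fin n → F), IsMDecomposition 1 D ∧ H ≤ decompositionStabilizer D ∧
      ∃ N : Subgroup (GL (Fin n) F), N ≤ H ∧
        ∃ χ : Fin n → N → F, Function.Injective χ ∧ ∀ i, D i ≤ eigSpace N (χ i) := by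
    rintro m rfl h; exact h
  rcases clifford hn' hH hNn with h | hNirr | ⟨D, hD, hle, -, hχ⟩
  · exact absurd h hNs
  rotate_left
  · exact Or.inl (cast (Fintype.card_fin n) ⟨D, hD, hle, N, hNH, hχ⟩)
  rcases abs_or_field hn' hNirr with habs | hK
  rotate_left
  · exact Or.inr (Or.inl ⟨N, hNH, hNn, hNs, hNirr, by simpa using hK⟩)
  rcases hmin ⁅N, N⁆ (Subgroup.commutator_le_self N) (fun h hh => commutator_map_le (hNn h hh)) with hc | hperf
  · refine Or.inr (Or.inr (Or.inl ⟨N, hNH, hNn, habs, hc, fun A hA hAc => ?_⟩))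
    have hnorm : NormalizedBy H (A.map N.subtype) := by
      rintro g hg _ ⟨a, ha, rfl⟩
      let φ : N ≃* N :=
        { toFun := fun x => ⟨g * x * g⁻¹, hNn g hg x x.2⟩
          invFun := fun x => ⟨g⁻¹ * x * g, by simpa using hNn g⁻¹ (inv_mem hg) x x.2⟩
          left_inv := fun x => Subtype.ext (by simp [mul_assoc])
          right_inv := fun x => Subtype.ext (by simp [mul_assoc])
          map_mul' := fun x y => Subtype.ext (by simp [mul_assoc]) }
      refine ⟨φ a, ?_, rfl⟩
      have hA' := hA.fixed φ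
      rw [← hA'] at ha
      simpa using ha
    rcases hmin (A.map N.subtype) (Subgroup.map_subtype_le A) hnorm with h | h
    · exact h
    · exfalso
      have hAtop : A = ⊤ := by
        refine Subgroup.map_injective N.subtype_injective ?_
        rw [h, ← MonoidHom.range_eq_map, Subgroup.range_subtype]
      apply hNs
      intro x hx
      obtain ⟨c, hc'⟩ := habs.2 x.val (fun s hs => by
        obtain ⟨y, hy, rfl⟩ := mem_matrixSet.mp hs
        have hxA : (⟨x, hx⟩ : N) ∈ A := hAtop ▸ Subgroup.mem_top _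
        have hyA : (⟨y, hy⟩ : N) ∈ A := hAtop ▸ Subgroup.mem_top _
        have := hAc.is_comm.comm ⟨_, hxA⟩ ⟨_, hyA⟩
        exact congrArg (fun t : A => ((t : N) : GL (Fin n) F).val) this)
      have hc0 : c ≠ 0 := by
        intro h0
        rw [h0, zero_smul] at hc'
        haveI : Nonempty (Fin n) := ⟨⟨0, hn.pos⟩⟩
        exact x.ne_zero hc'
      exact (mem_scalars_iff x).mpr ⟨Units.mk0 c hc0, hc'⟩
  -- N is perfect
  have hZc : ∀ z ∈ scalars (Fin n) F, ∀ x : GL (Fin n) F, z * x = x * z := fun z hz x => scalar_comm hz x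
  have hNN : NormalizedBy N N := fun a ha x hx => mul_mem (mul_mem ha hx) (inv_mem ha)
  obtain ⟨S, ⟨hSN, hSn, hSs⟩, hSmin⟩ := WellFounded.has_min (wellFounded_lt (α := Subgroup (GL (Fin n) F)))
    {S | S ≤ N ∧ NormalizedBy N S ∧ ¬ S ≤ scalars (Fin n) F} ⟨N, le_rfl, hNN, hNs⟩
  have hSmin' : ∀ M : Subgroup (GL (Fin n) F), M ≤ S → NormalizedBy N M → M ≤ scalars (Fin n) F ∨ M = S := by
    intro M hM hMn
    by_contra! hc
    exact hSmin M ⟨hM.trans hSN, hMn, hc.1⟩ (lt_of_le_of_ne hM hc.2)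
  -- conjugates
  let C : H → Subgroup (GL (Fin n) F) := fun h => S.map (MulAut.conj (h : GL (Fin n) F)).toMonoidHom
  have hmemC : ∀ (h : H) x, x ∈ C h ↔ (h : GL (Fin n) F)⁻¹ * x * h ∈ S := by
    intro h x
    constructor
    · rintro ⟨s, hs, rfl⟩
      simpa [mul_assoc] using hs
    · intro hs
      exact ⟨_, hs, by simp [mul_assoc]⟩
  have hCN : ∀ h, C h ≤ N := by
    intro h x hx
    simpa [mul_assoc] using hNn _ h.2 _ (hSN ((hmemC h x).mp hx))
  have hCn : ∀ h, NormalizedBy N (C h) := by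
    intro h a ha x hx
    rw [hmemC] at hx ⊢
    have := hSn _ (by simpa using hNn _ (inv_mem h.2) a ha) _ hx
    simpa [mul_assoc] using this
  have hCs : ∀ h, ¬ C h ≤ scalars (Fin n) F := by
    intro h hle
    apply hSs
    intro s hs
    have h1 : (h : GL (Fin n) F) * s * (h : GL (Fin n) F)⁻¹ ∈ scalars (Fin n) F :=
      hle ((hmemC h _).mpr (by simpa [mul_assoc] using hs))
    have h2 := hZc _ h1 (h : GL (Fin n) F)
    have h3 : (h : GL (Fin n) F) * s * (h : GL (Fin n) F)⁻¹ = s := by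
      calc (h : GL (Fin n) F) * s * (h : GL (Fin n) F)⁻¹
          = (h : GL (Fin n) F)⁻¹ * ((h : GL (Fin n) F) * ((h : GL (Fin n) F) * s * (h : GL (Fin n) F)⁻¹)) := by group
        _ = s := by rw [← h2]; group
    rwa [h3] at h1
  have hCgen : ⨆ h, C h = N := by
    have hnorm : NormalizedBy H (⨆ h, C h) := by
      intro g hg x hx
      have hle : (⨆ h, C h).map (MulAut.conj g).toMonoidHom ≤ ⨆ h, C h := by
        rw [Subgroup.map_iSup]
        refine iSup_le fun h => le_trans ?_ (le_iSup C (⟨g, hg⟩ * h))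
        rintro _ ⟨y, hy, rfl⟩
        rw [hmemC]
        simpa [mul_assoc] using (hmemC h y).mp hy
      exact hle ⟨x, hx, by simp⟩
    rcases hmin (⨆ h, C h) (iSup_le hCN) hnorm with h | h
    · exact absurd ((le_iSup C 1).trans h) (hCs 1)
    · exact h
  -- S is normalised by H, hence equals N
  have hSN' : S = N := by
    by_contra hne
    obtain ⟨h, hh⟩ : ∃ h, C h ≠ S := by
      by_contra! hall
      exact hne (by rw [← hCgen]; simp [hall])
    rcases hSmin' ⁅S, S⁆ (Subgroup.commutator_le_self S) (fun a ha => commutator_map_le (hSn a ha)) with hab | hSperf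
    · -- all commutators of N are scalar
      apply hNs
      rw [← hperf]
      set π := QuotientGroup.mk' (scalars (Fin n) F) with hπ
      have hker : ∀ A B : Subgroup (GL (Fin n) F), ⁅A, B⁆ ≤ scalars (Fin n) F ↔ ∀ a ∈ A, ∀ b ∈ B, π a * π b = π b * π a := by
        intro A B
        rw [Subgroup.commutator_le]
        refine forall₂_congr fun a _ => forall₂_congr fun b _ => ?_
        rw [← QuotientGroup.eq_one_iff]
        show π ⁅a, b⁆ = 1 ↔ _
        rw [map_commutatorElement, commutatorElement_eq_one_iff_mul_comm]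
      have hpair : ∀ h k, ⁅C h, C k⁆ ≤ scalars (Fin n) F := by
        intro h k
        by_cases hhk : C h = C k
        · rw [← hhk, ← Subgroup.map_commutator]
          rintro _ ⟨x, hx, rfl⟩
          obtain ⟨c, hc⟩ := (mem_scalars_iff x).mp (hab hx)
          rw [show (MulAut.conj (h : GL (Fin n) F)).toMonoidHom x = x from by
            simp [← hZc x (hab hx) (h : GL (Fin n) F), mul_assoc]]
          exact hab hx
        · have hle : ⁅C h, C k⁆ ≤ C h ⊓ C k := by
            rw [Subgroup.commutator_le]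
            intro a ha b hb
            refine ⟨?_, ?_⟩
            · have := mul_mem ha (hCn h b (hCN k hb) _ (inv_mem ha))
              simpa [commutatorElement_def, mul_assoc] using this
            · have := mul_mem (hCn k a (hCN h ha) b hb) (inv_mem hb)
              simpa [commutatorElement_def, mul_assoc] using this
          have hmin_h : ∀ M : Subgroup (GL (Fin n) F), M ≤ C h → NormalizedBy N M → M ≤ scalars (Fin n) F ∨ M = C h := by
            intro M hM hMn
            have hn1 : M.map (MulAut.conj (h : GL (Fin n) F)⁻¹).toMonoidHom ≤ S := by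
              rintro _ ⟨x, hx, rfl⟩
              simpa using (hmemC h x).mp (hM hx)
            have hn2 : NormalizedBy N (M.map (MulAut.conj (h : GL (Fin n) F)⁻¹).toMonoidHom) := by
              rintro a ha _ ⟨x, hx, rfl⟩
              refine ⟨(h : GL (Fin n) F) * a * (h : GL (Fin n) F)⁻¹ * x * ((h : GL (Fin n) F) * a * (h : GL (Fin n) F)⁻¹)⁻¹,
                hMn _ (hNn _ h.2 a ha) x hx, ?_⟩
              simp [mul_assoc]
            rcases hSmin' (M.map (MulAut.conj (h : GL (Fin n) F)⁻¹).toMonoidHom) hn1 hn2 with h1 | h1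
            · left
              intro x hx
              have h2 := h1 ⟨x, hx, rfl⟩
              have h3 := hZc _ h2 (h : GL (Fin n) F)⁻¹
              simp only [MulEquiv.coe_toMonoidHom, MulAut.conj_apply, inv_inv] at h2 h3
              have h4 : (h : GL (Fin n) F)⁻¹ * x * (h : GL (Fin n) F) = x := by
                calc (h : GL (Fin n) F)⁻¹ * x * (h : GL (Fin n) F)
                    = (h : GL (Fin n) F) * ((h : GL (Fin n) F)⁻¹ * ((h : GL (Fin n) F)⁻¹ * x * (h : GL (Fin n) F))) := by group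
                  _ = x := by rw [← h3]; group
              rwa [h4] at h2
            · right
              refine le_antisymm hM fun x hx => ?_
              rw [hmemC, ← h1] at hx
              obtain ⟨y, hy, hyx⟩ := hx
              have : y = x := by simpa [mul_assoc] using hyx
              exact this ▸ hy
          rcases hmin_h (C h ⊓ C k) inf_le_left (fun a ha x hx => ⟨hCn h a ha x hx.1, hCn k a ha x hx.2⟩) with h1 | h1
          · exact hle.trans h1
          · exfalso
            apply hhk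
            refine SetLike.coe_injective (Set.eq_of_subset_of_ncard_le (fun x hx => ((h1.symm ▸ hx : x ∈ C h ⊓ C k)).2) ?_)
            rw [← Nat.card_coe_set_eq, ← Nat.card_coe_set_eq]
            exact le_of_eq ((Subgroup.card_map_of_injective (MulEquiv.injective _)).trans
              (Subgroup.card_map_of_injective (MulEquiv.injective _)).symm)
      rw [hker]
      intro a ha b hb
      have h1 : ∀ k, C k ≤ (Subgroup.centralizer (π '' (N : Set (GL (Fin n) F)))).comap π := by
        intro k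
        have h2 : N ≤ (Subgroup.centralizer (π '' (C k : Set (GL (Fin n) F)))).comap π := by
          rw [← hCgen]
          refine iSup_le fun j x hx => ?_
          rw [Subgroup.mem_comap, Subgroup.mem_centralizer_iff]
          rintro _ ⟨y, hy, rfl⟩
          exact (hker _ _).mp (hpair k j) y hy x hx
        intro x hx
        rw [Subgroup.mem_comap, Subgroup.mem_centralizer_iff]
        rintro _ ⟨y, hy, rfl⟩
        exact (Subgroup.mem_centralizer_iff.mp (h2 hy) _ ⟨x, hx, rfl⟩).symm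
      have h3 : a ∈ (Subgroup.centralizer (π '' (N : Set (GL (Fin n) F)))).comap π := by
        rw [← hCgen] at ha
        exact (iSup_le h1) ha
      exact (Subgroup.mem_centralizer_iff.mp h3 _ ⟨b, hb, rfl⟩).symm
    · -- S is perfect, so commutes with its conjugate
      set T := C h with hT
      have hcs : ∀ b ∈ T, ∀ x ∈ S, b * x = x * b := by
        intro b hb
        refine perfect_centralizes hSperf hZc fun x hx => ?_
        have hmem : b * x * b⁻¹ * x⁻¹ ∈ S ⊓ T := by
          refine Subgroup.mem_inf.mpr ⟨mul_mem (hSn b (hCN h hb) x hx) (inv_mem hx), ?_⟩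
          have := mul_mem hb (hCn h x (hSN hx) b⁻¹ (T.inv_mem hb))
          simpa [mul_assoc] using this
        rcases hSmin' (S ⊓ T) inf_le_left (fun a ha y hy => ⟨hSn a ha y hy.1, hCn h a ha y hy.2⟩) with h1 | h1
        · exact h1 hmem
        · exfalso
          apply hh
          refine (SetLike.coe_injective (Set.eq_of_subset_of_ncard_le (fun y hy => ((h1.symm ▸ hy : y ∈ S ⊓ T)).2) ?_)).symm
          rw [← Nat.card_coe_set_eq, ← Nat.card_coe_set_eq]
          exact le_of_eq (Subgroup.card_map_of_injective (MulEquiv.injective _))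
      have hnoncomm : ¬ ∀ x ∈ T, ∀ y ∈ T, x * y = y * x := by
        intro hcomm
        apply hSs
        rw [← hSperf, Subgroup.commutator_le]
        intro a ha b hb
        have := hcomm ((h : GL (Fin n) F) * a * (h : GL (Fin n) F)⁻¹) ((hmemC h _).mpr (by simpa [mul_assoc] using ha))
          ((h : GL (Fin n) F) * b * (h : GL (Fin n) F)⁻¹) ((hmemC h _).mpr (by simpa [mul_assoc] using hb))
        have hab : a * b = b * a := by
          refine mul_right_cancel (b := (h : GL (Fin n) F)⁻¹) ?_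
          simpa [mul_assoc] using this
        rw [commutatorElement_eq_one_iff_mul_comm.mpr hab]
        exact one_mem _
      rcases clifford hn' (irred_iff.mp habs.1) hSn with h1 | hSirr | ⟨_, _, _, hcommS, -⟩
      · exact hSs h1
      · apply hnoncomm
        intro x hx y hy
        have hK := (haveI : Nonempty (Fin n) := ⟨⟨0, hn.pos⟩⟩; commutant_comm (H := S) hSirr)
        exact Units.ext (hK _ (mem_commutant.mpr fun s hs => (congrArg Units.val (hcs x hx s hs)).symm)
          _ (mem_commutant.mpr fun s hs => (congrArg Units.val (hcs y hy s hs)).symm))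
      · apply hSs
        rw [← hSperf, Subgroup.commutator_le]
        intro a ha b hb
        rw [commutatorElement_eq_one_iff_mul_comm.mpr (hcommS a ha b hb)]
        exact one_mem _
  subst hSN'
  refine Or.inr (Or.inr (Or.inr ⟨S, hNH, hNn, habs, hperf, ?_, ?_, ?_⟩))
  · haveI : Nontrivial (S ⧸ (scalars (Fin n) F).subgroupOf S) := by
      obtain ⟨x, hx, hxs⟩ := Set.not_subset.mp (hNs : ¬ (S : Set (GL (Fin n) F)) ⊆ scalars (Fin n) F)
      exact ⟨⟨(⟨x, hx⟩ : S), 1, fun h => hxs (by simpa [QuotientGroup.eq_one_iff, Subgroup.mem_subgroupOf] using h)⟩⟩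
    constructor
    intro M hM
    let M' := M.comap (QuotientGroup.mk' ((scalars (Fin n) F).subgroupOf S))
    have hM'n : M'.Normal := Subgroup.Normal.comap hM _
    have hnorm : NormalizedBy S (M'.map S.subtype) := by
      rintro a ha _ ⟨x, hx, rfl⟩
      exact ⟨⟨a, ha⟩ * x * (⟨a, ha⟩ : S)⁻¹, hM'n.conj_mem x hx _, rfl⟩
    rcases hSmin' (M'.map S.subtype) (Subgroup.map_subtype_le M') hnorm with h1 | h1
    · left
      rw [eq_bot_iff]
      intro q hq
      obtain ⟨x, rfl⟩ := QuotientGroup.mk'_surjective _ q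
      rw [Subgroup.mem_bot]
      exact (QuotientGroup.eq_one_iff x).mpr (h1 ⟨x, hq, rfl⟩)
    · right
      rw [eq_top_iff]
      intro q _
      obtain ⟨x, rfl⟩ := QuotientGroup.mk'_surjective _ q
      have : (x : GL (Fin n) F) ∈ M'.map S.subtype := h1.symm ▸ x.2
      obtain ⟨y, hy, hyx⟩ := this
      exact (Subtype.ext hyx : y = x) ▸ hy
  · intro hcomm
    apply hNs
    conv_lhs => rw [← hperf]
    rw [Subgroup.commutator_le]
    intro a ha b hb
    have h1 : QuotientGroup.mk' ((scalars (Fin n) F).subgroupOf S) ⁅(⟨a, ha⟩ : S), ⟨b, hb⟩⁆ = 1 := by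
      rw [map_commutatorElement, commutatorElement_eq_one_iff_mul_comm]
      exact hcomm.is_comm.comm _ _
    exact (QuotientGroup.eq_one_iff (N := (scalars (Fin n) F).subgroupOf S) _).mp h1
  · intro g _ hgx
    have hc := perfect_centralizes hperf hZc hgx
    obtain ⟨c, hc'⟩ := habs.2 g.val (fun s hs => by
      obtain ⟨x, hx, rfl⟩ := mem_matrixSet.mp hs
      exact congrArg Units.val (hc x hx))
    have hc0 : c ≠ 0 := by
      intro h0
      rw [h0, zero_smul] at hc'
      haveI : Nonempty (Fin n) := ⟨⟨0, hn.pos⟩⟩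
      exact g.ne_zero hc'
    exact (mem_scalars_iff g).mpr ⟨Units.mk0 c hc0, hc'⟩

/-- The possible outcomes for a subgroup of `SL(n, F)`. -/
def Conclusion (n : ℕ) (H : Subgroup (GL (Fin n) F)) : Prop :=
  (∃ W : Submodule F (Fin n → F), W ≠ ⊥ ∧ W ≠ ⊤ ∧ H ≤ subspaceStabilizer W) ∨
  (∃ D : Fin n → Submodule F (Fin n → F), IsMDecomposition 1 D ∧ H ≤ decompositionStabilizer D) ∨
  (∃ K : Subalgebra F (Matrix (Fin n) (Fin n) F), IsFieldSubalgebra n K ∧ H ≤ subalgebraNormalizer K) ∨
  (∃ (F₀ : Subfield F) (r : ℕ) (P : GL (Fin n) F), r.Prime ∧ Fintype.card F = Nat.card F₀ ^ r ∧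
    H ≤ subfieldSubgroup F₀ P) ∨
  (∃ R : Subgroup (GL (Fin n) F), IsLinearSymplecticTypeData n R ∧ R ≤ specialLinear (Fin n) F ∧
    ⁅R, R⁆ ≤ scalars (Fin n) F ∧ H ≤ subgroupNormalizer R) ∨
  (Odd (Fintype.card F) ∧ ∃ Q : (Fin n → F) → F, IsNondegenerateQuadraticForm Q ∧ H ≤ quadSimilarityGroup Q) ∨
  (∃ (σ : F ≃+* F) (f : (Fin n → F) → (Fin n → F) → F), IsUnitaryForm σ f ∧ H ≤ similarityGroup f) ∨
  InLinearResidualClass H

theorem main (hn : n.Prime) (h3 : 3 ≤ n) (H : Subgroup (GL (Fin n) F)) (hSL : H ≤ specialLinear (Fin n) F) :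
    Conclusion n H := by
  classical
  by_cases hH : Irred H
  swap
  · simp only [Irred, not_forall, not_or] at hH
    obtain ⟨W, hW, h1, h2⟩ := hH
    exact Or.inl ⟨W, h1, h2, invariant_le_stab hW⟩
  have hodd : Odd (Fintype.card (Fin n)) := by rw [Fintype.card_fin]; exact hn.odd_of_ne_two (by omega)
  rcases structural hn H hH with ⟨D, hD, hle, -⟩ | ⟨N, -, hNn, -, -, hK⟩ | ⟨N, hNH, hNn, habs, hcomm, hchar⟩ |
      ⟨P, hPH, hPn, habs, hperf, hsimp, hnab, hcent⟩
  · exact Or.inr (Or.inl ⟨D, hD, hle⟩)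
  · exact Or.inr (Or.inr (Or.inl ⟨_, hK, le_subalgebraNormalizer_commutant hNn⟩))
  · rcases symplectic_case hn h3 (hNH.trans hSL) habs hcomm hchar with ⟨F₀, hne, hr⟩ | ⟨σ, f, hf, hfix⟩ | hdata
    · exact Or.inr (Or.inr (Or.inr (Or.inl (normalizer_le_prime_subfield hNn habs hne hr))))
    · exact Or.inr (Or.inr (Or.inr (Or.inr (Or.inr (Or.inr (Or.inl ⟨σ, f, hf,
        le_similarityGroup (σ := (σ : F →+* F)) σ.bijective (isSesqui_of_unitary hf) hf.nondegenerate hNn habs hfix⟩))))))
    · exact Or.inr (Or.inr (Or.inr (Or.inr (Or.inl ⟨N, hdata, hNH.trans hSL, hcomm, le_normalizer hNn⟩))))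
  · by_cases hsub : ∃ F₀ : Subfield F, F₀ ≠ ⊤ ∧ RealisableOver F₀ (matrixSet P)
    · obtain ⟨F₀, hne, hr⟩ := hsub
      exact Or.inr (Or.inr (Or.inr (Or.inl (normalizer_le_prime_subfield hPn habs hne hr))))
    by_cases hQ : ∃ Q : (Fin n → F) → F, IsNondegenerateQuadraticForm Q ∧ FixesQuadForm (matrixSet P) Q
    · obtain ⟨Q, hQ, hfix⟩ := hQ
      have hF := odd_card_of_quadratic hodd hQ
      exact Or.inr (Or.inr (Or.inr (Or.inr (Or.inr (Or.inl ⟨hF, Q, hQ, le_quadSimilarityGroup hF hQ hPn habs hfix⟩)))))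
    by_cases hU : ∃ (σ : F ≃+* F) (f : (Fin n → F) → (Fin n → F) → F), IsUnitaryForm σ f ∧ FixesForm (matrixSet P) f
    · obtain ⟨σ, f, hf, hfix⟩ := hU
      exact Or.inr (Or.inr (Or.inr (Or.inr (Or.inr (Or.inr (Or.inl ⟨σ, f, hf,
        le_similarityGroup (σ := (σ : F →+* F)) σ.bijective (isSesqui_of_unitary hf) hf.nondegenerate hPn habs hfix⟩))))))
    push Not at hsub
    exact Or.inr (Or.inr (Or.inr (Or.inr (Or.inr (Or.inr (Or.inr ⟨P,
      ⟨hPH, hPn, hperf, hsimp, hnab, hcent, habs, fun F₀ h1 h2 => hsub F₀ h1 h2⟩, hQ,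
      fun ⟨f, hf, _⟩ => not_symplectic hodd f hf, hU⟩))))))

end Cfsg.Agent.Lib.PrimeDim.Main
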