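import Cfsg.Agent.Lib.PrimeDim.Fields

set_option autoImplicit false
set_option linter.style.haveILetI false

/-!
Absolutely irreducible subgroups of `SL(n, F)`, `n` an odd prime, whose commutators are scalar: they are monomial
extraspecial groups of order `n ^ 3`.
-/

namespace Cfsg.Agent.Lib.PrimeDim.Symplectic

open Cfsg.Geo Cfsg.Agent.Lib.PrimeDim.Basic Cfsg.Agent.Lib.PrimeDim.Fields
open scoped Matrix MatrixGroups

section general

variable {ι : Type} [Fintype ι] [DecidableEq ι] {F : Type*} [Field F]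

lemma scalar_comm {u : GL ι F} (hu : u ∈ scalars ι F) (g : GL ι F) : u * g = g * u := by
  obtain ⟨c, hc⟩ := (mem_scalars_iff u).mp hu
  apply Units.ext
  rw [Units.val_mul, Units.val_mul, hc, Matrix.smul_mul, Matrix.mul_smul, one_mul, mul_one]

lemma val_scalar_mul {u g : GL ι F} {c : Fˣ} (hc : (u : Matrix ι ι F) = (c : F) • 1) :
    ((u * g : GL ι F) : Matrix ι ι F) = (c : F) • (g : Matrix ι ι F) := by
  rw [Units.val_mul, hc, Matrix.smul_mul, one_mul]

lemma mem_specialLinear {g : GL ι F} : g ∈ specialLinear ι F ↔ (g : Matrix ι ι F).det = 1 := by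
  unfold specialLinear
  rw [MonoidHom.mem_ker, Units.ext_iff]
  rfl

lemma pow_mul_eq {c : F} {A B : Matrix ι ι F} (h : A * B = c • (B * A)) (k : ℕ) :
    A * B ^ k = c ^ k • (B ^ k * A) := by
  induction k with
  | zero => simp
  | succ k ih =>
    rw [pow_succ, ← mul_assoc, ih, Matrix.smul_mul, mul_assoc (B ^ k), h, Matrix.mul_smul, smul_smul, pow_succ,
      mul_assoc]

lemma not_le_scalars (h2 : 2 ≤ Fintype.card ι) {N : Subgroup (GL ι F)} (hN : Irred N) :
    ¬ N ≤ scalars ι F := by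
  intro hle
  haveI : Nonempty ι := Fintype.card_pos_iff.mp (by omega)
  obtain ⟨i⟩ := ‹Nonempty ι›
  set v : ι → F := Pi.single i 1 with hv
  have hinv : Invariant N (Submodule.span F {v}) := by
    intro g hg w hw
    obtain ⟨c, hc⟩ := (mem_scalars_iff g).mp (hle hg)
    rw [hc, Matrix.smul_mulVec, Matrix.one_mulVec]
    exact Submodule.smul_mem _ _ hw
  have hv0 : v ≠ 0 := by simp [hv]
  rcases hN _ hinv with h | h
  · exact hv0 (by simpa [Submodule.span_singleton_eq_bot] using h)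
  · have := congrArg (fun W : Submodule F (ι → F) => Module.finrank F W) h
    simp only [finrank_span_singleton hv0, finrank_top, Module.finrank_pi] at this
    omega

end general

variable {n : ℕ} {F : Type*} [Field F]

/-- In an absolutely irreducible group with scalar commutators inside `SL`, the commutation factors are `n`-th roots
of unity. -/
lemma comm_factor {N : Subgroup (GL (Fin n) F)} (hSL : N ≤ specialLinear (Fin n) F)
    (hcomm : ⁅N, N⁆ ≤ scalars (Fin n) F) {a b : GL (Fin n) F} (ha : a ∈ N) (hb : b ∈ N) :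
    ∃ c : F, c ^ n = 1 ∧ (b : Matrix (Fin n) (Fin n) F) * (a : Matrix (Fin n) (Fin n) F) = c • ((a : Matrix (Fin n) (Fin n) F) * (b : Matrix (Fin n) (Fin n) F)) := by
  have hmem : b * a * b⁻¹ * a⁻¹ ∈ scalars (Fin n) F := hcomm (Subgroup.commutator_mem_commutator hb ha)
  obtain ⟨c, hc⟩ := (mem_scalars_iff _).mp hmem
  have h1 : ((b * a * b⁻¹ * a⁻¹ * (a * b) : GL (Fin n) F) : Matrix (Fin n) (Fin n) F)
      = (c : F) • ((a : Matrix (Fin n) (Fin n) F) * (b : Matrix (Fin n) (Fin n) F)) := by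
    rw [val_scalar_mul hc, Units.val_mul]
  have h2 : b * a * b⁻¹ * a⁻¹ * (a * b) = b * a := by group
  rw [h2, Units.val_mul] at h1
  refine ⟨c, ?_, h1⟩
  have := congrArg Matrix.det h1
  rw [Matrix.det_mul, Matrix.det_smul, Matrix.det_mul, mem_specialLinear.mp (hSL ha),
    mem_specialLinear.mp (hSL hb), Fintype.card_fin] at this
  simpa using this.symm

/-- The facts about one non-scalar element. -/
lemma elem_facts [Fintype F] (hn : n.Prime) (h3 : 3 ≤ n) {N : Subgroup (GL (Fin n) F)}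
    (hSL : N ≤ specialLinear (Fin n) F) (habs : ActsAbsolutelyIrreducibly (matrixSet N))
    (hcomm : ⁅N, N⁆ ≤ scalars (Fin n) F) {x : GL (Fin n) F} (hx : x ∈ N) (hxs : x ∉ scalars (Fin n) F) :
    ∃ (y : GL (Fin n) F) (ω : F), y ∈ N ∧ IsPrimitiveRoot ω n ∧
      (y : Matrix (Fin n) (Fin n) F) * (x : Matrix (Fin n) (Fin n) F) = ω • ((x : Matrix (Fin n) (Fin n) F) * (y : Matrix (Fin n) (Fin n) F)) ∧
      (LinearIndependent F fun k : Fin n => (x : Matrix (Fin n) (Fin n) F) ^ (k : ℕ)) ∧ x ^ n = 1 := by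
  haveI : Nonempty (Fin n) := ⟨⟨0, hn.pos⟩⟩
  haveI := Fact.mk hn
  obtain ⟨y, hy, hne⟩ : ∃ y ∈ N, (y : Matrix (Fin n) (Fin n) F) * x.val ≠ x.val * y.val := by
    by_contra! h
    obtain ⟨c, hc⟩ := habs.2 x.val (fun s hs => by
      obtain ⟨y, hy, rfl⟩ := mem_matrixSet.mp hs
      exact (h y hy).symm)
    have hc0 : c ≠ 0 := by
      intro h0
      rw [h0, zero_smul] at hc
      exact x.ne_zero hc
    exact hxs ((mem_scalars_iff x).mpr ⟨Units.mk0 c hc0, hc⟩)
  obtain ⟨ω, hω, hyx⟩ := comm_factor hSL hcomm hx hy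
  have hω1 : ω ≠ 1 := by
    rintro rfl
    exact hne (by rw [hyx, one_smul])
  have hprim : IsPrimitiveRoot ω n := by
    have := orderOf_eq_prime hω hω1
    exact this ▸ IsPrimitiveRoot.orderOf ω
  have hxk : ∀ k : ℕ, (x : Matrix (Fin n) (Fin n) F) ^ k ≠ 0 := fun k => by
    rw [← Units.val_pow_eq_pow_val]
    exact Units.ne_zero _
  set T : Module.End F (Matrix (Fin n) (Fin n) F) :=
    (LinearMap.mulLeft F (y : Matrix (Fin n) (Fin n) F)).comp (LinearMap.mulRight F ((y⁻¹ : GL (Fin n) F) : Matrix (Fin n) (Fin n) F))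
    with hT
  have hind : LinearIndependent F fun k : Fin n => (x : Matrix (Fin n) (Fin n) F) ^ (k : ℕ) := by
    refine Module.End.eigenvectors_linearIndependent' T (fun k : Fin n => ω ^ (k : ℕ)) ?_ _ ?_
    · intro a b hab
      exact Fin.ext (hprim.pow_inj a.isLt b.isLt hab)
    · intro k
      refine ⟨?_, hxk _⟩
      rw [Module.End.mem_eigenspace_iff]
      show y.val * (x.val ^ (k : ℕ) * (y⁻¹ : GL (Fin n) F).val) = _
      rw [← mul_assoc, pow_mul_eq hyx, Matrix.smul_mul, mul_assoc, Units.mul_inv, mul_one]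
  refine ⟨y, ω, hy, hprim, hyx, hind, ?_⟩
  obtain ⟨c, hc⟩ := habs.2 (x.val ^ n) (fun s hs => by
    obtain ⟨z, hz, rfl⟩ := mem_matrixSet.mp hs
    obtain ⟨d, hd, hzx⟩ := comm_factor hSL hcomm hx hz
    rw [pow_mul_eq hzx, hd, one_smul])
  have hcp : (x.val).charpoly = Polynomial.X ^ n - Polynomial.C c := by
    set q : Polynomial F := (x.val).charpoly - (Polynomial.X ^ n - Polynomial.C c) with hq
    have haev : Polynomial.aeval x.val q = 0 := by
      simp [hq, Matrix.aeval_self_charpoly, hc, Algebra.algebraMap_eq_smul_one]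
    have hdeg : q.degree < n := by
      have h1 : (x.val).charpoly.degree = n := by simp
      have h2 : (Polynomial.X ^ n - Polynomial.C c : Polynomial F).degree = n := Polynomial.degree_X_pow_sub_C hn.pos c
      have := Polynomial.degree_sub_lt (h1.trans h2.symm) (Matrix.charpoly_monic _).ne_zero
        ((Matrix.charpoly_monic _).leadingCoeff.trans (Polynomial.leadingCoeff_X_pow_sub_C hn.pos).symm)
      rwa [h1] at this
    suffices q = 0 from sub_eq_zero.mp this
    ext k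
    rw [Polynomial.coeff_zero]
    by_cases hk : k < n
    · by_cases hq0 : q = 0
      · simp [hq0]
      rw [Polynomial.aeval_eq_sum_range' (n := n) ((Polynomial.natDegree_lt_iff_degree_lt hq0).mpr hdeg),
        ← Fin.sum_univ_eq_sum_range (fun i => q.coeff i • x.val ^ i) n] at haev
      exact Fintype.linearIndependent_iff.mp hind (fun i => q.coeff i) haev ⟨k, hk⟩
    · exact Polynomial.coeff_eq_zero_of_degree_lt (lt_of_lt_of_le hdeg (by exact_mod_cast not_lt.mp hk))
  have hdet : (x.val).det = c := by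
    rw [Matrix.det_eq_sign_charpoly_coeff, hcp, Fintype.card_fin, (hn.odd_of_ne_two (by omega)).neg_one_pow]
    simp [hn.ne_zero.symm]
  rw [mem_specialLinear.mp (hSL hx)] at hdet
  apply Units.ext
  rw [Units.val_pow_eq_pow_val, hc, ← hdet, one_smul, Units.val_one]

/-- Every element has order dividing `n`. -/
lemma pow_eq_one [Fintype F] (hn : n.Prime) (h3 : 3 ≤ n) {N : Subgroup (GL (Fin n) F)}
    (hSL : N ≤ specialLinear (Fin n) F) (habs : ActsAbsolutelyIrreducibly (matrixSet N))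
    (hcomm : ⁅N, N⁆ ≤ scalars (Fin n) F) {z : GL (Fin n) F} (hz : z ∈ N) : z ^ n = 1 := by
  by_cases h : z ∈ scalars (Fin n) F
  · obtain ⟨c, hc⟩ := (mem_scalars_iff z).mp h
    have hd := mem_specialLinear.mp (hSL hz)
    rw [hc, Matrix.det_smul, Matrix.det_one, mul_one, Fintype.card_fin] at hd
    apply Units.ext
    rw [Units.val_pow_eq_pow_val, hc, smul_pow, one_pow, hd, one_smul, Units.val_one]
  · obtain ⟨_, _, _, _, _, _, h⟩ := elem_facts hn h3 hSL habs hcomm hz h
    exact h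

/-- A coordinate frame for the group. -/
structure Frame (N : Subgroup (GL (Fin n) F)) where
  /-- The change of basis. -/
  P : GL (Fin n) F
  /-- The root of unity. -/
  η : F
  prim : IsPrimitiveRoot η n
  exp : ∀ z ∈ N, z ^ n = 1
  card : Nat.card N = n ^ 3
  card_center : Nat.card (Subgroup.center N) = n
  center_scalar : ∀ z : N, z ∈ Subgroup.center N → (z : GL (Fin n) F) ∈ scalars (Fin n) F
  diag : ∃ x ∈ N, ((P⁻¹ * x * P : GL (Fin n) F) : Matrix (Fin n) (Fin n) F) = Matrix.diagonal fun i : Fin n => η ^ (i : ℕ)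
  mono : ∀ z ∈ N, ∃ (π : Equiv.Perm (Fin n)) (c : Fin n → F), (∀ i, c i ^ n = 1) ∧
    ∀ i j, ((P⁻¹ * z * P : GL (Fin n) F) : Matrix (Fin n) (Fin n) F) i j = if i = π j then c j else 0

theorem exists_frame [Fintype F] (hn : n.Prime) (h3 : 3 ≤ n) {N : Subgroup (GL (Fin n) F)}
    (hSL : N ≤ specialLinear (Fin n) F) (habs : ActsAbsolutelyIrreducibly (matrixSet N))
    (hcomm : ⁅N, N⁆ ≤ scalars (Fin n) F) : Nonempty (Frame N) := by
  classical
  haveI : NeZero n := ⟨hn.ne_zero⟩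
  haveI : Nonempty (Fin n) := ⟨⟨0, hn.pos⟩⟩
  haveI := Fact.mk hn
  obtain ⟨x, hx, hxs⟩ := Set.not_subset.mp
    (not_le_scalars (by simpa using hn.two_le) (irred_iff.mp habs.1) : ¬ (N : Set (GL (Fin n) F)) ⊆ scalars (Fin n) F)
  obtain ⟨y, ω, hy, hω, hyx, hind, hxn⟩ := elem_facts hn h3 hSL habs hcomm hx hxs
  have hω0 : ω ≠ 0 := hω.ne_zero hn.ne_zero
  have hη : IsPrimitiveRoot ω⁻¹ n := hω.inv
  set η := ω⁻¹ with hηdef
  have hxy : x.val * y.val = η • (y.val * x.val) := by
    rw [hyx, smul_smul, hηdef, inv_mul_cancel₀ hω0, one_smul]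
  have hyn := pow_eq_one hn h3 hSL habs hcomm hy
  -- a fixed vector of x
  set S : Matrix (Fin n) (Fin n) F := ∑ k : Fin n, x.val ^ (k : ℕ) with hS
  have hS0 : S ≠ 0 := by
    intro h0
    have := Fintype.linearIndependent_iff.mp hind (fun _ => 1) (by simpa [hS] using h0) ⟨0, hn.pos⟩
    exact one_ne_zero this
  obtain ⟨u, hu⟩ : ∃ u, S *ᵥ u ≠ 0 := by
    by_contra! h
    exact hS0 (Matrix.ext_of_mulVec_single fun i => by rw [h, Matrix.zero_mulVec])
  set v : Fin n → F := S *ᵥ u with hv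
  have hxS : x.val * S = S := by
    have h1 : (x.val - 1) * S = x.val ^ n - 1 := by
      rw [hS, Fin.sum_univ_eq_sum_range (fun i => x.val ^ i) n, mul_geom_sum]
    rw [← Units.val_pow_eq_pow_val, hxn, Units.val_one, sub_self, sub_mul, one_mul, sub_eq_zero] at h1
    exact h1
  have hxv : x.val *ᵥ v = v := by rw [hv, Matrix.mulVec_mulVec, hxS]
  let vb : ℕ → (Fin n → F) := fun k => (y.val ^ k) *ᵥ v
  have hxvb : ∀ k, x.val *ᵥ vb k = η ^ k • vb k := by
    intro k
    simp only [vb]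
    rw [Matrix.mulVec_mulVec, pow_mul_eq hxy, Matrix.smul_mulVec, ← Matrix.mulVec_mulVec, hxv]
  have hvb0 : ∀ k, vb k ≠ 0 := by
    intro k h
    have := congrArg (fun w => ((y ^ k)⁻¹ : GL (Fin n) F).val *ᵥ w) h
    simp only [vb, ← Units.val_pow_eq_pow_val, inv_mulVec_cancel, Matrix.mulVec_zero] at this
    exact hu this
  have hvbmod : ∀ k, vb k = vb (k % n) := by
    intro k
    simp only [vb, ← Units.val_pow_eq_pow_val]
    rw [← pow_eq_pow_mod k hyn]
  let vs : Fin n → (Fin n → F) := fun i => vb i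
  have hvs : LinearIndependent F vs := by
    refine Module.End.eigenvectors_linearIndependent' (Matrix.toLin' x.val) (fun k : Fin n => η ^ (k : ℕ)) ?_ _ ?_
    · intro a b hab
      exact Fin.ext (hη.pow_inj a.isLt b.isLt hab)
    · intro k
      exact ⟨Module.End.mem_eigenspace_iff.mpr (by simpa [vs] using hxvb k), hvb0 _⟩
  set M : Matrix (Fin n) (Fin n) F := Matrix.of fun a i => vs i a with hM
  have hMu : IsUnit M := Matrix.linearIndependent_cols_iff_isUnit.mp (show LinearIndependent F M.col from hvs)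
  set P : GL (Fin n) F := hMu.unit with hP
  have hPcol : ∀ i, P.val *ᵥ Pi.single i 1 = vs i := by
    intro i
    rw [Matrix.mulVec_single_one]
    rfl
  have hPinv : ∀ i, (P⁻¹ : GL (Fin n) F).val *ᵥ vs i = Pi.single i 1 := fun i => by
    rw [← hPcol, inv_mulVec_cancel]
  have hPvb : ∀ k, (P⁻¹ : GL (Fin n) F).val *ᵥ vb k = Pi.single (Fin.ofNat n k) 1 := fun k => by
    rw [hvbmod, ← hPinv]
    rfl
  -- eigenspaces of x are lines
  have hline : ∀ (w : Fin n → F) (s : Fin n), x.val *ᵥ w = η ^ (s : ℕ) • w → ∃ l : F, w = l • vs s := by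
    intro w s hw
    set a := (P⁻¹ : GL (Fin n) F).val *ᵥ w with ha
    have hwa : w = ∑ i, a i • vs i := by
      rw [← mulVec_inv_cancel P w, ← ha]
      conv_lhs => rw [pi_eq_sum_univ' a]
      rw [Matrix.mulVec_sum]
      simp only [Matrix.mulVec_smul, hPcol]
    have hzero : ∑ i, (a i * (η ^ (i : ℕ) - η ^ (s : ℕ))) • vs i = 0 := by
      calc ∑ i, (a i * (η ^ (i : ℕ) - η ^ (s : ℕ))) • vs i
          = x.val *ᵥ w - η ^ (s : ℕ) • w := by
            rw [hwa, Matrix.mulVec_sum, Finset.smul_sum, ← Finset.sum_sub_distrib]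
            refine Finset.sum_congr rfl fun i _ => ?_
            rw [Matrix.mulVec_smul, hxvb, smul_smul, smul_smul, ← sub_smul]
            congr 1
            ring
        _ = 0 := by rw [hw, sub_self]
    refine ⟨a s, ?_⟩
    rw [hwa]
    refine Fintype.sum_eq_single s fun i hi => ?_
    rcases mul_eq_zero.mp (Fintype.linearIndependent_iff.mp hvs _ hzero i) with h | h
    · simp [h]
    · exact absurd (Fin.ext (hη.pow_inj i.isLt s.isLt (sub_eq_zero.mp h))) hi
  have hiter : ∀ (k : ℕ) (z : Matrix (Fin n) (Fin n) F) (l : F), z *ᵥ v = l • v → (z ^ k) *ᵥ v = l ^ k • v := by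
    intro k z l h
    induction k with
    | zero => simp
    | succ k ih => rw [pow_succ, ← Matrix.mulVec_mulVec, h, Matrix.mulVec_smul, ih, smul_smul, pow_succ, mul_comm]
  have hscalv : ∀ z ∈ N, ∀ l : F, z.val *ᵥ v = l • v → l ^ n = 1 := by
    intro z hz l hl
    have h := hiter n z.val l hl
    rw [← Units.val_pow_eq_pow_val, pow_eq_one hn h3 hSL habs hcomm hz, Units.val_one, Matrix.one_mulVec] at h
    exact smul_left_injective F hu (h.symm.trans (one_smul F v).symm)
  -- normal form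
  have normal : ∀ z ∈ N, ∃ (s : Fin n) (l d : F), l ^ n = 1 ∧ d ^ n = 1 ∧
      (z.val * y.val = d • (y.val * z.val)) ∧ ∀ i : ℕ, z.val *ᵥ vb i = (d ^ i * l) • vb (i + s) := by
    intro z hz
    obtain ⟨c, hc, hxz⟩ := comm_factor hSL hcomm hz hx
    obtain ⟨d, hd, hzy⟩ := comm_factor hSL hcomm hy hz
    obtain ⟨s, hs, hcs⟩ := hη.eq_pow_of_pow_eq_one hc
    have hzv : x.val *ᵥ (z.val *ᵥ v) = η ^ s • (z.val *ᵥ v) := by
      rw [Matrix.mulVec_mulVec, hxz, ← hcs, Matrix.smul_mulVec, ← Matrix.mulVec_mulVec, hxv]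
    obtain ⟨l, hl⟩ := hline _ ⟨s, hs⟩ hzv
    change z.val *ᵥ v = l • vb s at hl
    refine ⟨⟨s, hs⟩, l, d, ?_, hd, hzy, fun i => ?_⟩
    · refine hscalv ((y ^ s)⁻¹ * z) (mul_mem (inv_mem (pow_mem hy s)) hz) l ?_
      rw [Units.val_mul, ← Matrix.mulVec_mulVec, hl, Matrix.mulVec_smul]
      simp only [vb, ← Units.val_pow_eq_pow_val, inv_mulVec_cancel]
    · simp only [vb]
      rw [Matrix.mulVec_mulVec, pow_mul_eq hzy, Matrix.smul_mulVec, ← Matrix.mulVec_mulVec, hl,
        Matrix.mulVec_smul, smul_smul]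
      simp only [vb]
      rw [Matrix.mulVec_mulVec, ← pow_add]
  -- scalars in the group
  have hwmem : y * x * y⁻¹ * x⁻¹ ∈ N := mul_mem (mul_mem (mul_mem hy hx) (inv_mem hy)) (inv_mem hx)
  set w : GL (Fin n) F := y * x * y⁻¹ * x⁻¹ with hwdef
  have hwval : w.val = ω • 1 := by
    have h1 : w = (y * x) * (x * y)⁻¹ := by rw [hwdef]; group
    rw [h1, Units.val_mul, Units.val_mul, hyx, ← Units.val_mul x y, Matrix.smul_mul, Units.mul_inv]
  have hwk : ∀ k : ℕ, (w ^ k).val = ω ^ k • 1 := fun k => by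
    rw [Units.val_pow_eq_pow_val, hwval, smul_pow, one_pow]
  have hwscal : ∀ k : ℕ, w ^ k ∈ scalars (Fin n) F := fun k => by
    rw [mem_scalars_iff]
    exact ⟨Units.mk0 _ (pow_ne_zero k hω0), hwk k⟩
  -- the parametrisation
  let φ : Fin n × Fin n × Fin n → N := fun t =>
    ⟨w ^ (t.1 : ℕ) * y ^ (t.2.1 : ℕ) * x ^ (t.2.2 : ℕ), mul_mem (mul_mem (pow_mem hwmem _) (pow_mem hy _)) (pow_mem hx _)⟩
  have hxpow : ∀ a k : ℕ, (x.val ^ a) *ᵥ vb k = (η ^ k) ^ a • vb k := by
    intro a k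
    induction a with
    | zero => simp
    | succ a ih => rw [pow_succ', ← Matrix.mulVec_mulVec, ih, Matrix.mulVec_smul, hxvb, smul_smul, ← pow_succ]
  have hφv : ∀ (t : Fin n × Fin n × Fin n) (k : ℕ), ((φ t : N) : GL (Fin n) F).val *ᵥ vb k
      = (ω ^ (t.1 : ℕ) * (η ^ k) ^ (t.2.2 : ℕ)) • vb (t.2.1 + k) := by
    intro t k
    simp only [φ, Units.val_mul, hwk, Units.val_pow_eq_pow_val x, Units.val_pow_eq_pow_val y]
    rw [← Matrix.mulVec_mulVec, hxpow, Matrix.mulVec_smul, Matrix.smul_mul, one_mul, Matrix.smul_mulVec]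
    simp only [vb]
    rw [Matrix.mulVec_mulVec, ← pow_add, smul_smul, mul_comm]
  have hsingle : ∀ {l l' : F} {i j : Fin n}, l ≠ 0 → l • (Pi.single i 1 : Fin n → F) = l' • Pi.single j 1 → i = j ∧ l = l' := by
    intro l l' i j hl h
    have h1 := congrFun h i
    simp only [Pi.smul_apply, Pi.single_eq_same, smul_eq_mul, mul_one, Pi.single_apply, mul_ite, mul_zero] at h1
    split_ifs at h1 with h2
    · exact ⟨h2, h1⟩
    · exact absurd h1 hl
  have hφinj : Function.Injective φ := by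
    intro t t' h
    have h0 := congrArg (fun z : N => (P⁻¹ : GL (Fin n) F).val *ᵥ ((z : GL (Fin n) F).val *ᵥ vb 0)) h
    have h1 := congrArg (fun z : N => (P⁻¹ : GL (Fin n) F).val *ᵥ ((z : GL (Fin n) F).val *ᵥ vb 1)) h
    simp only [hφv, Matrix.mulVec_smul, hPvb, pow_zero, one_pow, mul_one, add_zero, pow_one] at h0 h1
    obtain ⟨hb, hk⟩ := hsingle (pow_ne_zero _ hω0) h0
    obtain ⟨-, ha⟩ := hsingle (mul_ne_zero (pow_ne_zero _ hω0) (pow_ne_zero _ (inv_ne_zero hω0))) h1
    rw [hk] at ha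
    have ha' := mul_left_cancel₀ (pow_ne_zero _ hω0) ha
    refine Prod.ext (Fin.ext (hω.pow_inj t.1.isLt t'.1.isLt hk)) (Prod.ext ?_ (Fin.ext (hη.pow_inj t.2.2.isLt t'.2.2.isLt ha')))
    simpa [Fin.ext_iff, Nat.mod_eq_of_lt] using hb
  have hφsurj : Function.Surjective φ := by
    intro z
    obtain ⟨s, l, d, hl, hd, -, hz⟩ := normal z z.2
    obtain ⟨k, hk, rfl⟩ := hω.eq_pow_of_pow_eq_one hl
    obtain ⟨a, ha, rfl⟩ := hη.eq_pow_of_pow_eq_one hd
    refine ⟨⟨⟨k, hk⟩, s, ⟨a, ha⟩⟩, ?_⟩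
    apply Subtype.ext
    apply Units.ext
    apply hMu.mul_left_injective
    apply Matrix.ext_of_mulVec_single
    intro i
    rw [← Matrix.mulVec_mulVec, ← Matrix.mulVec_mulVec, show M *ᵥ Pi.single i 1 = vs i from hPcol i]
    simp only [vs]
    rw [hφv, hz, add_comm]
    congr 1
    ring
  have hcard : Nat.card N = n ^ 3 := by
    rw [← Nat.card_eq_of_bijective φ ⟨hφinj, hφsurj⟩]
    simp [Nat.card_prod]
    ring
  -- centre
  have hcs : ∀ z : N, z ∈ Subgroup.center N → (z : GL (Fin n) F) ∈ scalars (Fin n) F ∧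
      ∃ k < n, (z : GL (Fin n) F) = w ^ k := by
    intro z hz
    have hzy := congrArg (fun t : N => (t : GL (Fin n) F).val) (Subgroup.mem_center_iff.mp hz ⟨y, hy⟩)
    have hzx := congrArg (fun t : N => (t : GL (Fin n) F).val) (Subgroup.mem_center_iff.mp hz ⟨x, hx⟩)
    simp only [Subgroup.coe_mul, Units.val_mul] at hzy hzx
    obtain ⟨l, hl⟩ := hline ((z : GL (Fin n) F).val *ᵥ v) ⟨0, hn.pos⟩
      (by rw [Matrix.mulVec_mulVec, hzx, ← Matrix.mulVec_mulVec, hxv]; simp)
    simp only [vs, vb, pow_zero, Matrix.one_mulVec] at hl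
    obtain ⟨k, hk, rfl⟩ := hω.eq_pow_of_pow_eq_one (hscalv _ z.2 l hl)
    have : (z : GL (Fin n) F) = w ^ k := by
      apply Units.ext
      rw [hwk]
      apply hMu.mul_left_injective
      apply Matrix.ext_of_mulVec_single
      intro i
      rw [← Matrix.mulVec_mulVec, ← Matrix.mulVec_mulVec, show M *ᵥ Pi.single i 1 = vs i from hPcol i,
        Matrix.smul_mulVec, Matrix.one_mulVec]
      simp only [vs, vb]
      rw [Matrix.mulVec_mulVec, (Commute.pow_left hzy _).symm.eq, ← Matrix.mulVec_mulVec, hl, Matrix.mulVec_smul]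
    exact ⟨this ▸ hwscal k, k, hk, this⟩
  have hcc : Nat.card (Subgroup.center N) = n := by
    let ψ : Fin n → Subgroup.center N := fun k => ⟨⟨w ^ (k : ℕ), pow_mem hwmem _⟩, by
      rw [Subgroup.mem_center_iff]
      exact fun g => Subtype.ext (scalar_comm (hwscal k) g).symm⟩
    have hψ : Function.Bijective ψ := by
      refine ⟨fun a b h => ?_, fun z => ?_⟩
      · have h' := congrArg (fun t : Subgroup.center N => (((t : N) : GL (Fin n) F) : Matrix (Fin n) (Fin n) F) ⟨0, hn.pos⟩ ⟨0, hn.pos⟩) h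
        simp only [ψ, hwk] at h'
        exact Fin.ext (hω.pow_inj a.isLt b.isLt (by simpa using h'))
      · obtain ⟨-, k, hk, hzk⟩ := hcs _ z.2
        exact ⟨⟨k, hk⟩, Subtype.ext (Subtype.ext hzk.symm)⟩
    rw [← Nat.card_eq_of_bijective ψ hψ, Nat.card_fin]
  refine ⟨⟨P, η, hη, fun z hz => pow_eq_one hn h3 hSL habs hcomm hz, hcard, hcc, fun z hz => (hcs z hz).1,
    ⟨x, hx, ?_⟩, ?_⟩⟩
  · apply Matrix.ext_of_mulVec_single
    intro i
    rw [Units.val_mul, Units.val_mul, ← Matrix.mulVec_mulVec, ← Matrix.mulVec_mulVec, hPcol]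
    simp only [vs]
    rw [hxvb, Matrix.mulVec_smul, hPinv]
    funext j
    simp [Matrix.diagonal_apply, Pi.single_apply]
  · intro z hz
    obtain ⟨s, l, d, hl, hd, -, hzv⟩ := normal z hz
    refine ⟨Equiv.addRight s, fun j => d ^ (j : ℕ) * l, fun j => by rw [mul_pow, ← pow_mul, mul_comm (j : ℕ), pow_mul, hd, one_pow, one_mul, hl], fun i j => ?_⟩
    have h1 : ((P⁻¹ * z * P : GL (Fin n) F) : Matrix (Fin n) (Fin n) F) *ᵥ Pi.single j 1
        = (d ^ (j : ℕ) * l) • Pi.single (j + s) 1 := by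
      rw [Units.val_mul, Units.val_mul, ← Matrix.mulVec_mulVec, ← Matrix.mulVec_mulVec, hPcol]
      simp only [vs]
      rw [hzv, Matrix.mulVec_smul, hPvb]
      congr 2
    have h2 := congrFun h1 i
    rw [Matrix.mulVec_single_one] at h2
    refine h2.trans ?_
    by_cases h : i = j + s <;> simp [Pi.single_apply, h]

end Cfsg.Agent.Lib.PrimeDim.Symplectic
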