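import Cfsg.Agent.Lib.PrimeDim.Proper

set_option autoImplicit false
set_option linter.style.haveILetI false

/-!
Small fields: monomial groups over fields with fewer than five elements, and the congruence conditions attached to
symplectic-type data.
-/

namespace Cfsg.Agent.Lib.PrimeDim.Small

open Cfsg.Geo Cfsg.Agent.Lib.PrimeDim.Basic Cfsg.Agent.Lib.PrimeDim.Fields Cfsg.Agent.Lib.PrimeDim.Symplectic
open Cfsg.Agent.Lib.PrimeDim.Proper
open scoped Matrix MatrixGroups

variable {n : ℕ} {F : Type*} [Field F] [Fintype F]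

lemma monomial_basis {D : Fin n → Submodule F (Fin n → F)} (hD : IsMDecomposition 1 D) :
    ∃ P : GL (Fin n) F, ∀ g ∈ decompositionStabilizer D, ∃ (σ : Equiv.Perm (Fin n)) (c : Fin n → F),
      (∀ i, c i ≠ 0) ∧ ∀ i, (g : Matrix (Fin n) (Fin n) F) *ᵥ (P.val *ᵥ Pi.single i 1) = c i • (P.val *ᵥ Pi.single (σ i) 1) := by
  classical
  have hne : ∀ i, D i ≠ ⊥ := fun i hb => by
    have := hD.finrank_eq i
    rw [hb, finrank_bot] at this
    exact zero_ne_one this
  choose v hv hv0 using fun i => Submodule.exists_mem_ne_zero_of_ne_bot (hne i)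
  have hli : LinearIndependent F v := hD.indep.linearIndependent _ hv hv0
  have hu : IsUnit (Matrix.of fun a i => v i a : Matrix (Fin n) (Fin n) F) :=
    Matrix.linearIndependent_cols_iff_isUnit.mp (show LinearIndependent F (Matrix.of fun a i => v i a).col from hli)
  have hP : ∀ i, hu.unit.val *ᵥ Pi.single i 1 = v i := fun i => by
    rw [Matrix.mulVec_single_one]
    rfl
  refine ⟨hu.unit, fun g hg => ?_⟩
  obtain ⟨σ, hσ⟩ := hg
  have hsp : ∀ i, D i = Submodule.span F {v i} := fun i =>
    (Submodule.eq_of_le_of_finrank_le ((Submodule.span_singleton_le_iff_mem _ _).mpr (hv i))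
      (by rw [hD.finrank_eq, finrank_span_singleton (hv0 i)])).symm
  have hex : ∀ i, ∃ c : F, c ≠ 0 ∧ (g : Matrix (Fin n) (Fin n) F) *ᵥ v i = c • v (σ i) := by
    intro i
    have h1 : (g : Matrix (Fin n) (Fin n) F) *ᵥ v i ∈ D (σ i) := hσ i ▸ ⟨v i, hv i, by simp⟩
    rw [hsp, Submodule.mem_span_singleton] at h1
    obtain ⟨c, hc⟩ := h1
    refine ⟨c, fun h0 => hv0 i ?_, hc.symm⟩
    rw [h0, zero_smul] at hc
    rw [← inv_mulVec_cancel g (v i), ← hc, Matrix.mulVec_zero]
  choose c hc0 hc using hex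
  exact ⟨σ, c, hc0, fun i => by rw [hP, hP, hc]⟩

lemma coord_perm {P g : GL (Fin n) F} {σ : Equiv.Perm (Fin n)} {c : Fin n → F}
    (h : ∀ i, (g : Matrix (Fin n) (Fin n) F) *ᵥ (P.val *ᵥ Pi.single i 1) = c i • (P.val *ᵥ Pi.single (σ i) 1))
    (v : Fin n → F) (i : Fin n) :
    ((P⁻¹ : GL (Fin n) F).val *ᵥ ((g : Matrix (Fin n) (Fin n) F) *ᵥ v)) (σ i) = c i * ((P⁻¹ : GL (Fin n) F).val *ᵥ v) i := by
  classical
  set w := (P⁻¹ : GL (Fin n) F).val *ᵥ v with hw
  have hv : v = P.val *ᵥ ∑ j, w j • (Pi.single j 1 : Fin n → F) := by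
    rw [← pi_eq_sum_univ' w, hw, mulVec_inv_cancel]
  rw [hv, Matrix.mulVec_sum, Matrix.mulVec_sum, Matrix.mulVec_sum, Finset.sum_apply,
    Finset.sum_eq_single i]
  · simp only [Matrix.mulVec_smul, h, inv_mulVec_cancel, Pi.smul_apply, smul_eq_mul, Pi.single_eq_same, mul_one]
    rw [mul_comm]
  · intro j _ hj
    simp only [Matrix.mulVec_smul, h, inv_mulVec_cancel, Pi.smul_apply, smul_eq_mul]
    rw [Pi.single_eq_of_ne (fun h => hj (σ.injective h).symm)]
    simp
  · simp

/-- Monomial groups over fields with two, three or four elements lie in other geometric classes. -/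
lemma monomial_small (hn : 3 ≤ n) (hq : Fintype.card F < 5) {D : Fin n → Submodule F (Fin n → F)}
    (hD : IsMDecomposition 1 D) :
    (∃ W : Submodule F (Fin n → F), W ≠ ⊥ ∧ W ≠ ⊤ ∧ decompositionStabilizer D ≤ subspaceStabilizer W) ∨
    (Odd (Fintype.card F) ∧ ∃ Q : (Fin n → F) → F, IsNondegenerateQuadraticForm Q ∧
      decompositionStabilizer D ≤ quadSimilarityGroup Q) ∨
    (∃ (σ : F ≃+* F) (f : (Fin n → F) → (Fin n → F) → F), IsUnitaryForm σ f ∧
      decompositionStabilizer D ≤ similarityGroup f) := by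
  classical
  obtain ⟨P, hP⟩ := monomial_basis hD
  have h2 := Fintype.one_lt_card (α := F)
  have hfer : ∀ c : F, c ≠ 0 → c ^ (Fintype.card F - 1) = 1 := fun c hc => FiniteField.pow_card_sub_one_eq_one c hc
  haveI : Nonempty (Fin n) := ⟨⟨0, by omega⟩⟩
  rcases (show Fintype.card F = 2 ∨ Fintype.card F = 3 ∨ Fintype.card F = 4 by omega) with h | h | h
  · left
    set u : Fin n → F := P.val *ᵥ ∑ i, Pi.single i 1 with hu
    have hu0 : u ≠ 0 := by
      intro h0
      have h1 := congrFun (congrArg (fun w => (P⁻¹ : GL (Fin n) F).val *ᵥ w) h0) ⟨0, by omega⟩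
      rw [hu] at h1
      simp [inv_mulVec_cancel, Finset.sum_apply, Pi.single_apply] at h1
    refine ⟨Submodule.span F {u}, by simpa using hu0, fun htop => ?_, invariant_le_stab fun g hg w hw => ?_⟩
    · have h1 := congrArg (fun W : Submodule F (Fin n → F) => Module.finrank F W) htop
      simp only [finrank_span_singleton hu0, finrank_top, Module.finrank_fin_fun] at h1
      omega
    · obtain ⟨σ, c, hc0, hc⟩ := hP g hg
      obtain ⟨a, rfl⟩ := Submodule.mem_span_singleton.mp hw
      have hfix : g.val *ᵥ u = u := by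
        rw [hu, Matrix.mulVec_sum, Matrix.mulVec_sum]
        simp only [hc]
        have hc1 : ∀ i, c i = 1 := fun i => by simpa [h] using hfer _ (hc0 i)
        simp only [hc1, one_smul]
        exact Equiv.sum_comp σ (fun i => P.val *ᵥ (Pi.single i 1 : Fin n → F))
      rw [Matrix.mulVec_smul, hfix]
      exact Submodule.smul_mem _ _ (Submodule.mem_span_singleton_self u)
  · right; left
    have hodd : Odd (Fintype.card F) := by rw [h]; decide
    let w : (Fin n → F) → Fin n → F := fun v => (P⁻¹ : GL (Fin n) F).val *ᵥ v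
    have hwP : ∀ a, w (P.val *ᵥ Pi.single a 1) = Pi.single a 1 := fun a => inv_mulVec_cancel _ _
    have hw_add : ∀ a b i, w (a + b) i = w a i + w b i := fun a b i => by simp [w, Matrix.mulVec_add]
    have hw_smul : ∀ (c : F) a i, w (c • a) i = c * w a i := fun c a i => by simp [w, Matrix.mulVec_smul]
    refine ⟨hodd, fun v => ∑ i, w v i ^ 2, ⟨?_, ?_, ?_⟩, ?_⟩
    · intro c v
      simp only [hw_smul, mul_pow, ← Finset.mul_sum]
    · constructor <;> intros <;>
        simp only [QuadraticMap.polar, ← Finset.sum_sub_distrib, ← Finset.sum_add_distrib, Finset.mul_sum, hw_add, hw_smul] <;>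
        exact Finset.sum_congr rfl fun i _ => by ring
    · have hpol : ∀ a b, QuadraticMap.polar (fun v => ∑ i, w v i ^ 2) a b = ∑ i, 2 * (w a i * w b i) := by
        intro a b
        simp only [QuadraticMap.polar, ← Finset.sum_sub_distrib, hw_add]
        exact Finset.sum_congr rfl fun i _ => by ring
      have h20 : (2 : F) ≠ 0 := by
        intro h0
        have hc : ringChar F = 2 := (Nat.prime_dvd_prime_iff_eq
          (CharP.char_prime_of_ne_zero F (CharP.ringChar_ne_zero_of_finite F)) Nat.prime_two).mp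
            ((ringChar.spec F 2).mp (by exact_mod_cast h0))
        have := FiniteField.even_card_iff_char_two.mp hc
        omega
      intro v hv
      obtain ⟨a, ha⟩ : ∃ a, w v a ≠ 0 := by
        by_contra! h0
        apply hv
        rw [← mulVec_inv_cancel P v, show (P⁻¹ : GL (Fin n) F).val *ᵥ v = 0 from funext h0, Matrix.mulVec_zero]
      refine ⟨⟨P.val *ᵥ Pi.single a 1, ?_⟩, ⟨P.val *ᵥ Pi.single a 1, ?_⟩⟩
      · rw [hpol, Finset.sum_eq_single a (fun b _ hb => by rw [hwP]; simp [hb]) (by simp), hwP]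
        simpa [h20] using ha
      · rw [hpol, Finset.sum_eq_single a (fun b _ hb => by rw [hwP]; simp [hb]) (by simp), hwP]
        simpa [h20] using ha
    · intro g hg
      obtain ⟨σ, c, hc0, hc⟩ := hP g hg
      refine ⟨1, fun v => ?_⟩
      beta_reduce
      rw [Units.val_one, one_mul, ← Equiv.sum_comp σ]
      refine Finset.sum_congr rfl fun i _ => ?_
      simp only [w, coord_perm hc, mul_pow]
      rw [show c i ^ 2 = 1 by simpa [h] using hfer _ (hc0 i), one_mul]
  · right; right
    have hchar2 : ringChar F = 2 := FiniteField.even_card_iff_char_two.mpr (by rw [h])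
    haveI : CharP F 2 := by rw [← hchar2]; exact ringChar.charP F
    haveI : Fact (Nat.Prime 2) := ⟨Nat.prime_two⟩
    let τ : F ≃+* F := RingEquiv.ofBijective (frobenius F 2) (Finite.injective_iff_bijective.mp (frobenius F 2).injective)
    have hτ : ∀ x : F, τ x = x ^ 2 := fun x => rfl
    have hinvol : ∀ a : F, τ (τ a) = a := fun a => by
      rw [hτ, hτ, ← pow_mul, show 2 * 2 = Fintype.card F by rw [h], FiniteField.pow_card]
    let w : (Fin n → F) → Fin n → F := fun v => (P⁻¹ : GL (Fin n) F).val *ᵥ v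
    have hwP : ∀ a, w (P.val *ᵥ Pi.single a 1) = Pi.single a 1 := fun a => inv_mulVec_cancel _ _
    refine ⟨τ, fun u v => ∑ i, w u i * τ (w v i), ⟨?_, hinvol, ?_, ?_, ?_, ?_⟩, ?_⟩
    · intro hid
      have hle := card_pow_eq_self_le (F := F) (k := 2) le_rfl
      rw [Nat.card_congr (Equiv.subtypeUnivEquiv fun x => by rw [← hτ, hid]; rfl), Nat.card_eq_fintype_card, h] at hle
      omega
    · intro a b v
      simp only [w, Matrix.mulVec_add, Pi.add_apply, add_mul, Finset.sum_add_distrib]
    · intro c a v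
      simp only [w, Matrix.mulVec_smul, Pi.smul_apply, smul_eq_mul, mul_assoc, Finset.mul_sum]
    · intro v u
      rw [map_sum]
      exact Finset.sum_congr rfl fun i _ => by rw [map_mul, hinvol, mul_comm]
    · intro v hv
      obtain ⟨a, ha⟩ : ∃ a, w v a ≠ 0 := by
        by_contra! h0
        apply hv
        rw [← mulVec_inv_cancel P v, show (P⁻¹ : GL (Fin n) F).val *ᵥ v = 0 from funext h0, Matrix.mulVec_zero]
      refine ⟨⟨P.val *ᵥ Pi.single a 1, ?_⟩, ⟨P.val *ᵥ Pi.single a 1, ?_⟩⟩ <;> beta_reduce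
      · rw [Finset.sum_eq_single a (fun b _ hb => by rw [hwP]; simp [hb]) (by simp), hwP]
        simpa using ha
      · rw [Finset.sum_eq_single a (fun b _ hb => by rw [hwP]; simp [hb]) (by simp), hwP]
        simpa using ha
    · intro g hg
      obtain ⟨σ, c, hc0, hc⟩ := hP g hg
      refine ⟨1, fun u v => ?_⟩
      beta_reduce
      rw [Units.val_one, one_mul, ← Equiv.sum_comp σ]
      refine Finset.sum_congr rfl fun i _ => ?_
      simp only [w, coord_perm hc, map_mul]
      rw [mul_mul_mul_comm]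
      have h1 : c i * τ (c i) = 1 := by
        rw [hτ, ← pow_succ']
        simpa [h] using hfer _ (hc0 i)
      rw [h1, one_mul]

/-- The field of symplectic-type data. -/
lemma data_field {R : Subgroup (GL (Fin n) F)} (hn2 : n ≠ 2) (hR : IsLinearSymplecticTypeData n R) :
    ∃ p e : ℕ, p.Prime ∧ CharP F p ∧ Fintype.card F = p ^ e ∧ Odd e ∧ 0 < e ∧ n ∣ p ^ e - 1 ∧
      ∀ d, 0 < d → d < e → ¬ n ∣ p ^ d - 1 := by
  obtain ⟨p, e, -, ⟨hp, hc, hF, hdvd, hmin⟩, h | h | h⟩ := hR.field
  · obtain ⟨-, he, hz, -⟩ := h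
    rw [hz] at hdvd hmin
    exact ⟨p, e, hp, hc, hF, he, he.pos, hdvd, hmin⟩
  · exact absurd h.1 hn2
  · exact absurd h.1 hn2

/-- The degree is the order of the characteristic modulo `n`. -/
lemma degree_eq_orderOf {n p e : ℕ} [Fact n.Prime] (hp : p.Prime) (hd : n ∣ p ^ e - 1) (he : 0 < e)
    (hmin : ∀ d, 0 < d → d < e → ¬ n ∣ p ^ d - 1) : e = orderOf (p : ZMod n) := by
  have key : ∀ d, n ∣ p ^ d - 1 ↔ (p : ZMod n) ^ d = 1 := by
    intro d
    rw [← CharP.cast_eq_zero_iff (ZMod n) n, Nat.cast_sub (Nat.one_le_pow _ _ hp.pos), Nat.cast_pow, Nat.cast_one,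
      sub_eq_zero]
  symm
  rw [orderOf_eq_iff he]
  exact ⟨(key e).mp hd, fun d hlt hpos hc => hmin d hpos hlt ((key d).mpr hc)⟩

end Cfsg.Agent.Lib.PrimeDim.Small
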