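import Cfsg.Agent.Lib.PrimeDim.Main

set_option autoImplicit false
set_option linter.style.haveILetI false

/-!
No geometric class member of `GL(n, F)` contains `SL(n, F)`.
-/

namespace Cfsg.Agent.Lib.PrimeDim.Proper

open Cfsg.Geo Cfsg.Agent.Lib.PrimeDim.Basic Cfsg.Agent.Lib.PrimeDim.Fields Cfsg.Agent.Lib.PrimeDim.Symplectic
open Cfsg.Agent.Lib.PrimeDim.Main
open scoped Matrix MatrixGroups commutatorElement

section general

variable {ι : Type} [Fintype ι] [DecidableEq ι] {F : Type*} [Field F]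

/-- The elementary transvection `1 + a E_ij` as an element of `GL`. -/
noncomputable def tv (i j : ι) (h : i ≠ j) (a : F) : GL ι F :=
  ((Matrix.isUnit_iff_isUnit_det (Matrix.transvection i j a)).mpr
    (by rw [Matrix.det_transvection_of_ne i j h a]; exact isUnit_one)).unit

lemma tv_val (i j : ι) (h : i ≠ j) (a : F) : (tv i j h a : Matrix ι ι F) = Matrix.transvection i j a := rfl

lemma tv_mem (i j : ι) (h : i ≠ j) (a : F) : tv i j h a ∈ specialLinear ι F := by
  rw [mem_specialLinear, tv_val]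
  exact Matrix.det_transvection_of_ne i j h a

lemma tv_mulVec (i j : ι) (h : i ≠ j) (a : F) (v : ι → F) :
    (tv i j h a : Matrix ι ι F) *ᵥ v = v + (a * v j) • Pi.single i 1 := by
  rw [tv_val, Matrix.transvection, Matrix.add_mulVec, Matrix.one_mulVec]
  congr 1
  funext k
  by_cases hk : k = i <;> simp [Matrix.mulVec, dotProduct, Matrix.single, hk, Ne.symm]

/-- `SL` is irreducible. -/
lemma irred_specialLinear (h2 : 2 ≤ Fintype.card ι) : Irred (specialLinear ι F) := by
  intro W hW
  by_cases h : W = ⊥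
  · exact Or.inl h
  right
  obtain ⟨w, hw, hw0⟩ := Submodule.exists_mem_ne_zero_of_ne_bot h
  obtain ⟨j, hj⟩ := Function.ne_iff.mp hw0
  haveI : Nontrivial ι := Fintype.one_lt_card_iff_nontrivial.mp (by omega)
  have hoff : ∀ i, i ≠ j → Pi.single i (1 : F) ∈ W := by
    intro i hi
    have h1 := hW _ (tv_mem i j hi 1) w hw
    rw [tv_mulVec, one_mul] at h1
    have h2 := Submodule.sub_mem _ h1 hw
    rw [add_sub_cancel_left] at h2
    exact (Submodule.smul_mem_iff _ hj).mp h2
  have hall : ∀ i, Pi.single i (1 : F) ∈ W := by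
    intro i
    by_cases hi : i = j
    · obtain ⟨k, hk⟩ := exists_ne j
      subst hi
      have h1 := hW _ (tv_mem i k (Ne.symm hk) 1) _ (hoff k hk)
      rw [tv_mulVec] at h1
      have h2 := Submodule.sub_mem _ h1 (hoff k hk)
      simpa using h2
    · exact hoff i hi
  rw [eq_top_iff]
  intro v _
  rw [pi_eq_sum_univ' v]
  exact Submodule.sum_mem _ fun i _ => Submodule.smul_mem _ _ (hall i)

lemma not_le_subspaceStabilizer (h2 : 2 ≤ Fintype.card ι) {W : Submodule F (ι → F)} (hb : W ≠ ⊥) (ht : W ≠ ⊤) :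
    ¬ specialLinear ι F ≤ subspaceStabilizer W := by
  intro hle
  rcases irred_specialLinear h2 W (fun g hg w hw => ((hle hg) w).mp hw) with h | h
  · exact hb h
  · exact ht h

lemma exists_sl_mulVec {v u : ι → F} {j : ι} (hv : v j ≠ 0) (hu : u j = 0) :
    ∃ g ∈ specialLinear ι F, (g : Matrix ι ι F) *ᵥ v = v + u := by
  set M : Matrix ι ι F := 1 + Matrix.replicateCol Unit u * Matrix.replicateRow Unit (Pi.single j (v j)⁻¹) with hM
  have hdet : M.det = 1 := by
    rw [hM, Matrix.det_one_add_replicateCol_mul_replicateRow, single_dotProduct, hu, mul_zero, add_zero]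
  refine ⟨Matrix.GeneralLinearGroup.mkOfDetNeZero M (by rw [hdet]; exact one_ne_zero), ?_, ?_⟩
  · rw [mem_specialLinear]
    exact hdet
  · show M *ᵥ v = _
    rw [hM, Matrix.add_mulVec, Matrix.one_mulVec, ← Matrix.mulVec_mulVec]
    congr 1
    funext k
    simp [Matrix.mulVec, dotProduct, Matrix.replicateCol, Matrix.replicateRow, Pi.single_apply, ite_mul, hv]

lemma not_le_decompositionStabilizer [Fintype F] (h3 : 3 ≤ Fintype.card ι) {t : ℕ} (ht : t ≤ Fintype.card ι)
    {D : Fin t → Submodule F (ι → F)} (hD : IsMDecomposition 1 D) :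
    ¬ specialLinear ι F ≤ decompositionStabilizer D := by
  classical
  intro hle
  have i₀ : Fin t := ⟨0, by have := hD.two_le; omega⟩
  obtain ⟨d, hd, hd0⟩ := Submodule.exists_mem_ne_zero_of_ne_bot (show D i₀ ≠ ⊥ by
    intro hb
    have := hD.finrank_eq i₀
    rw [hb, finrank_bot] at this
    exact zero_ne_one this)
  obtain ⟨j, hj⟩ := Function.ne_iff.mp hd0
  let U := {k : ι // k ≠ j}
  let ext : (U → F) → ι → F := fun u k => if h : k = j then 0 else u ⟨k, h⟩
  have hmap : ∀ u : U → F, ∃ s, d + ext u ∈ D s := by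
    intro u
    obtain ⟨g, hg, hgd⟩ := exists_sl_mulVec (u := ext u) hj (by simp [ext])
    obtain ⟨σ, hσ⟩ := hle hg
    refine ⟨σ i₀, ?_⟩
    rw [← hσ, ← hgd]
    exact ⟨d, hd, by simp⟩
  choose φ hφ using hmap
  have hinj : Function.Injective φ := by
    intro u u' h
    have h1 := hφ u
    have h2 := hφ u'
    rw [← h] at h2
    have hne : d + ext u ≠ 0 := by
      intro h0
      have := congrFun h0 j
      simp [ext] at this
      exact hj this
    have hs : D (φ u) = Submodule.span F {d + ext u} := (Submodule.eq_of_le_of_finrank_le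
      ((Submodule.span_singleton_le_iff_mem _ _).mpr h1)
      (by rw [hD.finrank_eq, finrank_span_singleton hne])).symm
    rw [hs, Submodule.mem_span_singleton] at h2
    obtain ⟨c, hc⟩ := h2
    have hc1 : c = 1 := by
      have := congrFun hc j
      simp [ext] at this
      exact (mul_eq_right₀ hj).mp this
    subst hc1
    rw [one_smul, add_right_inj] at hc
    funext k
    have := congrFun hc k.1
    simpa [ext, k.2] using this
  have hle' := Fintype.card_le_of_injective φ hinj
  rw [Fintype.card_fun, Fintype.card_fin] at hle'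
  have hU : Fintype.card U = Fintype.card ι - 1 := by simp [U]
  rw [hU] at hle'
  have h2 : 2 ^ (Fintype.card ι - 1) ≤ Fintype.card F ^ (Fintype.card ι - 1) :=
    Nat.pow_le_pow_left Fintype.one_lt_card _
  obtain ⟨m, hm⟩ : ∃ m, Fintype.card ι - 1 = m + 2 := ⟨Fintype.card ι - 3, by omega⟩
  rw [hm] at h2 hle'
  have h4 : m < 2 ^ m := Nat.lt_two_pow_self
  rw [pow_add] at h2
  omega

/-- No similarity group contains `SL`. -/
lemma not_le_similarityGroup (h3 : 3 ≤ Fintype.card ι) {σ : F →+* F} (hσ : Function.Bijective σ)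
    {f : (ι → F) → (ι → F) → F} (hf : IsSesqui σ f) (hnd : IsNondegenerateForm f) :
    ¬ specialLinear ι F ≤ similarityGroup f := by
  classical
  intro hle
  haveI : Nonempty ι := Fintype.card_pos_iff.mp (by omega)
  obtain ⟨k, l, hkl⟩ : ∃ k l, gramMatrix f k l ≠ 0 := by
    by_contra! h
    apply hf.det_ne_zero hσ hnd
    rw [show gramMatrix f = 0 from Matrix.ext h, Matrix.det_zero]
  obtain ⟨j, hjk, hjl⟩ : ∃ j, j ≠ k ∧ j ≠ l := by
    by_contra! h
    have : (Finset.univ : Finset ι) ⊆ {k, l} := fun j _ => by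
      by_cases hj : j = k
      · simp [hj]
      · simp [h j hj]
    have := (Finset.card_le_card this).trans Finset.card_le_two
    rw [Finset.card_univ] at this
    omega
  obtain ⟨c, hc⟩ := hle (tv_mem k j (Ne.symm hjk) 1)
  have h := (hf.scale_iff _ _).mp hc
  have hT : ∀ a b, (tv k j (Ne.symm hjk) (1 : F) : Matrix ι ι F) a b
      = (1 : Matrix ι ι F) a b + if a = k ∧ b = j then 1 else 0 := by
    intro a b
    rw [tv_val, Matrix.transvection, Matrix.add_apply, Matrix.single_apply]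
    simp [eq_comm]
  have hleft : ∀ b, ((tv k j (Ne.symm hjk) (1 : F) : Matrix ι ι F)ᵀ * gramMatrix f) k b = gramMatrix f k b := by
    intro b
    rw [Matrix.mul_apply]
    simp [hT, Matrix.one_apply, Ne.symm hjk]
  have hleft' : ∀ b, ((tv k j (Ne.symm hjk) (1 : F) : Matrix ι ι F)ᵀ * gramMatrix f) j b
      = gramMatrix f j b + gramMatrix f k b := by
    intro b
    rw [Matrix.mul_apply]
    simp [hT, Matrix.one_apply, add_mul, Finset.sum_add_distrib]
  have hright : ∀ (A : Matrix ι ι F) a, (A * (tv k j (Ne.symm hjk) (1 : F) : Matrix ι ι F).map σ) a l = A a l := by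
    intro A a
    rw [Matrix.mul_apply]
    simp [hT, Matrix.one_apply, Ne.symm hjl, apply_ite σ]
  have h1 := congrFun (congrFun h k) l
  rw [hright, hleft, Matrix.smul_apply, smul_eq_mul] at h1
  have hc1 : (c : F) = 1 := (mul_eq_right₀ hkl).mp h1.symm
  have h2 := congrFun (congrFun h j) l
  rw [hright, hleft', Matrix.smul_apply, smul_eq_mul, hc1, one_mul, add_eq_left] at h2
  exact hkl h2

lemma not_le_quadSimilarityGroup (h3 : 3 ≤ Fintype.card ι) {Q : (ι → F) → F}
    (hQ : IsNondegenerateQuadraticForm Q) : ¬ specialLinear ι F ≤ quadSimilarityGroup Q := by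
  intro hle
  apply not_le_similarityGroup h3 Function.bijective_id (isSesqui_of_bilinear hQ.polar_bilinear) hQ.nondegenerate
  intro g hg
  obtain ⟨c, hc⟩ := hle hg
  refine ⟨c, fun u v => ?_⟩
  simp only [QuadraticMap.polar, ← Matrix.mulVec_add, hc]
  ring

lemma not_le_subalgebraNormalizer {r : ℕ} {K : Subalgebra F (Matrix ι ι F)} (h3 : 3 ≤ Fintype.card ι)
    (hr : 2 ≤ r) (hK : IsFieldSubalgebra r K) : ¬ specialLinear ι F ≤ subalgebraNormalizer K := by
  classical
  intro hle
  haveI : Nonempty ι := Fintype.card_pos_iff.mp (by omega)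
  obtain ⟨k, hk, hks⟩ : ∃ k ∈ K, ∀ c : F, k ≠ c • 1 := by
    by_contra! h
    have hbot : K = ⊥ := by
      rw [eq_bot_iff]
      intro k hk
      obtain ⟨c, rfl⟩ := h k hk
      rw [← Algebra.algebraMap_eq_smul_one]
      exact Subalgebra.algebraMap_mem _ c
    have h1 := hK.finrank_eq
    rw [hbot, Subalgebra.finrank_bot] at h1
    omega
  obtain ⟨i⟩ := ‹Nonempty ι›
  obtain ⟨j, hji⟩ : ∃ j, i ≠ j := by
    haveI : Nontrivial ι := Fintype.one_lt_card_iff_nontrivial.mp (by omega)
    obtain ⟨j, hj⟩ := exists_ne i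
    exact ⟨j, hj.symm⟩
  set t := tv i j hji (1 : F) with ht
  -- a non-zero vector killed by `t k t⁻¹ - k`
  obtain ⟨w, hw0, hwj, hkwj⟩ : ∃ w : ι → F, w ≠ 0 ∧ w j = 0 ∧ (k *ᵥ w) j = 0 := by
    let L : (ι → F) →ₗ[F] F × F :=
      (LinearMap.proj j).prod ((LinearMap.proj j).comp (Matrix.toLin' k))
    have hker : LinearMap.ker L ≠ ⊥ := LinearMap.ker_ne_bot_of_finrank_lt (by
      rw [Module.finrank_prod, Module.finrank_self, Module.finrank_pi]
      omega)
    obtain ⟨w, hw, hw0⟩ := Submodule.exists_mem_ne_zero_of_ne_bot hker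
    rw [LinearMap.mem_ker] at hw
    exact ⟨w, hw0, congrArg Prod.fst hw, congrArg Prod.snd hw⟩
  set z := (t : Matrix ι ι F) * k * ((t⁻¹ : GL ι F) : Matrix ι ι F) - k with hz
  have hzK : z ∈ K := Subalgebra.sub_mem _ (((hle (tv_mem i j hji 1)) k).mp hk) hk
  have htw : ∀ v : ι → F, v j = 0 → (t : Matrix ι ι F) *ᵥ v = v := by
    intro v hv
    rw [ht, tv_mulVec, hv, mul_zero, zero_smul, add_zero]
  have hzw : z *ᵥ w = 0 := by
    have h1 : ((t⁻¹ : GL ι F) : Matrix ι ι F) *ᵥ w = w := by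
      conv_lhs => rw [← htw w hwj]
      rw [inv_mulVec_cancel]
    rw [hz, Matrix.sub_mulVec, ← Matrix.mulVec_mulVec, ← Matrix.mulVec_mulVec, h1, htw _ hkwj, sub_self]
  have hz0 : z = 0 := by
    by_contra hne
    obtain ⟨y, -, hy⟩ := hK.inv z hzK hne
    have hy' : y * z = 1 := by
      rw [mul_eq_one_comm]
      exact hy
    apply hw0
    rw [← Matrix.one_mulVec w, ← hy', ← Matrix.mulVec_mulVec, hzw, Matrix.mulVec_zero]
  have hcomm : (t : Matrix ι ι F) * k = k * (t : Matrix ι ι F) := by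
    rw [hz, sub_eq_zero] at hz0
    conv_rhs => rw [← hz0]
    rw [mul_assoc _ _ (t : Matrix ι ι F), Units.inv_mul, mul_one]
  -- hence k has an eigenvector
  have heig : k *ᵥ Pi.single i 1 = k j j • Pi.single i (1 : F) := by
    have h1 := congrArg (fun M => M *ᵥ (Pi.single j 1 : ι → F)) hcomm
    simp only [← Matrix.mulVec_mulVec] at h1
    rw [ht, tv_mulVec, tv_mulVec, Matrix.mulVec_add, Matrix.mulVec_smul] at h1
    simp only [Pi.single_eq_same, one_mul, mul_one, one_smul, Matrix.mulVec_single_one, add_right_inj] at h1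
    rw [Matrix.mulVec_single_one]
    exact h1.symm
  have hdiff : k - k j j • 1 ∈ K := Subalgebra.sub_mem _ hk (Subalgebra.smul_mem _ (one_mem _) _)
  have hne : k - k j j • (1 : Matrix ι ι F) ≠ 0 := sub_ne_zero.mpr (hks _)
  obtain ⟨y, -, hy⟩ := hK.inv _ hdiff hne
  have hy' : y * (k - k j j • 1) = 1 := by
    rw [mul_eq_one_comm]
    exact hy
  have := congrArg (fun M => M *ᵥ (Pi.single i 1 : ι → F)) hy'
  simp only [← Matrix.mulVec_mulVec, Matrix.sub_mulVec, Matrix.smul_mulVec, Matrix.one_mulVec] at this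
  rw [heig, sub_self, Matrix.mulVec_zero] at this
  simpa using congrFun this i

lemma not_le_subfieldSubgroup [Fintype F] (hn : (Fintype.card ι).Prime) {F₀ : Subfield F} (hne : F₀ ≠ ⊤)
    (P : GL ι F) : ¬ specialLinear ι F ≤ subfieldSubgroup F₀ P := by
  classical
  intro hle
  haveI : Nonempty ι := Fintype.card_pos_iff.mp hn.pos
  obtain ⟨i⟩ := ‹Nonempty ι›
  obtain ⟨j, hji⟩ : ∃ j, i ≠ j := by
    haveI : Nontrivial ι := Fintype.one_lt_card_iff_nontrivial.mp hn.one_lt
    obtain ⟨j, hj⟩ := exists_ne i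
    exact ⟨j, hj.symm⟩
  set N' : Matrix ι ι F := ((P⁻¹ : GL ι F) : Matrix ι ι F) * Matrix.single i j 1 * (P : Matrix ι ι F) with hN'
  have key : ∀ a : F, ∀ r s, (1 + a • N') r s ∈ F₀ := by
    intro a
    obtain ⟨g', hg', hconj⟩ := Subgroup.mem_map.mp (hle (tv_mem i j hji a))
    rw [Subgroup.mem_sup_of_normal_right] at hg'
    obtain ⟨_, ⟨h, rfl⟩, u, hu, rfl⟩ := hg'
    obtain ⟨c, hc⟩ := (mem_scalars_iff u).mp hu
    set hh : GL ι F := Matrix.GeneralLinearGroup.map (F₀.subtype : F₀ →+* F) h with hhh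
    have hmat : ((hh * u : GL ι F) : Matrix ι ι F) = 1 + a • N' := by
      have h1 : hh * u = P⁻¹ * tv i j hji a * P := by
        rw [← hconj]
        simp [mul_assoc]
      rw [h1, Units.val_mul, Units.val_mul, tv_val, Matrix.transvection, hN', Matrix.mul_add, Matrix.add_mul, mul_one,
        Units.inv_mul, show Matrix.single i j a = a • Matrix.single i j (1 : F) by simp [Matrix.smul_single],
        Matrix.mul_smul, Matrix.smul_mul]
    have hval : ((hh * u : GL ι F) : Matrix ι ι F) = (c : F) • (hh : Matrix ι ι F) := by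
      rw [Units.val_mul, hc, Matrix.mul_smul, mul_one]
    have hentry : ∀ r s, (hh : Matrix ι ι F) r s ∈ F₀ := fun r s => ((h : Matrix ι ι F₀) r s).2
    have hdet : (hh : Matrix ι ι F).det ∈ F₀ := by
      rw [show (hh : Matrix ι ι F) = F₀.subtype.mapMatrix (h : Matrix ι ι F₀) from rfl, ← RingHom.map_det]
      exact ((h : Matrix ι ι F₀).det).2
    have htr : (hh : Matrix ι ι F).trace ∈ F₀ := Subfield.sum_mem _ fun r _ => hentry r r
    have h2 : (c : F) • (hh : Matrix ι ι F) = 1 + a • N' := hval.symm.trans hmat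
    have hdeteq : (c : F) ^ Fintype.card ι * (hh : Matrix ι ι F).det = 1 := by
      have h3 := congrArg Matrix.det hval
      rw [Matrix.det_smul] at h3
      rw [← h3, show hh * u = P⁻¹ * tv i j hji a * P by rw [← hconj]; simp [mul_assoc], Units.val_mul,
        Units.val_mul, Matrix.det_mul, Matrix.det_mul, mem_specialLinear.mp (tv_mem i j hji a), mul_one,
        ← Matrix.det_mul, Units.inv_mul, Matrix.det_one]
    have htreq : (c : F) * (hh : Matrix ι ι F).trace = (Fintype.card ι : F) := by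
      rw [← smul_eq_mul, ← Matrix.trace_smul, h2, Matrix.trace_add, Matrix.trace_one, Matrix.trace_smul, hN',
        Matrix.trace_mul_cycle, Units.mul_inv, one_mul, Matrix.trace_single_eq_of_ne _ _ _ hji, smul_zero, add_zero]
    have hcF : (c : F) ∈ F₀ := by
      by_cases hz : (Fintype.card ι : F) = 0
      · obtain ⟨p, hp⟩ := CharP.exists F
        have hpp : p.Prime := CharP.char_is_prime F p
        have hpn : p = Fintype.card ι := (Nat.prime_dvd_prime_iff_eq hpp hn).mp ((CharP.cast_eq_zero_iff F p _).mp hz)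
        haveI := Fact.mk hpp
        obtain ⟨f, -, hF⟩ := FiniteField.card F p
        obtain ⟨e, -, -, -, hfix⟩ := card_subfield F₀ hF
        have hcp : (c : F) ^ p ∈ F₀ := by
          have h4 : (c : F) ^ Fintype.card ι = ((hh : Matrix ι ι F).det)⁻¹ := eq_inv_of_mul_eq_one_left hdeteq
          rw [hpn, h4]
          exact Subfield.inv_mem _ hdet
        rw [hfix, mem_fixedField] at hcp ⊢
        apply frobenius_inj F p
        simp only [frobenius_def]
        rw [← pow_mul, mul_comm, pow_mul, hcp]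
      · have htr0 : (hh : Matrix ι ι F).trace ≠ 0 := by
          intro h0
          rw [h0, mul_zero] at htreq
          exact hz htreq.symm
        rw [eq_div_of_mul_eq htr0 htreq]
        exact div_mem (natCast_mem _ _) htr
    intro r s
    rw [← h2, Matrix.smul_apply, smul_eq_mul]
    exact mul_mem hcF (hentry r s)
  obtain ⟨r, s, hrs⟩ : ∃ r s, N' r s ≠ 0 := by
    by_contra! h
    have h0 : N' = 0 := Matrix.ext h
    have h1 : (P : Matrix ι ι F) * N' * ((P⁻¹ : GL ι F) : Matrix ι ι F) = Matrix.single i j 1 := by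
      simp [hN', mul_assoc]
    rw [h0, mul_zero, zero_mul] at h1
    simpa using congrFun (congrFun h1 i) j
  apply hne
  rw [eq_top_iff]
  intro x _
  have h1 := key (x / N' r s) r s
  rw [Matrix.add_apply, Matrix.smul_apply, smul_eq_mul, div_mul_cancel₀ _ hrs] at h1
  have h0 : (1 : Matrix ι ι F) r s ∈ F₀ := by
    rw [Matrix.one_apply]
    split
    · exact one_mem _
    · exact zero_mem _
  simpa using sub_mem h1 h0

end general

variable {n : ℕ} {F : Type*} [Field F] [Fintype F]

lemma not_le_normalizer (hn : n.Prime) (h3 : 3 ≤ n) {R : Subgroup (GL (Fin n) F)}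
    (hdata : IsLinearSymplecticTypeData n R) (hSL : R ≤ specialLinear (Fin n) F)
    (hcomm : ⁅R, R⁆ ≤ scalars (Fin n) F) : ¬ specialLinear (Fin n) F ≤ subgroupNormalizer R := by
  classical
  intro hle
  obtain ⟨⟨P, η, hη, hexp, -, -, -, ⟨x, hx, hxd⟩, -⟩⟩ := exists_frame hn h3 hSL hdata.absIrred hcomm
  set i : Fin n := ⟨0, hn.pos⟩ with hi
  set j : Fin n := ⟨1, hn.one_lt⟩ with hj
  have hij : i ≠ j := by simp [hi, hj]
  set t : GL (Fin n) F := P * tv i j hij 1 * P⁻¹ with ht
  have htmem : t ∈ specialLinear (Fin n) F := by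
    have hdet := mem_specialLinear.mp (tv_mem i j hij (1 : F))
    rw [mem_specialLinear, ht, Units.val_mul, Units.val_mul, Matrix.det_mul, Matrix.det_mul, hdet, mul_one,
      ← Matrix.det_mul, Units.mul_inv, Matrix.det_one]
  have hmem : x * t * x⁻¹ * t⁻¹ ∈ R := by
    have h1 := (Subgroup.mem_normalizer_iff.mp (hle htmem) x⁻¹).mp (inv_mem hx)
    have h2 := mul_mem hx h1
    simpa [mul_assoc] using h2
  have hz : (P⁻¹ * (x * t * x⁻¹ * t⁻¹) * P : GL (Fin n) F) = tv i j hij (η⁻¹ - 1) := by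
    set d : GL (Fin n) F := P⁻¹ * x * P with hd
    have h1 : P⁻¹ * (x * t * x⁻¹ * t⁻¹) * P = d * tv i j hij 1 * d⁻¹ * (tv i j hij 1)⁻¹ := by
      rw [hd, ht]
      group
    rw [h1, mul_inv_eq_iff_eq_mul, mul_inv_eq_iff_eq_mul]
    apply Units.ext
    simp only [Units.val_mul, tv_val, hxd, Matrix.transvection, Matrix.mul_add, Matrix.add_mul, mul_one, one_mul,
      Matrix.single_mul_single_of_ne _ _ _ _ hij.symm, add_zero]
    ext a b
    simp only [Matrix.add_apply, Matrix.diagonal_mul, Matrix.mul_diagonal, Matrix.single_apply]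
    by_cases hab : i = a ∧ j = b
    · obtain ⟨rfl, rfl⟩ := hab
      simp only [and_self, if_true, hi, hj, pow_zero, pow_one]
      have hη0 : η ≠ 0 := hη.ne_zero hn.ne_zero
      field_simp
      ring
    · simp [hab]
  -- a non-trivial element of order dividing both n and the characteristic
  have hne : η⁻¹ - 1 ≠ 0 := by
    rw [sub_ne_zero, Ne, inv_eq_one]
    exact hη.ne_one hn.one_lt
  have htvpow : ∀ k : ℕ, ((tv i j hij (η⁻¹ - 1)) ^ k).val = Matrix.transvection i j ((k : F) * (η⁻¹ - 1)) := by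
    intro k
    induction k with
    | zero => simp [Matrix.transvection]
    | succ k ih =>
      rw [pow_succ, Units.val_mul, ih, tv_val, Matrix.transvection_mul_transvection_same i j hij]
      push_cast
      rw [add_mul, one_mul]
  have h1 : (tv i j hij (η⁻¹ - 1)) ^ n = 1 := by
    have hc : ∀ g : GL (Fin n) F, P⁻¹ * g * P = MulAut.conj P⁻¹ g := fun g => by simp
    rw [← hz, hc, ← map_pow, hexp _ hmem, map_one]
  have h2 := congrArg (fun g : GL (Fin n) F => (g : Matrix (Fin n) (Fin n) F) i j) h1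
  simp only [htvpow, Units.val_one, Matrix.transvection, Matrix.add_apply, Matrix.one_apply_ne hij,
    Matrix.single_apply_same, zero_add, mul_eq_zero] at h2
  rcases h2 with h2 | h2
  · -- n is the characteristic
    obtain ⟨p, e, hnp, ⟨hp, hpchar, _⟩, _⟩ := hdata.field
    have hdvd : p ∣ n := (CharP.cast_eq_zero_iff F p n).mp h2
    exact hnp ((Nat.prime_dvd_prime_iff_eq hp hn).mp hdvd).symm
  · exact hne h2

/-- A maximal subgroup of `SL(n, F)`, `n` an odd prime, equals the member of the class containing it. -/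
theorem maximal_cases (hn : n.Prime) (h3 : 3 ≤ n) {H : Subgroup (GL (Fin n) F)}
    (hH : IsMaximalIn (specialLinear (Fin n) F) H) :
    (∃ W : Submodule F (Fin n → F), W ≠ ⊥ ∧ W ≠ ⊤ ∧ H = subspaceStabilizer W ⊓ specialLinear (Fin n) F) ∨
    (∃ D : Fin n → Submodule F (Fin n → F), IsMDecomposition 1 D ∧
      H = decompositionStabilizer D ⊓ specialLinear (Fin n) F) ∨
    (∃ K : Subalgebra F (Matrix (Fin n) (Fin n) F), IsFieldSubalgebra n K ∧
      H = subalgebraNormalizer K ⊓ specialLinear (Fin n) F) ∨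
    (∃ (F₀ : Subfield F) (r : ℕ) (P : GL (Fin n) F), r.Prime ∧ Fintype.card F = Nat.card F₀ ^ r ∧
      H = subfieldSubgroup F₀ P ⊓ specialLinear (Fin n) F) ∨
    (∃ R : Subgroup (GL (Fin n) F), IsLinearSymplecticTypeData n R ∧
      H = subgroupNormalizer R ⊓ specialLinear (Fin n) F) ∨
    (Odd (Fintype.card F) ∧ ∃ Q : (Fin n → F) → F, IsNondegenerateQuadraticForm Q ∧
      H = quadSimilarityGroup Q ⊓ specialLinear (Fin n) F) ∨
    (∃ (σ : F ≃+* F) (f : (Fin n → F) → (Fin n → F) → F), IsUnitaryForm σ f ∧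
      H = similarityGroup f ⊓ specialLinear (Fin n) F) ∨
    InLinearResidualClass H := by
  have h3' : 3 ≤ Fintype.card (Fin n) := by rwa [Fintype.card_fin]
  have heq : ∀ M : Subgroup (GL (Fin n) F), H ≤ M → ¬ specialLinear (Fin n) F ≤ M →
      H = M ⊓ specialLinear (Fin n) F := fun M hM hnot =>
    ((hH.2 _ (le_inf hM hH.1.le) inf_le_right).resolve_right fun h => hnot (h ▸ inf_le_left)).symm
  rcases main hn h3 H hH.1.le with ⟨W, hb, ht, hle⟩ | ⟨D, hD, hle⟩ | ⟨K, hK, hle⟩ | ⟨F₀, r, P, hr, hc, hle⟩ |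
      ⟨R, hR, hRSL, hRc, hle⟩ | ⟨ho, Q, hQ, hle⟩ | ⟨σ, f, hf, hle⟩ | hres
  · exact Or.inl ⟨W, hb, ht, heq _ hle (not_le_subspaceStabilizer (by omega) hb ht)⟩
  · exact Or.inr (Or.inl ⟨D, hD, heq _ hle (not_le_decompositionStabilizer h3' (by simp) hD)⟩)
  · exact Or.inr (Or.inr (Or.inl ⟨K, hK, heq _ hle (not_le_subalgebraNormalizer h3' hn.two_le hK)⟩))
  · refine Or.inr (Or.inr (Or.inr (Or.inl ⟨F₀, r, P, hr, hc, heq _ hle (not_le_subfieldSubgroup ?_ ?_ P)⟩)))
    · rwa [Fintype.card_fin]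
    · rintro rfl
      rw [Nat.card_congr (Equiv.subtypeUnivEquiv fun x => Subfield.mem_top x), Nat.card_eq_fintype_card] at hc
      have h1 := Nat.pow_right_injective (Fintype.one_lt_card (α := F)) ((pow_one _).trans hc)
      exact hr.one_lt.ne h1
  · exact Or.inr (Or.inr (Or.inr (Or.inr (Or.inl ⟨R, hR, heq _ hle (not_le_normalizer hn h3 hR hRSL hRc)⟩))))
  · exact Or.inr (Or.inr (Or.inr (Or.inr (Or.inr (Or.inl ⟨ho, Q, hQ, heq _ hle (not_le_quadSimilarityGroup h3' hQ)⟩)))))
  · exact Or.inr (Or.inr (Or.inr (Or.inr (Or.inr (Or.inr (Or.inl ⟨σ, f, hf, heq _ hle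
      (not_le_similarityGroup (σ := (σ : F →+* F)) h3' σ.bijective (isSesqui_of_unitary hf) hf.nondegenerate)⟩))))))
  · exact Or.inr (Or.inr (Or.inr (Or.inr (Or.inr (Or.inr (Or.inr hres))))))

end Cfsg.Agent.Lib.PrimeDim.Proper
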