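import Cfsg.Agent.Lib.PrimeDim.UnitaryBase
import Cfsg.Agent.Lib.PrimeDim.Small

set_option autoImplicit false
set_option linter.style.haveILetI false
set_option linter.unusedSectionVars false

/-!
Aschbacher's theorem for `SU(n, q)`, `n` an odd prime.
-/

namespace Cfsg.Agent.Lib.PrimeDim.Unitary

open Cfsg.Geo Cfsg.Agent.Lib.PrimeDim.Basic Cfsg.Agent.Lib.PrimeDim.Fields Cfsg.Agent.Lib.PrimeDim.Symplectic
open Cfsg.Agent.Lib.PrimeDim.UnitaryBase Cfsg.Agent.Lib.Unitary
open scoped Matrix MatrixGroups commutatorElement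

variable {n q : ℕ} {F : Type*} [Field F] [Fintype F]

/-- The determinant-one unitary group inside `GL`. -/
abbrev SUgl (n : ℕ) (F : Type*) [Field F] (q : ℕ) : Subgroup (GL (Fin n) F) :=
  GU n F q ⊓ specialLinear (Fin n) F

lemma exists_tv' (hF : Fintype.card F = q ^ 2) {v : Fin n → F} (hv : hermForm n F q v v = 0) {c : F}
    (hc : c + c ^ q = 0) :
    ∃ t ∈ SUgl n F q, ∀ x, t.val *ᵥ x = x + (c * hermForm n F q x v) • v := by
  obtain ⟨A, hA, hdet⟩ := exists_tv hF hv hc
  exact ⟨A.1, ⟨A.2, mem_specialLinear.mpr hdet⟩, hA⟩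

lemma exists_norm_neg_one (hF : Fintype.card F = q ^ 2) : ∃ a : F, a ≠ 0 ∧ a * a ^ q = -1 := by
  obtain ⟨a, ha⟩ := norm_surj hF (y := (-1 : F)) (by rw [neg_pow_q hF, one_pow])
  refine ⟨a, ?_, ha⟩
  rintro rfl
  simp at ha

lemma two_term (hF : Fintype.card F = q ^ 2) {i j : Fin n} (hij : i ≠ j) (a b c d : F) :
    hermForm n F q (a • Pi.single i 1 + b • Pi.single j 1) (c • Pi.single i 1 + d • Pi.single j 1)
      = a * c ^ q + b * d ^ q := by
  simp only [herm_add_left, herm_add_right _ _ _ hF, herm_smul_left, herm_smul_right, herm_std hF, if_true,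
    if_neg hij, if_neg hij.symm]
  ring

lemma iso_pair (hF : Fintype.card F = q ^ 2) {i j : Fin n} (hij : i ≠ j) {a : F} (ha : a * a ^ q = -1) :
    hermForm n F q (Pi.single i 1 + a • Pi.single j 1) (Pi.single i 1 + a • Pi.single j 1) = 0 := by
  have := two_term hF hij 1 a 1 a
  rw [one_smul, one_pow, ha, one_mul, add_neg_cancel] at this
  exact this

/-- `SU` is irreducible. -/
lemma irred_SUgl (hF : Fintype.card F = q ^ 2) (hn : 2 ≤ n) : Irred (SUgl n F q) := by
  classical
  intro W hW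
  by_cases h : W = ⊥
  · exact Or.inl h
  right
  obtain ⟨w, hw, hw0⟩ := Submodule.exists_mem_ne_zero_of_ne_bot h
  obtain ⟨i, hi⟩ := Function.ne_iff.mp hw0
  obtain ⟨c, hc0, hc⟩ := exists_trace_zero_ne_zero hF
  obtain ⟨a₀, ha00, ha₀⟩ := exists_norm_neg_one hF
  have hiso : ∀ v : Fin n → F, hermForm n F q v v = 0 → hermForm n F q w v ≠ 0 → v ∈ W := by
    intro v hv hne
    obtain ⟨t, ht, htx⟩ := exists_tv' hF hv hc
    have h1 := W.sub_mem (hW t ht w hw) hw
    rw [htx, add_sub_cancel_left] at h1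
    exact (Submodule.smul_mem_iff _ (mul_ne_zero hc0 hne)).mp h1
  have hq1 := one_lt_q hF
  have key : ∀ j, j ≠ i → Pi.single i (1 : F) ∈ W ∧ Pi.single j (1 : F) ∈ W := by
    intro j hji
    have hN : Nat.card {a : F // a * a ^ q = -1} = q + 1 := by
      rw [← card_norm_one hF]
      refine Nat.card_congr
        { toFun := fun a => ⟨a.1 / a₀, by rw [pow_succ', div_pow, div_mul_div_comm, a.2, ha₀, div_self]; simp⟩
          invFun := fun z => ⟨z.1 * a₀, by
            have h := z.2
            rw [pow_succ'] at h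
            rw [mul_pow, mul_mul_mul_comm, h, ha₀, one_mul]⟩
          left_inv := fun a => Subtype.ext (div_mul_cancel₀ _ ha00)
          right_inv := fun z => Subtype.ext (mul_div_cancel_right₀ _ ha00) }
    set s : Finset F := Finset.univ.filter fun a => a * a ^ q = -1 with hs
    have hscard : s.card = q + 1 := by
      rw [← hN, Nat.card_eq_fintype_card, Fintype.card_subtype]
    have hbad : (s.filter fun a => hermForm n F q w (Pi.single i 1 + a • Pi.single j 1) = 0).card ≤ 1 := by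
      rw [Finset.card_le_one]
      intro x hx y hy
      simp only [Finset.mem_filter, herm_add_right _ _ _ hF, herm_smul_right, herm_single _ hF] at hx hy
      by_cases hwj : w j = 0
      · rw [hwj, mul_zero, add_zero] at hx
        exact absurd hx.2 hi
      · exact pow_q_injective hF (mul_right_cancel₀ hwj (add_left_cancel (hx.2.trans hy.2.symm)))
    have hgood : 1 < (s.filter fun a => hermForm n F q w (Pi.single i 1 + a • Pi.single j 1) ≠ 0).card := by
      have := Finset.card_filter_add_card_filter_not (s := s)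
        (fun a => hermForm n F q w (Pi.single i 1 + a • Pi.single j 1) = 0)
      simp only [ne_eq]
      omega
    obtain ⟨x, hx, y, hy, hxy⟩ := Finset.one_lt_card.mp hgood
    simp only [s, Finset.mem_filter, Finset.mem_univ, true_and] at hx hy
    have h1 := hiso _ (iso_pair hF hji.symm hx.1) hx.2
    have h2 := hiso _ (iso_pair hF hji.symm hy.1) hy.2
    have h3 := W.sub_mem h1 h2
    rw [add_sub_add_left_eq_sub, ← sub_smul] at h3
    have hj := (Submodule.smul_mem_iff _ (sub_ne_zero.mpr hxy)).mp h3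
    refine ⟨?_, hj⟩
    simpa using W.sub_mem h1 (W.smul_mem x hj)
  haveI : Nontrivial (Fin n) := Fin.nontrivial_iff_two_le.mpr hn
  obtain ⟨j₀, hj₀⟩ := exists_ne i
  have hall : ∀ j, Pi.single j (1 : F) ∈ W := by
    intro j
    rcases eq_or_ne j i with rfl | hji
    · exact (key j₀ hj₀).1
    · exact (key j hji).2
  rw [eq_top_iff]
  intro v _
  rw [pi_eq_sum_univ' v]
  exact Submodule.sum_mem _ fun j _ => Submodule.smul_mem _ _ (hall j)

lemma not_le_subspace (hF : Fintype.card F = q ^ 2) (hn : 2 ≤ n) {W : Submodule F (Fin n → F)} (hb : W ≠ ⊥)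
    (ht : W ≠ ⊤) : ¬ SUgl n F q ≤ subspaceStabilizer W := by
  intro hle
  rcases irred_SUgl hF hn W (fun g hg w hw => ((hle hg) w).mp hw) with h | h
  · exact hb h
  · exact ht h

/-- A frame is given by vectors spanning its members. -/
lemma exists_frame_basis {D : Fin n → Submodule F (Fin n → F)} (hD : IsMDecomposition 1 D) :
    ∃ vs : Fin n → Fin n → F, (∀ i, vs i ∈ D i) ∧ (∀ i, vs i ≠ 0) ∧ LinearIndependent F vs ∧
      (∀ i x, x ∈ D i → ∃ c : F, x = c • vs i) ∧ Submodule.span F (Set.range vs) = ⊤ := by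
  have hex : ∀ i, ∃ v, v ∈ D i ∧ v ≠ 0 := fun i =>
    Submodule.exists_mem_ne_zero_of_ne_bot fun hb => by
      have := hD.finrank_eq i
      rw [hb, finrank_bot] at this
      exact zero_ne_one this
  choose vs hvs hv0 using hex
  have hspan : ∀ i, D i = Submodule.span F {vs i} := fun i =>
    (Submodule.eq_of_le_of_finrank_le ((Submodule.span_singleton_le_iff_mem _ _).mpr (hvs i))
      (by rw [hD.finrank_eq, finrank_span_singleton (hv0 i)])).symm
  refine ⟨vs, hvs, hv0, hD.indep.linearIndependent D hvs hv0, fun i x hx => ?_, ?_⟩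
  · rw [hspan, Submodule.mem_span_singleton] at hx
    obtain ⟨c, rfl⟩ := hx
    exact ⟨c, rfl⟩
  · rw [eq_top_iff, ← hD.iSup_eq_top]
    refine iSup_le fun i => ?_
    rw [hspan]
    exact Submodule.span_mono (by simp)

lemma not_le_decomposition (hF : Fintype.card F = q ^ 2) (hn : 3 ≤ n) (h32 : ¬ (n = 3 ∧ q = 2))
    {D : Fin n → Submodule F (Fin n → F)} (hD : IsNondegenerateMDecomposition (hermForm n F q) 1 D) :
    ¬ SUgl n F q ≤ decompositionStabilizer D := by
  classical
  intro hle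
  obtain ⟨vs, hvs, hv0, hli, hline, -⟩ := exists_frame_basis hD.decomp
  set d : Fin n → F := fun i => hermForm n F q (vs i) (vs i) with hd
  have horth : ∀ i j, hermForm n F q (vs i) (vs j) = if i = j then d i else 0 := by
    intro i j
    split
    · next h => subst h; rfl
    · next h => exact hD.orthogonal i j h _ (hvs i) _ (hvs j)
  have hd0 : ∀ i, d i ≠ 0 := by
    intro i h0
    obtain ⟨⟨x, hx, hne⟩, -⟩ := hD.nondegenerate i _ (hvs i) (hv0 i)
    obtain ⟨c, rfl⟩ := hline i x hx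
    rw [herm_smul_left, show hermForm n F q (vs i) (vs i) = 0 from h0, mul_zero] at hne
    exact hne rfl
  -- three or four norms with sum zero
  obtain ⟨y, hyfix, hysum, hsupp⟩ : ∃ y : Fin n → F, (∀ i, y i ^ q = y i) ∧ ∑ i, y i = 0 ∧
      2 < (Finset.univ.filter fun i => y i ≠ 0).card := by
    rcases Nat.lt_or_ge 2 q with hq3 | hq2
    · obtain ⟨z, hz, hz0, hz1⟩ : ∃ z : F, z ^ q = z ∧ z ≠ 0 ∧ z ≠ -1 := by
        by_contra! h
        have hle' : (Finset.univ.filter fun x : F => x ^ q = x).card ≤ ({0, -1} : Finset F).card := by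
          refine Finset.card_le_card fun x hx => ?_
          simp only [Finset.mem_filter, Finset.mem_univ, true_and] at hx
          simp only [Finset.mem_insert, Finset.mem_singleton]
          exact or_iff_not_imp_left.mpr (h x hx)
        have := card_fixed hF
        rw [Nat.card_eq_fintype_card, Fintype.card_subtype] at this
        have := hle'.trans Finset.card_le_two
        omega
      have h1z : (1 : F) + z ≠ 0 := fun h => hz1 (by linear_combination h)
      let i₀ : Fin n := ⟨0, by omega⟩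
      let i₁ : Fin n := ⟨1, by omega⟩
      let i₂ : Fin n := ⟨2, by omega⟩
      have h01 : i₀ ≠ i₁ := by simp [i₀, i₁]
      have h02 : i₀ ≠ i₂ := by simp [i₀, i₂]
      have h12 : i₁ ≠ i₂ := by simp [i₁, i₂]
      refine ⟨Pi.single i₀ 1 + Pi.single i₁ z + Pi.single i₂ (-(1 + z)), fun i => ?_, ?_, ?_⟩
      · simp only [Pi.add_apply, add_pow_q hF, Pi.single_apply, ite_pow, one_pow, zero_pow_q hF, neg_pow_q hF,
          add_pow_q hF, hz]
      · simp only [Pi.add_apply, Finset.sum_add_distrib, Finset.sum_pi_single', Finset.mem_univ, if_true]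
        ring
      · calc 2 < ({i₀, i₁, i₂} : Finset (Fin n)).card := by
              rw [Finset.card_insert_of_notMem (by simp [h01, h02]), Finset.card_pair h12]; norm_num
          _ ≤ _ := Finset.card_le_card (by
              intro i hi
              simp only [Finset.mem_insert, Finset.mem_singleton] at hi
              simp only [Finset.mem_filter, Finset.mem_univ, true_and, Pi.add_apply]
              rcases hi with rfl | rfl | rfl
              · simp [Pi.single_apply, h01, h02]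
              · simp [Pi.single_apply, h01.symm, h12, hz0]
              · rw [Pi.single_eq_of_ne h02.symm, Pi.single_eq_of_ne h12.symm, Pi.single_eq_same, zero_add, zero_add]
                exact neg_ne_zero.mpr h1z)
    · have hq : q = 2 := by have := one_lt_q hF; omega
      have h4 : 4 ≤ n := by omega
      have h2 : (2 : F) = 0 := by
        obtain ⟨p, k, hp, hc, hk, hqk⟩ := q_eq_primePow hF
        have : p = 2 := by
          rw [hq] at hqk
          exact (Nat.prime_dvd_prime_iff_eq hp Nat.prime_two).mp (hqk ▸ dvd_pow_self p (by omega))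
        subst this
        exact_mod_cast CharP.cast_eq_zero F 2
      set s : Finset (Fin n) := Finset.univ.filter fun i => (i : ℕ) < 4 with hsdef
      have hcard : s.card = 4 := by
        rw [show s = (Finset.univ : Finset (Fin 4)).map ⟨fun i => Fin.castLE h4 i, Fin.castLE_injective h4⟩ by
          ext i
          simp only [s, Finset.mem_filter, Finset.mem_univ, true_and, Finset.mem_map, Function.Embedding.coeFn_mk]
          exact ⟨fun h => ⟨⟨i, h⟩, rfl⟩, by rintro ⟨j, rfl⟩; exact j.isLt⟩]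
        simp
      refine ⟨fun i => if i ∈ s then 1 else 0, fun i => ?_, ?_, ?_⟩
      · by_cases hi : i ∈ s <;> simp [hi, zero_pow_q hF]
      · rw [Finset.sum_boole, Finset.filter_univ_mem, hcard]
        push_cast
        linear_combination 2 * h2
      · simp only [ne_eq, ite_eq_right_iff, one_ne_zero, imp_false, not_not, Finset.filter_univ_mem]
        omega
  have hdfix : ∀ i, d i ^ q = d i := fun i => herm_self_fixed (vs i) hF
  choose c hc using fun i => norm_surj hF (y := y i / d i) (by rw [div_pow, hyfix, hdfix])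
  have hc0 : ∀ i, y i ≠ 0 → c i ≠ 0 := fun i hy h0 => by
    have := hc i
    rw [h0, zero_mul, eq_comm, div_eq_zero_iff] at this
    exact this.elim hy (hd0 i)
  set v := ∑ k, c k • vs k with hv
  have hvi : ∀ i, hermForm n F q (vs i) v = c i ^ q * d i := by
    intro i
    rw [hv, herm_sum_right _ hF]
    simp only [herm_smul_right, horth, mul_ite, mul_zero, Finset.sum_ite_eq, Finset.mem_univ, if_true]
  have hiso : hermForm n F q v v = 0 := by
    conv_lhs => arg 4; rw [hv]
    rw [herm_sum_left]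
    simp only [herm_smul_left, hvi]
    rw [← hysum]
    refine Finset.sum_congr rfl fun i _ => ?_
    rw [← mul_assoc, hc, div_mul_cancel₀ _ (hd0 i)]
  obtain ⟨lam, hlam0, hlam⟩ := exists_trace_zero_ne_zero hF
  obtain ⟨t, ht, htx⟩ := exists_tv' hF hiso hlam
  obtain ⟨π, hπ⟩ := hle ht
  obtain ⟨i, hi⟩ := Finset.card_pos.mp (show 0 < (Finset.univ.filter fun i => y i ≠ 0).card by omega)
  simp only [Finset.mem_filter, Finset.mem_univ, true_and] at hi
  set μ := lam * (c i ^ q * d i) with hμ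
  have hμ0 : μ ≠ 0 := mul_ne_zero hlam0 (mul_ne_zero (pow_ne_zero _ (hc0 i hi)) (hd0 i))
  obtain ⟨a, ha⟩ := hline (π i) (vs i + μ • v) (by
    rw [← hπ i, hμ, ← hvi, ← htx]
    exact ⟨vs i, hvs i, by simp⟩)
  obtain ⟨k, hk, hki, hkπ⟩ : ∃ k, y k ≠ 0 ∧ k ≠ i ∧ k ≠ π i := by
    by_contra! h
    have : (Finset.univ.filter fun k => y k ≠ 0) ⊆ {i, π i} := by
      intro k hk
      simp only [Finset.mem_filter, Finset.mem_univ, true_and] at hk
      simp only [Finset.mem_insert, Finset.mem_singleton]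
      exact or_iff_not_imp_left.mpr (h k hk)
    have := (Finset.card_le_card this).trans Finset.card_le_two
    omega
  have hsum : ∑ j, ((if j = i then 1 else 0) + μ * c j - if j = π i then a else 0) • vs j = 0 := by
    simp only [sub_smul, add_smul, Finset.sum_sub_distrib, Finset.sum_add_distrib, ite_smul, one_smul, zero_smul,
      Finset.sum_ite_eq', Finset.mem_univ, if_true, mul_smul, ← Finset.smul_sum, ← hv, ha, sub_self]
  have := Fintype.linearIndependent_iff.mp hli _ hsum k
  rw [if_neg hki, if_neg hkπ, zero_add, sub_zero] at this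
  exact mul_ne_zero hμ0 (hc0 k hk) this

lemma exists_iso_nonzero (hF : Fintype.card F = q ^ 2) (hn : 2 ≤ n) :
    ∃ v : Fin n → F, v ≠ 0 ∧ hermForm n F q v v = 0 := by
  obtain ⟨a, ha0, ha⟩ := exists_norm_neg_one hF
  have h01 : (⟨0, by omega⟩ : Fin n) ≠ ⟨1, by omega⟩ := by simp
  refine ⟨_, fun h => ?_, iso_pair hF h01 ha⟩
  simpa [Pi.single_apply, h01] using congrFun h ⟨0, by omega⟩

lemma exists_pairing_ne (hF : Fintype.card F = q ^ 2) {v : Fin n → F} (hv : v ≠ 0) :
    ∃ x, hermForm n F q x v ≠ 0 := by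
  by_contra! h
  exact hv (herm_nondeg_right hF h)

/-- The functionals `x ↦ f(x, v)` and `x ↦ f(M x, v)` have a common kernel of dimension at least `n - 2`. -/
lemma pair_kernel (v : Fin n → F) (M : Matrix (Fin n) (Fin n) F) :
    ∃ U : Submodule F (Fin n → F), n ≤ Module.finrank F U + 2 ∧
      ∀ w ∈ U, hermForm n F q w v = 0 ∧ hermForm n F q (M *ᵥ w) v = 0 := by
  let L : (Fin n → F) →ₗ[F] F × F :=
    { toFun := fun w => (hermForm n F q w v, hermForm n F q (M *ᵥ w) v)
      map_add' := fun a b => by rw [Matrix.mulVec_add, herm_add_left, herm_add_left]; rfl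
      map_smul' := fun r a => by rw [Matrix.mulVec_smul, herm_smul_left, herm_smul_left]; rfl }
  refine ⟨LinearMap.ker L, ?_, fun w hw => ?_⟩
  · have h1 := L.finrank_range_add_finrank_ker
    have h2 := Submodule.finrank_le (LinearMap.range L)
    rw [Module.finrank_prod, Module.finrank_self] at h2
    rw [Module.finrank_fin_fun] at h1
    omega
  · rw [LinearMap.mem_ker] at hw
    exact ⟨congrArg Prod.fst hw, congrArg Prod.snd hw⟩

lemma not_le_subalgebra (hF : Fintype.card F = q ^ 2) (hn : 3 ≤ n) {r : ℕ} (hr : 2 ≤ r)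
    {K : Subalgebra F (Matrix (Fin n) (Fin n) F)} (hK : IsFieldSubalgebra r K) :
    ¬ SUgl n F q ≤ subalgebraNormalizer K := by
  classical
  intro hle
  haveI : Nonempty (Fin n) := ⟨⟨0, by omega⟩⟩
  obtain ⟨k, hk, hks⟩ : ∃ k ∈ K, ∀ c : F, k ≠ c • 1 := by
    by_contra! h
    have hbot : K = ⊥ := by
      rw [eq_bot_iff]
      intro k hk
      obtain ⟨c, rfl⟩ := h k hk
      rw [← Algebra.algebraMap_eq_smul_one]
      exact Subalgebra.algebraMap_mem _ c
    have h1 := hK.finrank_eq
    rw [hbot, Subalgebra.finrank_bot] at h1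
    omega
  have hker : ∀ z ∈ K, ∀ w : Fin n → F, w ≠ 0 → z *ᵥ w = 0 → z = 0 := by
    intro z hz w hw hzw
    by_contra hne
    obtain ⟨y, -, hy⟩ := hK.inv z hz hne
    have hy' : y * z = 1 := mul_eq_one_comm.mp hy
    apply hw
    rw [← Matrix.one_mulVec w, ← hy', ← Matrix.mulVec_mulVec, hzw, Matrix.mulVec_zero]
  obtain ⟨v, hv0, hv⟩ := exists_iso_nonzero hF (by omega : 2 ≤ n)
  obtain ⟨lam, hlam0, hlam⟩ := exists_trace_zero_ne_zero hF
  obtain ⟨t, ht, htx⟩ := exists_tv' hF hv hlam
  have hfix : ∀ w, hermForm n F q w v = 0 → t.val *ᵥ w = w := fun w hw => by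
    rw [htx, hw, mul_zero, zero_smul, add_zero]
  obtain ⟨U, hU, hUmem⟩ := pair_kernel (q := q) v k
  have hUne : U ≠ ⊥ := by
    intro h
    rw [h, finrank_bot] at hU
    omega
  obtain ⟨w, hw, hw0⟩ := Submodule.exists_mem_ne_zero_of_ne_bot hUne
  have hz := hker (t.val * k * (t⁻¹ : GL (Fin n) F).val - k)
    (Subalgebra.sub_mem _ (((hle ht) k).mp hk) hk) w hw0 (by
      rw [Matrix.sub_mulVec, ← Matrix.mulVec_mulVec, ← Matrix.mulVec_mulVec]
      have h1 : (t⁻¹ : GL (Fin n) F).val *ᵥ w = w := by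
        conv_lhs => rw [← hfix w (hUmem w hw).1]
        rw [inv_mulVec_cancel]
      rw [h1, hfix _ (hUmem w hw).2, sub_self])
  rw [sub_eq_zero] at hz
  have hcomm : t.val * k = k * t.val := by
    conv_rhs => rw [← hz]
    rw [mul_assoc _ _ t.val, Units.inv_mul, mul_one]
  obtain ⟨x, hx⟩ := exists_pairing_ne hF hv0
  have h2 := congrArg (fun Z => Z *ᵥ x) hcomm
  simp only [← Matrix.mulVec_mulVec, htx, Matrix.mulVec_add, Matrix.mulVec_smul, add_right_inj] at h2
  set c := (lam * hermForm n F q (k *ᵥ x) v) / (lam * hermForm n F q x v) with hc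
  apply hks c
  rw [← sub_eq_zero]
  refine hker _ (Subalgebra.sub_mem _ hk (Subalgebra.smul_mem _ (one_mem _) _)) v hv0 ?_
  rw [Matrix.sub_mulVec, Matrix.smul_mulVec, Matrix.one_mulVec, hc, div_eq_inv_mul, mul_smul, h2,
    inv_smul_smul₀ (mul_ne_zero hlam0 hx), sub_self]

/-- A determinant-one unipotent rank-one element of a subfield group has rational entries. -/
lemma unip_entries (hn : n.Prime) {F₀ : Subfield F} {P t : GL (Fin n) F} (ht : t ∈ subfieldSubgroup F₀ P)
    (hdet1 : t.val.det = 1) {X : Matrix (Fin n) (Fin n) F} (hX : t.val = 1 + X) (htr0 : X.trace = 0) :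
    ∀ r s, ((P⁻¹ : GL (Fin n) F).val * X * P.val) r s ∈ F₀ := by
  classical
  obtain ⟨g', hg', hconj⟩ := Subgroup.mem_map.mp ht
  rw [Subgroup.mem_sup_of_normal_right] at hg'
  obtain ⟨_, ⟨h, rfl⟩, u, hu, rfl⟩ := hg'
  obtain ⟨c, hc⟩ := (mem_scalars_iff u).mp hu
  set hh : GL (Fin n) F := Matrix.GeneralLinearGroup.map (F₀.subtype : F₀ →+* F) h with hhh
  set N' := (P⁻¹ : GL (Fin n) F).val * X * P.val with hN'
  have h1 : hh * u = P⁻¹ * t * P := by
    rw [← hconj]
    simp [mul_assoc]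
  have hmat : ((hh * u : GL (Fin n) F) : Matrix (Fin n) (Fin n) F) = 1 + N' := by
    rw [h1, Units.val_mul, Units.val_mul, hX, hN', Matrix.mul_add, Matrix.add_mul, mul_one, Units.inv_mul]
  have hval : ((hh * u : GL (Fin n) F) : Matrix (Fin n) (Fin n) F) = (c : F) • hh.val := by
    rw [Units.val_mul, hc, Matrix.mul_smul, mul_one]
  have hentry : ∀ r s, hh.val r s ∈ F₀ := fun r s => (h.val r s).2
  have hdet : hh.val.det ∈ F₀ := by
    rw [show hh.val = F₀.subtype.mapMatrix h.val from rfl, ← RingHom.map_det]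
    exact (h.val.det).2
  have htr : hh.val.trace ∈ F₀ := Subfield.sum_mem _ fun r _ => hentry r r
  have h2 : (c : F) • hh.val = 1 + N' := hval.symm.trans hmat
  have hdeteq : (c : F) ^ n * hh.val.det = 1 := by
    have h3 := congrArg Matrix.det hval
    rw [Matrix.det_smul, Fintype.card_fin] at h3
    rw [← h3, h1, Units.val_mul, Units.val_mul, Matrix.det_mul, Matrix.det_mul, hdet1, mul_one, ← Matrix.det_mul,
      Units.inv_mul, Matrix.det_one]
  have htreq : (c : F) * hh.val.trace = (n : F) := by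
    rw [← smul_eq_mul, ← Matrix.trace_smul, h2, Matrix.trace_add, Matrix.trace_one, hN',
      Matrix.trace_mul_cycle, Units.mul_inv, one_mul, htr0, add_zero, Fintype.card_fin]
  have hcF : (c : F) ∈ F₀ := by
    by_cases hz : (n : F) = 0
    · obtain ⟨p, hp⟩ := CharP.exists F
      have hpp : p.Prime := CharP.char_is_prime F p
      have hpn : p = n := (Nat.prime_dvd_prime_iff_eq hpp hn).mp ((CharP.cast_eq_zero_iff F p _).mp hz)
      haveI := Fact.mk hpp
      obtain ⟨f, -, hF⟩ := FiniteField.card F p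
      obtain ⟨e, -, -, -, hfix⟩ := card_subfield F₀ hF
      have hcp : (c : F) ^ p ∈ F₀ := by
        have h4 : (c : F) ^ n = (hh.val.det)⁻¹ := eq_inv_of_mul_eq_one_left hdeteq
        rw [hpn, h4]
        exact Subfield.inv_mem _ hdet
      rw [hfix, mem_fixedField] at hcp ⊢
      apply frobenius_inj F p
      simp only [frobenius_def]
      rw [← pow_mul, mul_comm, pow_mul, hcp]
    · have htr0' : hh.val.trace ≠ 0 := fun h0 => hz (by rw [← htreq, h0, mul_zero])
      rw [eq_div_of_mul_eq htr0' htreq]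
      exact div_mem (natCast_mem _ _) htr
  intro r s
  have h5 : ((c : F) • hh.val) r s - (1 : Matrix (Fin n) (Fin n) F) r s ∈ F₀ := by
    refine sub_mem ?_ ?_
    · rw [Matrix.smul_apply, smul_eq_mul]
      exact mul_mem hcF (hentry r s)
    · rw [Matrix.one_apply]
      split
      · exact one_mem _
      · exact zero_mem _
  rw [h2, Matrix.add_apply, add_sub_cancel_left] at h5
  exact h5

lemma exists_good_norm (hF : Fintype.card F = q ^ 2) (hq : Odd q) : ∃ a : F, a * a ^ q = -1 ∧ a ^ 6 ≠ 1 := by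
  obtain ⟨m, rfl⟩ := hq
  have h1 := one_lt_q hF
  obtain ⟨g, hg⟩ := IsCyclic.exists_ofOrder_eq_natCard (α := Fˣ)
  rw [Nat.card_units, Nat.card_eq_fintype_card, hF] at hg
  have hfact : (2 * m + 1) ^ 2 - 1 = m * (4 * m + 4) := by
    have : (2 * m + 1) ^ 2 = m * (4 * m + 4) + 1 := by ring
    omega
  have hord : orderOf (g ^ m) = 4 * m + 4 := by
    rw [orderOf_pow' g (by omega), hg, hfact, Nat.gcd_eq_right (Dvd.intro _ rfl), Nat.mul_div_cancel_left _ (by omega)]
  have h6 : (g ^ m) ^ 6 ≠ 1 := fun h => by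
    have := Nat.le_of_dvd (by norm_num) (orderOf_dvd_of_pow_eq_one h)
    omega
  refine ⟨((g ^ m : Fˣ) : F), ?_, fun h => h6 (Units.ext (by simpa using h))⟩
  have hsq : (((g ^ m : Fˣ) : F) * ((g ^ m : Fˣ) : F) ^ (2 * m + 1)) ^ 2 = 1 := by
    rw [← pow_succ', ← pow_mul, show (2 * m + 1 + 1) * 2 = 4 * m + 4 by ring, ← hord, ← Units.val_pow_eq_pow_val,
      pow_orderOf_eq_one, Units.val_one]
  rcases sq_eq_one_iff.mp hsq with h | h
  · exfalso
    rw [← pow_succ', ← Units.val_pow_eq_pow_val, Units.val_eq_one] at h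
    have := Nat.le_of_dvd (by omega) (orderOf_dvd_of_pow_eq_one h)
    omega
  · exact h

lemma not_le_subfield (hF : Fintype.card F = q ^ 2) (hn : n.Prime) (h3 : 3 ≤ n) {F₀ : Subfield F} {r : ℕ}
    (hr : r.Prime) (hcase : Odd r ∨ (r = 2 ∧ Odd q)) (hcard : Fintype.card F = Nat.card F₀ ^ r)
    (P : GL (Fin n) F) : ¬ SUgl n F q ≤ subfieldSubgroup F₀ P := by
  classical
  intro hle
  obtain ⟨lam, hlam0, hlam⟩ := exists_trace_zero_ne_zero hF
  let X : (Fin n → F) → Matrix (Fin n) (Fin n) F := fun v => Matrix.vecMulVec v (fun j => v j ^ q)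
  have hXapp : ∀ v x : Fin n → F, X v *ᵥ x = hermForm n F q x v • v := by
    intro v x
    funext i
    simp only [X, Matrix.mulVec, dotProduct, Matrix.vecMulVec_apply, hermForm, Pi.smul_apply, smul_eq_mul,
      Finset.sum_mul]
    exact Finset.sum_congr rfl fun j _ => by ring
  have hXtr : ∀ v : Fin n → F, (X v).trace = hermForm n F q v v := by
    intro v
    simp only [X, Matrix.trace_vecMulVec]
    rfl
  have key : ∀ v : Fin n → F, hermForm n F q v v = 0 → ∀ c : F, c + c ^ q = 0 → ∀ i j,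
      c * (((P⁻¹ : GL (Fin n) F).val * X v * P.val) i j) ∈ F₀ := by
    intro v hv c hc i j
    obtain ⟨t, ht, htx⟩ := exists_tv' hF hv hc
    have hval : t.val = 1 + c • X v := by
      refine Matrix.ext_of_mulVec_single fun i => ?_
      rw [htx, Matrix.add_mulVec, Matrix.one_mulVec, Matrix.smul_mulVec, hXapp, smul_smul]
    have h1 := unip_entries hn (hle ht) (mem_specialLinear.mp ht.2) hval
      (by rw [Matrix.trace_smul, hXtr, hv, smul_zero]) i j
    rwa [Matrix.mul_smul, Matrix.smul_mul, Matrix.smul_apply, smul_eq_mul] at h1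
  obtain ⟨v, hv0, hv⟩ := exists_iso_nonzero hF (by omega : 2 ≤ n)
  obtain ⟨i, j, hij⟩ : ∃ i j, ((P⁻¹ : GL (Fin n) F).val * X v * P.val) i j ≠ 0 := by
    by_contra! h
    obtain ⟨x, hx⟩ := exists_pairing_ne hF hv0
    have h0 : X v = 0 := by
      calc X v = P.val * ((P⁻¹ : GL (Fin n) F).val * X v * P.val) * (P⁻¹ : GL (Fin n) F).val := by simp [mul_assoc]
        _ = 0 := by rw [show (P⁻¹ : GL (Fin n) F).val * X v * P.val = 0 from Matrix.ext h, mul_zero, zero_mul]
    have h1 := hXapp v x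
    rw [h0, Matrix.zero_mulVec] at h1
    exact (smul_eq_zero.mp h1.symm).elim hx hv0
  have hfix : fixed hF ≤ F₀ := by
    intro z hz
    have hz' : z ^ q = z := hz
    have h1 := key v hv (z * lam) (by rw [mul_pow, hz', ← mul_add, hlam, mul_zero]) i j
    have h2 := key v hv lam hlam i j
    have h3 := div_mem h1 h2
    rwa [mul_assoc, mul_div_assoc, div_self (mul_ne_zero hlam0 hij), mul_one] at h3
  have hqle : q ≤ Nat.card F₀ := by
    have := Nat.card_le_card_of_injective _ (Subfield.inclusion hfix).injective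
    rwa [card_fixed' hF] at this
  have hq1 := one_lt_q hF
  rcases hcase with hro | ⟨rfl, hqo⟩
  · have h1 : q ^ r ≤ q ^ 2 := by
      rw [← hF, hcard]
      exact Nat.pow_le_pow_left hqle r
    have h2 := (Nat.pow_le_pow_iff_right hq1).mp h1
    obtain ⟨k, rfl⟩ := hro
    have := hr.two_le
    omega
  have hceq : Nat.card F₀ = q := Nat.pow_left_injective two_ne_zero (hcard.symm.trans hF)
  have heq : F₀ = fixed hF := by
    refine (SetLike.coe_injective (Set.eq_of_subset_of_ncard_le hfix ?_)).symm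
    rw [← Nat.card_coe_set_eq, ← Nat.card_coe_set_eq]
    exact le_of_eq (hceq.trans (card_fixed' hF).symm)
  obtain ⟨a, ha, ha6⟩ := exists_good_norm hF hqo
  let i₀ : Fin n := ⟨0, by omega⟩
  let i₁ : Fin n := ⟨1, by omega⟩
  let i₂ : Fin n := ⟨2, by omega⟩
  have h01 : i₀ ≠ i₁ := by simp [i₀, i₁]
  have h02 : i₀ ≠ i₂ := by simp [i₀, i₂]
  have h12 : i₁ ≠ i₂ := by simp [i₁, i₂]
  set u := Pi.single i₀ (1 : F) + a • Pi.single i₁ 1 with hu
  set w := Pi.single i₁ (1 : F) + a • Pi.single i₂ 1 with hw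
  set z := Pi.single i₂ (1 : F) + a • Pi.single i₀ 1 with hz
  have hwu : hermForm n F q w u = a ^ q := by
    simp [hu, hw, herm_add_left, herm_add_right _ _ _ hF, herm_smul_left, herm_smul_right, herm_std hF, h01.symm,
      h02.symm, h12.symm]
  have hzw : hermForm n F q z w = a ^ q := by
    simp [hw, hz, herm_add_left, herm_add_right _ _ _ hF, herm_smul_left, herm_smul_right, herm_std hF, h01,
      h02, h12.symm]
  have huz : hermForm n F q u z = a ^ q := by
    simp [hu, hz, herm_add_left, herm_add_right _ _ _ hF, herm_smul_left, herm_smul_right, herm_std hF, h01.symm,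
      h02, h12]
  set Y : (Fin n → F) → Matrix (Fin n) (Fin n) F := fun v => lam • ((P⁻¹ : GL (Fin n) F).val * X v * P.val) with hY
  have hYmem : ∀ v, hermForm n F q v v = 0 → ∀ i j, Y v i j ∈ F₀ := fun v hv i j => by
    simpa [hY] using key v hv lam hlam i j
  have hmem : (Y u * Y w * Y z).trace ∈ F₀ := by
    refine Subfield.sum_mem _ fun k _ => ?_
    simp only [Matrix.diag_apply, Matrix.mul_apply]
    refine Subfield.sum_mem _ fun l _ => mul_mem (Subfield.sum_mem _ fun m _ => mul_mem ?_ ?_) ?_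
    · exact hYmem u (iso_pair hF h01 ha) _ _
    · exact hYmem w (iso_pair hF h12 ha) _ _
    · exact hYmem z (iso_pair hF h02.symm ha) _ _
  have htr : (Y u * Y w * Y z).trace = lam ^ 3 * (a ^ q) ^ 3 := by
    have h1 : Y u * Y w * Y z = lam ^ 3 • ((P⁻¹ : GL (Fin n) F).val * (X u * X w * X z) * P.val) := by
      simp only [hY, Matrix.smul_mul, Matrix.mul_smul, smul_smul]
      rw [show lam * (lam * lam) = lam ^ 3 by ring]
      congr 1
      simp [mul_assoc]
    rw [h1, Matrix.trace_smul, Matrix.trace_mul_cycle, Units.mul_inv, one_mul, smul_eq_mul]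
    congr 1
    simp only [X, Matrix.vecMulVec_mul_vecMulVec, Matrix.trace_vecMulVec, Matrix.smul_mul,
      Matrix.trace_smul, smul_eq_mul, dotProduct_smul, smul_dotProduct]
    have e : ∀ x y : Fin n → F, (fun j => x j ^ q) ⬝ᵥ y = hermForm n F q y x := fun x y => by
      simp only [dotProduct, hermForm, mul_comm]
    have e' : ∀ x y : Fin n → F, x ⬝ᵥ (fun j => y j ^ q) = hermForm n F q x y := fun x y => rfl
    simp only [e, e', hwu, hzw, huz]
    ring
  rw [htr, heq, mem_fixed, mul_pow, ← pow_mul lam, mul_comm 3 q, pow_mul, ← pow_mul (a ^ q), mul_comm 3 q,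
    pow_mul (a ^ q), pow_q_q hF, eq_neg_of_add_eq_zero_right hlam] at hmem
  apply ha6
  have ha0 : a ≠ 0 := by rintro rfl; simp at ha
  have h3 : a ^ 3 = -((a ^ q) ^ 3) :=
    mul_left_cancel₀ (pow_ne_zero 3 hlam0) (by linear_combination (-1 : F) * hmem)
  calc a ^ 6 = -((a * a ^ q) ^ 3) := by rw [mul_pow]; linear_combination (a ^ 3) * h3
    _ = 1 := by rw [ha]; ring

lemma not_le_normalizer (hF : Fintype.card F = q ^ 2) (hn : n.Prime) (h5 : 5 ≤ n)
    {R : Subgroup (GL (Fin n) F)} (habs : ActsAbsolutelyIrreducibly (matrixSet R))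
    (hSL : R ≤ specialLinear (Fin n) F) (hcomm : ⁅R, R⁆ ≤ scalars (Fin n) F) :
    ¬ SUgl n F q ≤ subgroupNormalizer R := by
  classical
  intro hle
  haveI : Nonempty (Fin n) := ⟨⟨0, hn.pos⟩⟩
  obtain ⟨v, hv0, hv⟩ := exists_iso_nonzero hF (by omega : 2 ≤ n)
  obtain ⟨lam, hlam0, hlam⟩ := exists_trace_zero_ne_zero hF
  obtain ⟨t, ht, htx⟩ := exists_tv' hF hv hlam
  have hfix : ∀ w, hermForm n F q w v = 0 → t.val *ᵥ w = w := fun w hw => by
    rw [htx, hw, mul_zero, zero_smul, add_zero]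
  have hfix' : ∀ w, hermForm n F q w v = 0 → (t⁻¹ : GL (Fin n) F).val *ᵥ w = w := fun w hw => by
    conv_lhs => rw [← hfix w hw]
    rw [inv_mulVec_cancel]
  have hcomm' : ∀ x ∈ R, t * x = x * t := by
    intro x hx
    set z := x * t * x⁻¹ * t⁻¹ with hz
    have hzR : z ∈ R := by
      have h1 := (Subgroup.mem_normalizer_iff.mp (hle ht) x⁻¹).mp (inv_mem hx)
      have h2 := mul_mem hx h1
      simpa [hz, mul_assoc] using h2
    obtain ⟨U, hU, hUmem⟩ := pair_kernel (q := q) v (x⁻¹ : GL (Fin n) F).val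
    have hzU : ∀ w ∈ U, z.val *ᵥ w = w := by
      intro w hw
      rw [hz, Units.val_mul, Units.val_mul, Units.val_mul, ← Matrix.mulVec_mulVec, ← Matrix.mulVec_mulVec,
        ← Matrix.mulVec_mulVec, hfix' w (hUmem w hw).1, hfix _ (hUmem w hw).2, mulVec_inv_cancel]
    have hzcomm : ∀ y ∈ R, z.val * y.val = y.val * z.val := by
      intro y hy
      obtain ⟨c, -, hc⟩ := comm_factor hSL hcomm hy hzR
      rcases eq_or_ne c 1 with rfl | hc1
      · rw [hc, one_smul]
      exfalso
      have hdisj : U ⊓ translate y U = ⊥ := by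
        rw [eq_bot_iff]
        rintro w ⟨hw1, hw2⟩
        rw [SetLike.mem_coe, mem_translate] at hw2
        have h1 : z.val *ᵥ w = c • w := by
          conv_lhs => rw [← mulVec_inv_cancel y w, Matrix.mulVec_mulVec, hc, Matrix.smul_mulVec,
            ← Matrix.mulVec_mulVec, hzU _ hw2, mulVec_inv_cancel]
        rw [hzU w hw1] at h1
        have h2 : (c - 1) • w = 0 := by rw [sub_smul, one_smul, ← h1, sub_self]
        exact (smul_eq_zero.mp h2).resolve_left (sub_ne_zero.mpr hc1)
      have h1 := Submodule.finrank_sup_add_finrank_inf_eq U (translate y U)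
      rw [hdisj, finrank_bot, finrank_translate, add_zero] at h1
      have h2 := Submodule.finrank_le (U ⊔ translate y U)
      rw [Module.finrank_fin_fun] at h2
      omega
    obtain ⟨c, hc⟩ := habs.2 z.val (fun s hs => by
      obtain ⟨y, hy, rfl⟩ := mem_matrixSet.mp hs
      exact hzcomm y hy)
    have hUne : U ≠ ⊥ := by
      intro h
      rw [h, finrank_bot] at hU
      omega
    obtain ⟨w, hw, hw0⟩ := Submodule.exists_mem_ne_zero_of_ne_bot hUne
    have hc1 : c = 1 := by
      have h1 := hzU w hw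
      rw [hc, Matrix.smul_mulVec, Matrix.one_mulVec] at h1
      have h2 : (c - 1) • w = 0 := by rw [sub_smul, one_smul, h1, sub_self]
      exact sub_eq_zero.mp ((smul_eq_zero.mp h2).resolve_right hw0)
    have hz1 : z = 1 := Units.ext (by rw [hc, hc1, one_smul, Units.val_one])
    rw [hz, mul_inv_eq_one, mul_inv_eq_iff_eq_mul] at hz1
    exact hz1.symm
  obtain ⟨c, hc⟩ := habs.2 t.val (fun s hs => by
    obtain ⟨y, hy, rfl⟩ := mem_matrixSet.mp hs
    exact congrArg Units.val (hcomm' y hy))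
  have h1 := htx v
  rw [hv, mul_zero, zero_smul, add_zero, hc, Matrix.smul_mulVec, Matrix.one_mulVec] at h1
  have h2 : (c - 1) • v = 0 := by rw [sub_smul, one_smul, h1, sub_self]
  have hc1 : c = 1 := sub_eq_zero.mp ((smul_eq_zero.mp h2).resolve_right hv0)
  obtain ⟨x, hx⟩ := exists_pairing_ne hF hv0
  have h3 := htx x
  rw [hc, hc1, one_smul, Matrix.one_mulVec, left_eq_add] at h3
  exact (smul_eq_zero.mp h3).elim (mul_ne_zero hlam0 hx) hv0

/-- The data of the symplectic type case. -/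
def RData (n q : ℕ) (R : Subgroup (GL (Fin n) F)) : Prop :=
  ∃ p h : ℕ, p.Prime ∧ CharP F p ∧ q = p ^ h ∧ 0 < h ∧ n ∣ p ^ (2 * h) - 1 ∧
    (∀ d, 0 < d → d < 2 * h → ¬ n ∣ p ^ d - 1) ∧
    IsSymplecticTypeGroup n R ∧ ActsAbsolutelyIrreducibly (matrixSet R) ∧ R ≤ SUgl n F q ∧
    ⁅R, R⁆ ≤ scalars (Fin n) F ∧ Nat.card R = n ^ 3 ∧ Nat.card (Subgroup.center R) = n

/-- The containments for an arbitrary subgroup of `SU(n, q)`. -/
def Conclusion (n q : ℕ) (H : Subgroup (GL (Fin n) F)) : Prop :=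
  (∃ W : Submodule F (Fin n → F), W ≠ ⊥ ∧ W ≠ ⊤ ∧ IsTotallySingularFor (hermForm n F q) W ∧
    H ≤ subspaceStabilizer W) ∨
  (∃ W : Submodule F (Fin n → F), W ≠ ⊥ ∧ W ≠ ⊤ ∧ IsNondegenerateOn (hermForm n F q) W ∧
    2 * Module.finrank F W < n ∧ H ≤ subspaceStabilizer W) ∨
  (∃ D : Fin n → Submodule F (Fin n → F), IsNondegenerateMDecomposition (hermForm n F q) 1 D ∧
    H ≤ decompositionStabilizer D) ∨
  (∃ K : Subalgebra F (Matrix (Fin n) (Fin n) F), IsFieldSubalgebra n K ∧
    IsAdjointClosedFor (hermForm n F q) K ∧ H ≤ subalgebraNormalizer K ∧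
    ∃ N : Subgroup (GL (Fin n) F), N ≤ SUgl n F q ∧ NormalizedBy H N ∧ ¬ N ≤ scalars (Fin n) F ∧ Irred N ∧
      K = commutant N) ∨
  (∃ (F₀ : Subfield F) (r : ℕ) (P : GL (Fin n) F), r.Prime ∧ (Odd r ∨ (r = 2 ∧ Odd q)) ∧
    Fintype.card F = Nat.card F₀ ^ r ∧ IsFormRationalStructure (hermForm n F q) F₀ 1 P ∧
    H ≤ subfieldSubgroup F₀ P) ∨
  (∃ R : Subgroup (GL (Fin n) F), RData n q R ∧ H ≤ subgroupNormalizer R) ∨
  InUnitaryResidualClass H

theorem main (hF : Fintype.card F = q ^ 2) (hn : n.Prime) (h3 : 3 ≤ n) (H : Subgroup (GL (Fin n) F))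
    (hHG : H ≤ SUgl n F q) : Conclusion n q H := by
  classical
  have hodd : Odd n := hn.odd_of_ne_two (by omega)
  haveI : Nonempty (Fin n) := ⟨⟨0, hn.pos⟩⟩
  have hHU : H ≤ GU n F q := hHG.trans inf_le_left
  have hinvperp : ∀ W : Submodule F (Fin n → F), Invariant H W → Invariant H (perp q W) := by
    intro W hW g hg v hv w hw
    have h1 : hermForm n F q (g.val *ᵥ v) (g.val *ᵥ ((g⁻¹ : GL (Fin n) F).val *ᵥ w))
        = hermForm n F q v ((g⁻¹ : GL (Fin n) F).val *ᵥ w) := mem_GU_iff.mp (hHU hg) _ _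
    rw [mulVec_inv_cancel] at h1
    rw [h1]
    exact hv _ (hW g⁻¹ (inv_mem hg) w hw)
  by_cases hH : Irred H
  swap
  · simp only [Irred, not_forall, not_or] at hH
    obtain ⟨W, hW, hb, ht⟩ := hH
    by_cases hR : W ⊓ perp q W = ⊥
    swap
    · refine Or.inl ⟨W ⊓ perp q W, hR, fun h => ht (eq_top_iff.mpr (h ▸ inf_le_left)),
        fun u hu v hv => hu.2 v hv.1, invariant_le_stab fun g hg v hv => ⟨hW g hg v hv.1, hinvperp W hW g hg v hv.2⟩⟩
    have hnd : ∀ U : Submodule F (Fin n → F), U ⊓ perp q U = ⊥ → IsNondegenerateOn (hermForm n F q) U := by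
      intro U hU w hw hw0
      have hex : ∃ x ∈ U, hermForm n F q w x ≠ 0 := by
        by_contra! hc
        have : w ∈ U ⊓ perp q U := ⟨hw, hc⟩
        rw [hU, Submodule.mem_bot] at this
        exact hw0 this
      obtain ⟨x, hx, hne⟩ := hex
      exact ⟨⟨x, hx, fun h => hne (herm_eq_zero_symm hF h)⟩, ⟨x, hx, hne⟩⟩
    have hdim := finrank_perp hF W
    by_cases hsmall : 2 * Module.finrank F W < n
    · exact Or.inr (Or.inl ⟨W, hb, ht, hnd W hR, hsmall, invariant_le_stab hW⟩)
    have hne : 2 * Module.finrank F W ≠ n := fun h => by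
      obtain ⟨k, hk⟩ := hodd; omega
    have hRperp : perp q W ⊓ perp q (perp q W) = ⊥ := by rwa [perp_perp hF, inf_comm]
    refine Or.inr (Or.inl ⟨perp q W, ?_, ?_, hnd _ hRperp, by omega, invariant_le_stab (hinvperp W hW)⟩)
    · intro h
      rw [h, finrank_bot, zero_add] at hdim
      exact ht (Submodule.eq_top_of_finrank_eq (by rw [hdim, Module.finrank_fin_fun]))
    · intro h
      rw [h, finrank_top, Module.finrank_fin_fun] at hdim
      exact hb (Submodule.finrank_eq_zero.mp (by omega))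
  rcases Main.structural hn H hH with ⟨D, hD, hle, N, hNH, χ, hχinj, hχ⟩ | ⟨N, hNH, hNn, hNs, hNirr, hK⟩ |
      ⟨N, hNH, hNn, habs, hcomm, hchar⟩ | ⟨P, hPH, hPn, habs, hperf, hsimp, hnab, hcent⟩
  · -- monomial: the frame is orthogonal
    refine Or.inr (Or.inr (Or.inl ⟨D, ?_, hle⟩))
    obtain ⟨vs, hvs, hv0, hli, hline, hspan⟩ := exists_frame_basis hD
    have hpair : ∀ i j, hermForm n F q (vs i) (vs j) ≠ 0 → ∀ x : N, χ i x * χ j x ^ q = 1 := by
      intro i j hne x
      have h1 := mem_GU_iff.mp (hHU (hNH x.2)) (vs i) (vs j)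
      rw [mem_eigSpace.mp (hχ i (hvs i)) x, mem_eigSpace.mp (hχ j (hvs j)) x, herm_smul_left, herm_smul_right,
        ← mul_assoc] at h1
      exact (mul_eq_right₀ hne).mp h1
    have huniq : ∀ i j k, hermForm n F q (vs i) (vs j) ≠ 0 → hermForm n F q (vs i) (vs k) ≠ 0 → j = k := by
      intro i j k hj hk
      apply hχinj
      funext x
      have h1 := hpair i j hj x
      have h2 := hpair i k hk x
      exact pow_q_injective hF (mul_left_cancel₀ (left_ne_zero_of_mul_eq_one h1) (h1.trans h2.symm))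
    have hex : ∀ i, ∃ j, hermForm n F q (vs i) (vs j) ≠ 0 := by
      intro i
      by_contra! hc
      refine hv0 i (herm_nondeg_left hF fun v => ?_)
      have : v ∈ Submodule.span F (Set.range vs) := hspan ▸ Submodule.mem_top
      obtain ⟨c, rfl⟩ := (Submodule.mem_span_range_iff_exists_fun F).mp this
      rw [herm_sum_right _ hF]
      exact Finset.sum_eq_zero fun j _ => by rw [herm_smul_right, hc, mul_zero]
    choose τ hτ using hex
    have hττ : ∀ i, τ (τ i) = i := fun i =>
      huniq (τ i) _ _ (hτ _) fun h => hτ i (herm_eq_zero_symm hF h)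
    have hcommτ : ∀ g ∈ H, ∀ π : Equiv.Perm (Fin n),
        (∀ i, (D i).map (Matrix.toLin' g.val) = D (π i)) → ∀ i, τ (π i) = π (τ i) := by
      intro g hg π hπ i
      obtain ⟨a, ha⟩ := hline (π i) (g.val *ᵥ vs i) (hπ i ▸ ⟨vs i, hvs i, by simp⟩)
      obtain ⟨b, hb⟩ := hline (π (τ i)) (g.val *ᵥ vs (τ i)) (hπ (τ i) ▸ ⟨vs (τ i), hvs _, by simp⟩)
      refine huniq (π i) _ _ (hτ _) fun h0 => hτ i ?_
      rw [← mem_GU_iff.mp (hHU hg) (vs i) (vs (τ i)), ha, hb, herm_smul_left, herm_smul_right, h0, mul_zero,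
        mul_zero]
    obtain ⟨i₀, hi₀⟩ : ∃ i, τ i = i := by
      by_contra! hc
      have hev := Equiv.Perm.exists_fixed_point_of_prime (p := 2) (n := 1)
        (σ := Function.Involutive.toPerm τ hττ) (by rw [Fintype.card_fin, Nat.two_dvd_ne_zero, Nat.odd_iff.mp hodd])
        (by ext x; simp only [pow_one, sq, Equiv.Perm.mul_apply, Equiv.Perm.one_apply]; exact congrArg Fin.val (hττ x))
      obtain ⟨a, ha⟩ := hev
      exact hc a ha
    have hfixed : ∀ i, τ i = i := by
      by_contra! hc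
      obtain ⟨j, hj⟩ := hc
      set W : Submodule F (Fin n → F) := ⨆ i ∈ {i | τ i = i}, D i with hW
      have hWinv : Invariant H W := by
        intro g hg w hw
        obtain ⟨π, hπ⟩ := hle hg
        have hmap : W.map (Matrix.toLin' g.val) ≤ W := by
          rw [hW, Submodule.map_iSup]
          refine iSup_le fun i => ?_
          rw [Submodule.map_iSup]
          refine iSup_le fun hi => ?_
          rw [hπ]
          exact le_biSup D (show π i ∈ {i | τ i = i} by
            show τ (π i) = π i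
            rw [hcommτ g hg π hπ, show τ i = i from hi])
        have := hmap (Submodule.mem_map_of_mem hw)
        simpa using this
      rcases hH W hWinv with h | h
      · have h1 : D i₀ ≤ W := le_biSup D (show i₀ ∈ {i | τ i = i} from hi₀)
        rw [h, le_bot_iff] at h1
        exact hv0 i₀ (by simpa [h1] using hvs i₀)
      · have hdis := hD.indep.disjoint_biSup (y := {i | τ i = i}) (x := j) (by simpa using hj)
        rw [← hW, h, disjoint_top] at hdis
        exact hv0 j (by simpa [hdis] using hvs j)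
    refine ⟨hD, fun i w hw hw0 => ?_, fun i j hij u hu v hv => ?_⟩
    · obtain ⟨c, rfl⟩ := hline i w hw
      have hc : c ≠ 0 := fun h => hw0 (by rw [h, zero_smul])
      have hd : hermForm n F q (vs i) (vs i) ≠ 0 := by
        have := hτ i
        rwa [hfixed i] at this
      refine ⟨⟨vs i, hvs i, ?_⟩, ⟨vs i, hvs i, ?_⟩⟩
      · rw [herm_smul_right]
        exact mul_ne_zero (pow_ne_zero _ hc) hd
      · rw [herm_smul_left]
        exact mul_ne_zero hc hd
    · obtain ⟨a, rfl⟩ := hline i u hu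
      obtain ⟨b, rfl⟩ := hline j v hv
      rw [herm_smul_left, herm_smul_right]
      by_cases h0 : hermForm n F q (vs i) (vs j) = 0
      · rw [h0, mul_zero, mul_zero]
      · exfalso
        have := huniq i j (τ i) h0 (hτ i)
        rw [hfixed i] at this
        exact hij this.symm
  · -- field extension
    refine Or.inr (Or.inr (Or.inr (Or.inl ⟨_, hK, fun k hk => ?_, le_subalgebraNormalizer_commutant hNn,
      N, hNH.trans hHG, hNn, hNs, hNirr, rfl⟩)))
    refine ⟨(k.map (conj hF))ᵀ, mem_commutant.mpr fun x hx => ?_, fun u v => ?_⟩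
    · have hx' := inv_mem hx
      have h1 := mem_commutant.mp hk x⁻¹ hx'
      have h2 := congrArg (fun Z : Matrix (Fin n) (Fin n) F => (Z.map (conj hF))ᵀ) h1
      simp only [Matrix.map_mul, Matrix.transpose_mul, GU_conj_eq hF (hHU (hNH hx')), inv_inv,
        Matrix.transpose_transpose] at h2
      exact h2.symm
    · have h1 : ∀ a b : Fin n → F, hermForm n F q a b = a ⬝ᵥ (conj hF ∘ b) := fun a b => rfl
      rw [h1, h1, map_mulVec_comp, Matrix.transpose_map, map_conj_conj hF, Matrix.dotProduct_mulVec,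
        Matrix.vecMul_transpose]
  · -- symplectic type
    obtain ⟨⟨P, η, hη, hexp, hcard, hcc, -, -, hmono⟩⟩ := exists_frame hn h3 (hNH.trans (hHG.trans inf_le_right)) habs hcomm
    obtain ⟨p, h, hp, hchar', hh, hq⟩ := q_eq_primePow hF
    haveI := Fact.mk hp
    have hFp : Fintype.card F = p ^ (2 * h) := by rw [hF, hq, ← pow_mul, mul_comm]
    have hdvd : n ∣ p ^ (2 * h) - 1 := by
      rw [← hFp]
      exact hη.dvd_of_pow_eq_one _ (FiniteField.pow_card_sub_one_eq_one η (hη.ne_zero hn.ne_zero))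
    by_cases hmin : ∀ d, 0 < d → d < 2 * h → ¬ n ∣ p ^ d - 1
    · exact Or.inr (Or.inr (Or.inr (Or.inr (Or.inr (Or.inl ⟨N, ⟨p, h, hp, hchar', hq, hh, hdvd, hmin,
        Main.isSymplecticType hn h3 hexp hcard hchar, habs, hNH.trans hHG, hcomm, hcard, hcc⟩,
        Main.le_normalizer hNn⟩)))))
    push Not at hmin
    obtain ⟨d, hd0, hdlt, hdd⟩ := hmin
    set e := Nat.gcd d (2 * h) with he
    have he0 : 0 < e := Nat.gcd_pos_of_pos_left _ hd0
    have hne : n ∣ p ^ e - 1 := by
      rw [he, ← Nat.pow_sub_one_gcd_pow_sub_one]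
      exact Nat.dvd_gcd hdd hdvd
    have helt : e < 2 * h := lt_of_le_of_lt (Nat.le_of_dvd hd0 (Nat.gcd_dvd_left _ _)) hdlt
    have hef : e ∣ 2 * h := Nat.gcd_dvd_right _ _
    refine Or.inr (Or.inr (Or.inr (Or.inr (Or.inl ?_))))
    refine subfield_case hF hn.two_le hodd (hNH.trans hHU) hNn habs (F₀ := fixedField p e) ?_ ⟨P⁻¹, ?_⟩
    · intro htop
      have := card_fixedField (F := F) he0 hef hFp
      rw [htop, Nat.card_congr (Equiv.subtypeUnivEquiv fun x => Subfield.mem_top x), Nat.card_eq_fintype_card, hFp] at this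
      exact helt.ne (Nat.pow_right_injective hp.two_le this.symm)
    · intro s hs i j
      obtain ⟨z, hz, rfl⟩ := mem_matrixSet.mp hs
      obtain ⟨π, c, hc, hzc⟩ := hmono z hz
      rw [inv_inv, ← Units.val_mul, ← Units.val_mul, hzc]
      split
      · obtain ⟨m, hm⟩ := hne
        rw [mem_fixedField, ← Nat.sub_add_cancel (Nat.one_le_pow e p hp.pos), pow_succ, hm, pow_mul, hc j, one_pow,
          one_mul]
      · exact zero_mem _
  · -- perfect
    by_cases hsub : ∃ F₀ : Subfield F, F₀ ≠ ⊤ ∧ RealisableOver F₀ (matrixSet P)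
    · obtain ⟨F₀, hne, hr⟩ := hsub
      exact Or.inr (Or.inr (Or.inr (Or.inr (Or.inl (subfield_case hF hn.two_le hodd (hPH.trans hHU) hPn habs hne hr)))))
    push Not at hsub
    refine Or.inr (Or.inr (Or.inr (Or.inr (Or.inr (Or.inr ⟨P,
      ⟨hPH, hPn, hperf, hsimp, hnab, hcent, habs, fun F₀ h1 h2 => hsub F₀ h1 h2⟩, ?_,
      fun ⟨f, hf, _⟩ => not_symplectic (by rwa [Fintype.card_fin]) f hf⟩)))))
    rintro ⟨Q, hQ, hfix⟩
    refine hsub (fixed hF) (fixed_ne_top hF) (realisable_of_bilinear hF hn.pos (hPH.trans hHU) habs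
      (A := gramMatrix (QuadraticMap.polar Q))
      ((isSesqui_of_bilinear hQ.polar_bilinear).det_ne_zero Function.bijective_id hQ.nondegenerate) fun x hx => ?_)
    have h1 := ((isSesqui_of_bilinear hQ.polar_bilinear).scale_iff x.val 1).mp fun u v => by
      rw [one_mul]
      simp only [QuadraticMap.polar, ← Matrix.mulVec_add, hfix _ (mem_matrixSet.mpr ⟨x, hx, rfl⟩)]
    simpa using h1

/-- The equalities for a maximal subgroup, `n ≥ 5`. -/
theorem maximal_cases (hF : Fintype.card F = q ^ 2) (hn : n.Prime) (h5 : 5 ≤ n) {H : Subgroup (GL (Fin n) F)}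
    (hH : IsMaximalIn (SUgl n F q) H) :
    (∃ W : Submodule F (Fin n → F), W ≠ ⊥ ∧ IsTotallySingularFor (hermForm n F q) W ∧
      H = subspaceStabilizer W ⊓ SUgl n F q) ∨
    (∃ W : Submodule F (Fin n → F), W ≠ ⊥ ∧ IsNondegenerateOn (hermForm n F q) W ∧
      2 * Module.finrank F W < n ∧ H = subspaceStabilizer W ⊓ SUgl n F q) ∨
    (∃ D : Fin n → Submodule F (Fin n → F), IsNondegenerateMDecomposition (hermForm n F q) 1 D ∧
      H = decompositionStabilizer D ⊓ SUgl n F q) ∨
    (∃ K : Subalgebra F (Matrix (Fin n) (Fin n) F), IsFieldSubalgebra n K ∧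
      IsAdjointClosedFor (hermForm n F q) K ∧ H = subalgebraNormalizer K ⊓ SUgl n F q) ∨
    (∃ (F₀ : Subfield F) (r : ℕ) (P : GL (Fin n) F), r.Prime ∧ Odd r ∧ Fintype.card F = Nat.card F₀ ^ r ∧
      IsFormRationalStructure (hermForm n F q) F₀ 1 P ∧ H = subfieldSubgroup F₀ P ⊓ SUgl n F q) ∨
    (Odd q ∧ ∃ (F₀ : Subfield F) (P : GL (Fin n) F), Fintype.card F = Nat.card F₀ ^ 2 ∧
      IsFormRationalStructure (hermForm n F q) F₀ 1 P ∧ H = subfieldSubgroup F₀ P ⊓ SUgl n F q) ∨
    (∃ R : Subgroup (GL (Fin n) F), RData n q R ∧ H = subgroupNormalizer R ⊓ SUgl n F q) ∨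
    InUnitaryResidualClass H := by
  have heq : ∀ M : Subgroup (GL (Fin n) F), H ≤ M → ¬ SUgl n F q ≤ M → H = M ⊓ SUgl n F q := fun M hM hnot =>
    ((hH.2 _ (le_inf hM hH.1.le) inf_le_right).resolve_right fun h => hnot (h ▸ inf_le_left)).symm
  have h3 : 3 ≤ n := by omega
  rcases main hF hn h3 H hH.1.le with ⟨W, hb, ht, hW, hle⟩ | ⟨W, hb, ht, hW, hd, hle⟩ | ⟨D, hD, hle⟩ |
      ⟨K, hK, hadj, hle, -⟩ | ⟨F₀, r, P, hr, hcase, hc, hP, hle⟩ | ⟨R, hR, hle⟩ | hres
  · exact Or.inl ⟨W, hb, hW, heq _ hle (not_le_subspace hF hn.two_le hb ht)⟩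
  · exact Or.inr (Or.inl ⟨W, hb, hW, hd, heq _ hle (not_le_subspace hF hn.two_le hb ht)⟩)
  · exact Or.inr (Or.inr (Or.inl ⟨D, hD, heq _ hle (not_le_decomposition hF h3 (by omega) hD)⟩))
  · exact Or.inr (Or.inr (Or.inr (Or.inl ⟨K, hK, hadj, heq _ hle (not_le_subalgebra hF h3 hn.two_le hK)⟩)))
  · have heq' := heq _ hle (not_le_subfield hF hn h3 hr hcase hc P)
    rcases hcase with ho | ⟨rfl, hqo⟩
    · exact Or.inr (Or.inr (Or.inr (Or.inr (Or.inl ⟨F₀, r, P, hr, ho, hc, hP, heq'⟩))))
    · exact Or.inr (Or.inr (Or.inr (Or.inr (Or.inr (Or.inl ⟨hqo, F₀, P, hc, hP, heq'⟩)))))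
  · obtain ⟨p, h, hp, hc, hq, hh, hd, hmin, hst, habs, hRG, hcomm, hcard, hcc⟩ := hR
    exact Or.inr (Or.inr (Or.inr (Or.inr (Or.inr (Or.inr (Or.inl ⟨R, ⟨p, h, hp, hc, hq, hh, hd, hmin, hst, habs, hRG, hcomm, hcard, hcc⟩,
      heq _ hle (not_le_normalizer hF hn h5 habs (hRG.trans inf_le_right) hcomm)⟩))))))
  · exact Or.inr (Or.inr (Or.inr (Or.inr (Or.inr (Or.inr (Or.inr hres))))))

end Cfsg.Agent.Lib.PrimeDim.Unitary
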