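import Cfsg.Agent.Lib.PrimeDim.Main
import Cfsg.Agent.Lib.Unitary.Transvection

set_option autoImplicit false
set_option linter.style.haveILetI false
set_option linter.unusedSectionVars false

/-!
Absolutely irreducible unitary groups realisable over a subfield, and descent to the fixed field of the
involution for groups that fix a symmetric form as well.
-/

namespace Cfsg.Agent.Lib.PrimeDim.UnitaryBase

open Cfsg.Geo Cfsg.Agent.Lib.PrimeDim.Basic Cfsg.Agent.Lib.PrimeDim.Fields
open Cfsg.Agent.Lib.Unitary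
open scoped Matrix MatrixGroups

variable {n q : ℕ} {F : Type*} [Field F] [Fintype F]

lemma conj_conj (hF : Fintype.card F = q ^ 2) (x : F) : conj hF (conj hF x) = x := by
  simp [pow_q_q hF]

lemma map_conj_conj (hF : Fintype.card F = q ^ 2) (A : Matrix (Fin n) (Fin n) F) :
    (A.map (conj hF)).map (conj hF) = A := by
  ext i j
  exact conj_conj hF _

lemma conj_bijective (hF : Fintype.card F = q ^ 2) : Function.Bijective (conj hF) :=
  Function.Involutive.bijective (conj_conj hF)

lemma isSesqui_herm (hF : Fintype.card F = q ^ 2) : IsSesqui (conj hF) (hermForm n F q) :=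
  ⟨fun x y v => herm_add_left x y v, fun c x v => herm_smul_left x v c, fun v x y => herm_add_right v x y hF,
    fun c v x => by rw [herm_smul_right, conj_apply]⟩

lemma gram_herm (hF : Fintype.card F = q ^ 2) : gramMatrix (hermForm n F q) = (1 : Matrix (Fin n) (Fin n) F) := by
  ext i j
  rw [gramMatrix, herm_std hF, Matrix.one_apply]

lemma GU_matrix (hF : Fintype.card F = q ^ 2) {g : GL (Fin n) F} (hg : g ∈ GU n F q) :
    g.valᵀ * g.val.map (conj hF) = 1 := by
  have h := ((isSesqui_herm (n := n) hF).scale_iff g.val 1).mp fun u v => by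
    rw [one_mul]; exact mem_GU_iff.mp hg u v
  rwa [gram_herm hF, mul_one, one_smul] at h

lemma GU_le_similarityGroup : GU n F q ≤ similarityGroup (hermForm n F q) := fun g hg =>
  ⟨1, fun u v => by rw [Units.val_one, one_mul]; exact mem_GU_iff.mp hg u v⟩

lemma GU_conj_eq (hF : Fintype.card F = q ^ 2) {g : GL (Fin n) F} (hg : g ∈ GU n F q) :
    g.val.map (conj hF) = ((g⁻¹ : GL (Fin n) F).val)ᵀ := by
  calc g.val.map (conj hF) = ((g⁻¹ : GL (Fin n) F).val)ᵀ * (g.valᵀ * g.val.map (conj hF)) := by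
        rw [← mul_assoc, ← Matrix.transpose_mul, Units.mul_inv, Matrix.transpose_one, one_mul]
    _ = _ := by rw [GU_matrix hF hg, mul_one]

lemma det_invariant_ne_zero (g : GL (Fin n) F) (σ : F →+* F) :
    (g.val.map σ).det ≠ 0 := by
  have := ((Matrix.isUnit_iff_isUnit_det _).mp g.isUnit).ne_zero
  rw [← RingHom.mapMatrix_apply, ← RingHom.map_det]
  exact fun h => this ((map_eq_zero σ).mp h)

/-- An invariant sesquilinear form of an absolutely irreducible unitary group is a multiple of the standard one. -/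
lemma invariant_scalar (hF : Fintype.card F = q ^ 2) {N : Subgroup (GL (Fin n) F)} (hNU : N ≤ GU n F q)
    (habs : ActsAbsolutelyIrreducibly (matrixSet N)) {X : Matrix (Fin n) (Fin n) F}
    (hX : ∀ x ∈ N, x.valᵀ * X * x.val.map (conj hF) = X) : ∃ c : F, X = c • 1 := by
  obtain ⟨c, hc⟩ := habs.2 Xᵀ (fun s hs => by
    obtain ⟨x, hx, rfl⟩ := mem_matrixSet.mp hs
    have h1 : X * x.valᵀ = x.valᵀ * X := by
      conv_lhs => rw [← hX x hx, GU_conj_eq hF (hNU hx)]
      rw [mul_assoc, ← Matrix.transpose_mul, Units.mul_inv, Matrix.transpose_one, mul_one]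
    have := congrArg Matrix.transpose h1
    simpa [Matrix.transpose_mul] using this.symm)
  exact ⟨c, by simpa using congrArg Matrix.transpose hc⟩

/-- The fixed field of the involution. -/
def fixed (hF : Fintype.card F = q ^ 2) : Subfield F := (conj hF).eqLocusField (RingHom.id F)

lemma mem_fixed {hF : Fintype.card F = q ^ 2} {x : F} : x ∈ fixed hF ↔ x ^ q = x := Iff.rfl

lemma card_fixed' (hF : Fintype.card F = q ^ 2) : Nat.card (fixed hF) = q :=
  (Nat.card_congr (Equiv.subtypeEquivRight fun x => mem_fixed (hF := hF))).trans (card_fixed hF)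

lemma exists_conj_ne (hF : Fintype.card F = q ^ 2) : ∃ μ : F, conj hF μ ≠ μ := by
  by_contra! h
  have h1 := card_fixed' hF
  rw [Nat.card_congr (Equiv.subtypeUnivEquiv (p := fun x : F => x ∈ fixed hF) fun x => h x), Nat.card_eq_fintype_card, hF] at h1
  have := one_lt_q hF
  nlinarith

lemma fixed_ne_top (hF : Fintype.card F = q ^ 2) : fixed hF ≠ ⊤ := by
  intro h
  obtain ⟨μ, hμ⟩ := exists_conj_ne hF
  exact hμ (h ▸ Subfield.mem_top μ : μ ∈ fixed hF)

/-- An absolutely irreducible unitary group fixing a non-degenerate bilinear form is realisable over the fixed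
field. -/
theorem realisable_of_bilinear (hF : Fintype.card F = q ^ 2) {N : Subgroup (GL (Fin n) F)} (hn : 0 < n)
    (hNU : N ≤ GU n F q) (habs : ActsAbsolutelyIrreducibly (matrixSet N)) {A : Matrix (Fin n) (Fin n) F}
    (hA : A.det ≠ 0) (hfix : ∀ x ∈ N, x.valᵀ * A * x.val = A) :
    RealisableOver (fixed hF) (matrixSet N) := by
  classical
  haveI : Nonempty (Fin n) := ⟨⟨0, hn⟩⟩
  set σ := conj hF with hσdef
  have hσσ : ∀ X : Matrix (Fin n) (Fin n) F, (X.map σ).map σ = X := fun X => map_conj_conj hF X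
  have hσA : ∀ x ∈ N, x.val.map σ * A = A * x.val := by
    intro x hx
    calc x.val.map σ * A = ((x⁻¹ : GL (Fin n) F).val)ᵀ * (x.valᵀ * A * x.val) := by
          rw [GU_conj_eq hF (hNU hx), hfix x hx]
      _ = A * x.val := by
          rw [← mul_assoc, ← mul_assoc, ← Matrix.transpose_mul, Units.mul_inv, Matrix.transpose_one, one_mul]
  have hcomm : ∀ x ∈ N, (A.map σ * A) * x.val = x.val * (A.map σ * A) := by
    intro x hx
    have h1 := congrArg (fun Z : Matrix (Fin n) (Fin n) F => Z.map σ) (hσA x hx)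
    simp only [Matrix.map_mul, hσσ] at h1
    rw [mul_assoc, ← hσA x hx, ← mul_assoc, ← h1, mul_assoc]
  obtain ⟨d, hd⟩ := habs.2 (A.map σ * A) (fun s hs => by
    obtain ⟨x, hx, rfl⟩ := mem_matrixSet.mp hs
    exact hcomm x hx)
  have hd0 : d ≠ 0 := by
    intro h0
    have h1 : (A.map σ * A).det ≠ 0 := by
      rw [Matrix.det_mul]
      refine mul_ne_zero ?_ hA
      rw [← RingHom.mapMatrix_apply, ← RingHom.map_det]
      exact fun h => hA ((map_eq_zero σ).mp h)
    rw [hd, h0, zero_smul, Matrix.det_zero] at h1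
    exact h1 rfl
  have hswap : A * A.map σ = d • 1 := by
    have hu : IsUnit A := (Matrix.isUnit_iff_isUnit_det _).mpr (isUnit_iff_ne_zero.mpr hA)
    apply hu.mul_left_injective
    simp only
    rw [mul_assoc, hd, Matrix.mul_smul, Matrix.smul_mul, one_mul, mul_one]
  have hdfix : σ d = d := by
    have h1 := congrArg (fun Z : Matrix (Fin n) (Fin n) F => (Z.map σ) ⟨0, hn⟩ ⟨0, hn⟩) hd
    simp only [Matrix.map_mul, hσσ, hswap] at h1
    simpa [Matrix.map_apply, Matrix.one_apply, apply_ite σ, -conj_apply] using h1.symm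
  obtain ⟨c, hc⟩ := norm_surj hF (y := d⁻¹) (by rw [inv_pow]; exact congrArg (·⁻¹) hdfix)
  have hc' : σ c * c * d = 1 := by
    rw [mul_comm (σ c), show c * σ c = d⁻¹ from hc, inv_mul_cancel₀ hd0]
  set A' := c • A with hA'
  have hinv : A'.map σ * A' = 1 := by
    rw [hA', Matrix.map_smul' σ c A (map_mul σ), Matrix.smul_mul, Matrix.mul_smul, hd, smul_smul, smul_smul,
      hc', one_smul]
  have hσA' : ∀ x ∈ N, x.val.map σ * A' = A' * x.val := by
    intro x hx
    rw [hA', Matrix.mul_smul, Matrix.smul_mul, hσA x hx]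
  let J : (Fin n → F) → (Fin n → F) := fun w => (σ ∘ w) ᵥ* A'
  have hJadd : ∀ v w, J (v + w) = J v + J w := by
    intro v w
    simp only [J]
    rw [← Matrix.add_vecMul]
    congr 1
    funext i
    simp
  have hJsmul : ∀ (a : F) v, J (a • v) = σ a • J v := by
    intro a v
    simp only [J]
    rw [← Matrix.smul_vecMul]
    congr 1
    funext i
    simp
  have hJJ : ∀ v, J (J v) = v := by
    intro v
    have h1 : σ ∘ ((σ ∘ v) ᵥ* A') = v ᵥ* A'.map σ := by
      funext i
      rw [Function.comp_apply, RingHom.map_vecMul]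
      congr 1
      funext j
      exact conj_conj hF (v j)
    simp only [J]
    rw [h1, Matrix.vecMul_vecMul, hinv, Matrix.vecMul_one]
  set S : Set (Fin n → F) := {v | J v = v} with hS
  obtain ⟨μ, hμ⟩ := exists_conj_ne hF
  have hspan : Submodule.span F S = ⊤ := by
    rw [eq_top_iff]
    intro v _
    have h1 : v + J v ∈ S := by
      show J (v + J v) = v + J v
      rw [hJadd, hJJ, add_comm]
    have h2 : μ • v + σ μ • J v ∈ S := by
      show J (μ • v + σ μ • J v) = μ • v + σ μ • J v
      rw [hJadd, hJsmul, hJsmul, hJJ, hσdef, conj_conj hF, add_comm]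
    have h3 : μ • v + σ μ • J v - σ μ • (v + J v) ∈ Submodule.span F S :=
      Submodule.sub_mem _ (Submodule.subset_span h2) (Submodule.smul_mem _ _ (Submodule.subset_span h1))
    rw [smul_add, add_sub_add_right_eq_sub, ← sub_smul] at h3
    exact (Submodule.smul_mem_iff _ (sub_ne_zero.mpr (Ne.symm hμ))).mp h3
  obtain ⟨b, hbS, hbspan, hbli⟩ := exists_linearIndependent F S
  haveI : Fintype b := Fintype.ofFinite b
  have hbcard : Fintype.card b = n := by
    have hb := (Module.Basis.mk hbli (by rw [Subtype.range_coe, hbspan, hspan]))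
    rw [← Module.finrank_eq_card_basis hb, Module.finrank_fin_fun]
  let e : Fin n ≃ b := (Fintype.equivFinOfCardEq hbcard).symm
  set B : Matrix (Fin n) (Fin n) F := Matrix.of fun i => ((e i : b) : Fin n → F) with hBdef
  have hBu : IsUnit B := Matrix.linearIndependent_rows_iff_isUnit.mp (hbli.comp e e.injective)
  have hBJ : B.map σ * A' = B := by
    ext i j
    have h := congrFun (hbS (e i).2) j
    exact h
  obtain ⟨U, hU⟩ := hBu
  refine ⟨U, fun s hs i j => ?_⟩
  obtain ⟨x, hx, rfl⟩ := mem_matrixSet.mp hs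
  set Z : Matrix (Fin n) (Fin n) F := U.val * x.val * (U⁻¹ : GL (Fin n) F).val with hZ
  have hZB : Z * B = B * x.val := by rw [hZ, ← hU, mul_assoc, Units.inv_mul, mul_one]
  have hfixZ : Z.map σ = Z := by
    have hu : IsUnit B := hU ▸ U.isUnit
    apply hu.mul_left_injective
    simp only
    rw [hZB]
    calc Z.map σ * B = Z.map σ * (B.map σ * A') := by rw [hBJ]
      _ = (B * x.val).map σ * A' := by rw [← mul_assoc, ← Matrix.map_mul, hZB]
      _ = B * x.val := by rw [Matrix.map_mul, mul_assoc, hσA' x hx, ← mul_assoc, hBJ]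
  exact mem_fixed.mpr (congrFun (congrFun hfixZ i) j)

lemma pow_of_iterate {p e : ℕ} {x : F} (hx : x ^ p ^ e = x) (m k : ℕ) : x ^ p ^ (m + e * k) = x ^ p ^ m := by
  induction k with
  | zero => simp
  | succ k ih =>
    rw [Nat.mul_succ, ← add_assoc, pow_add, pow_mul, ih, ← pow_mul, mul_comm (p ^ m), pow_mul, hx]

/-- A symmetric matrix over a field of characteristic two preserved by an irreducible group fixing it pointwise has
zero diagonal. -/
lemma no_symmetric_char_two {N : Subgroup (GL (Fin n) F)} (hn : 2 ≤ n) (hodd : Odd n) (hirr : Irred N)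
    (h2 : (2 : F) = 0) (B : GL (Fin n) F) {M : Matrix (Fin n) (Fin n) F} (hdet : M.det ≠ 0)
    (hsymm : ∀ i j, M i j = M j i)
    (hfix : ∀ x ∈ N, (B * x * B⁻¹ : GL (Fin n) F).valᵀ * M * (B * x * B⁻¹ : GL (Fin n) F).val = M) :
    False := by
  classical
  let Φ : (Fin n → F) → F := fun u => u ⬝ᵥ (M *ᵥ u)
  have hMT : Mᵀ = M := Matrix.ext fun i j => hsymm j i
  have hadd : ∀ u v, Φ (u + v) = Φ u + Φ v := by
    intro u v
    have hc : v ⬝ᵥ (M *ᵥ u) = u ⬝ᵥ (M *ᵥ v) := by
      rw [Matrix.dotProduct_mulVec, ← Matrix.mulVec_transpose, hMT, dotProduct_comm]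
    simp only [Φ, Matrix.mulVec_add, add_dotProduct, dotProduct_add, hc]
    linear_combination (u ⬝ᵥ (M *ᵥ v)) * h2
  have hsmul : ∀ (c : F) u, Φ (c • u) = c * c * Φ u := by
    intro c u
    simp only [Φ, Matrix.mulVec_smul, smul_dotProduct, dotProduct_smul, smul_eq_mul]
    ring
  have hΦ0 : Φ 0 = 0 := by simp [Φ]
  let W : Submodule F (Fin n → F) :=
    { carrier := {v | Φ (B.val *ᵥ v) = 0}
      zero_mem' := by simp [hΦ0]
      add_mem' := fun {a b} ha hb => by
        show Φ (B.val *ᵥ (a + b)) = 0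
        rw [Matrix.mulVec_add, hadd, show Φ (B.val *ᵥ a) = 0 from ha, show Φ (B.val *ᵥ b) = 0 from hb, add_zero]
      smul_mem' := fun c a ha => by
        show Φ (B.val *ᵥ (c • a)) = 0
        rw [Matrix.mulVec_smul, hsmul, show Φ (B.val *ᵥ a) = 0 from ha, mul_zero] }
  have hmemW : ∀ v, v ∈ W ↔ Φ (B.val *ᵥ v) = 0 := fun v => Iff.rfl
  have hinv : Invariant N W := by
    intro x hx w hw
    rw [hmemW] at hw ⊢
    set y := B * x * B⁻¹ with hy
    have h1 : B.val *ᵥ (x.val *ᵥ w) = y.val *ᵥ (B.val *ᵥ w) := by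
      rw [Matrix.mulVec_mulVec, Matrix.mulVec_mulVec, ← Units.val_mul, ← Units.val_mul, hy, inv_mul_cancel_right]
    rw [h1]
    simp only [Φ] at hw ⊢
    rw [dotProduct_comm, Matrix.dotProduct_mulVec, ← Matrix.mulVec_transpose, Matrix.mulVec_mulVec,
      Matrix.mulVec_mulVec, hfix x hx, dotProduct_comm, hw]
  haveI : CharP F 2 := CharTwo.of_one_ne_zero_of_two_eq_zero one_ne_zero h2
  have hsq : ∀ a : F, IsSquare a := fun a =>
    FiniteField.isSquare_of_char_two ((ringChar.eq_iff).mpr inferInstance) a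
  rcases hirr W hinv with h | h
  · -- the kernel is never trivial
    set i : Fin n := ⟨0, by omega⟩
    set j : Fin n := ⟨1, by omega⟩
    have hij : i ≠ j := by simp [i, j]
    have hker : ∀ v, Φ v = 0 → v = 0 := by
      intro v hv
      have hmem : (B⁻¹ : GL (Fin n) F).val *ᵥ v ∈ W := by rw [hmemW, mulVec_inv_cancel, hv]
      rw [h, Submodule.mem_bot] at hmem
      have := congrArg (fun w => B.val *ᵥ w) hmem
      simpa [mulVec_inv_cancel] using this
    obtain ⟨a, ha⟩ := hsq (Φ (Pi.single i 1))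
    obtain ⟨b, hb⟩ := hsq (Φ (Pi.single j 1))
    have h0 := hker (b • Pi.single i 1 + a • Pi.single j 1)
      (by rw [hadd, hsmul, hsmul, ha, hb]; linear_combination (a * a * b * b) * h2)
    have hb0 : b = 0 := by simpa [Pi.single_apply, hij] using congrFun h0 i
    have := congrFun (hker (Pi.single j 1) (by rw [hb, hb0, mul_zero])) j
    simp at this
  · apply hdet
    refine det_eq_zero_of_alternating (by rwa [Fintype.card_fin]) M (fun i j => ?_) (fun i => ?_)
    · rw [hsymm i j, eq_neg_iff_add_eq_zero, ← two_mul, h2, zero_mul]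
    · have h1 : (B⁻¹ : GL (Fin n) F).val *ᵥ Pi.single i 1 ∈ W := h ▸ Submodule.mem_top
      rw [hmemW, mulVec_inv_cancel] at h1
      simpa [Φ, Matrix.mulVec_single_one] using h1

/-- An absolutely irreducible unitary group realisable over a proper subfield, and everything normalising it, lies
in a subfield group compatible with the form. -/
theorem subfield_case (hF : Fintype.card F = q ^ 2) (hn : 2 ≤ n) (hodd : Odd n) {H N : Subgroup (GL (Fin n) F)}
    (hNU : N ≤ GU n F q) (hNH : NormalizedBy H N) (habs : ActsAbsolutelyIrreducibly (matrixSet N))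
    {F₀ : Subfield F} (hne : F₀ ≠ ⊤) (hr : RealisableOver F₀ (matrixSet N)) :
    ∃ (F₁ : Subfield F) (r : ℕ) (P : GL (Fin n) F), r.Prime ∧ (Odd r ∨ (r = 2 ∧ Odd q)) ∧
      Fintype.card F = Nat.card F₁ ^ r ∧ IsFormRationalStructure (hermForm n F q) F₁ 1 P ∧
      H ≤ subfieldSubgroup F₁ P := by
  classical
  haveI : Nonempty (Fin n) := ⟨⟨0, by omega⟩⟩
  obtain ⟨p, h, hp, hchar, hh, hq⟩ := q_eq_primePow hF
  haveI := Fact.mk hp
  have hFp : Fintype.card F = p ^ (2 * h) := by rw [hF, hq, ← pow_mul, mul_comm]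
  obtain ⟨B, hB⟩ := hr
  obtain ⟨F₁, r, hrp, hle, hcard⟩ := exists_prime_index hne
  have hB1 : ∀ s ∈ N, ∀ i j, (B * s * B⁻¹ : GL (Fin n) F).val i j ∈ F₁ := fun s hs i j => by
    have := hle (hB _ (mem_matrixSet.mpr ⟨s, hs, rfl⟩) i j)
    simpa only [Units.val_mul] using this
  obtain ⟨e, he, hef, hce, hF1⟩ := card_subfield F₁ hFp
  have her : e * r = 2 * h := by
    rw [hce, ← pow_mul, hFp] at hcard
    exact (Nat.pow_right_injective hp.two_le hcard).symm
  set σ := conj hF with hσdef
  set τ := frob (F := F) p e with hτdef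
  have hτmem : ∀ {x : F}, x ∈ F₁ ↔ τ x = x := by
    intro x
    rw [hF1, mem_fixedField, hτdef, frob_apply]
  have hσmem : ∀ {x : F}, x ∈ F₁ → σ x ∈ F₁ := fun hx => by rw [conj_apply]; exact pow_mem hx q
  set M : Matrix (Fin n) (Fin n) F := (B⁻¹ : GL (Fin n) F).valᵀ * (B⁻¹ : GL (Fin n) F).val.map σ with hM
  have hMinv : ∀ s ∈ N, (B * s * B⁻¹ : GL (Fin n) F).valᵀ * M * (B * s * B⁻¹ : GL (Fin n) F).val.map σ = M := by
    intro s hs
    set y := B * s * B⁻¹ with hy
    have e1 : y.valᵀ * (B⁻¹ : GL (Fin n) F).valᵀ = (B⁻¹ : GL (Fin n) F).valᵀ * s.valᵀ := by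
      rw [← Matrix.transpose_mul, ← Matrix.transpose_mul, ← Units.val_mul, ← Units.val_mul, hy]
      congr 2
      group
    have e2 : (B⁻¹ : GL (Fin n) F).val.map σ * y.val.map σ = s.val.map σ * (B⁻¹ : GL (Fin n) F).val.map σ := by
      rw [← Matrix.map_mul, ← Matrix.map_mul, ← Units.val_mul, ← Units.val_mul, hy]
      congr 2
      group
    calc y.valᵀ * M * y.val.map σ
        = (y.valᵀ * (B⁻¹ : GL (Fin n) F).valᵀ) * ((B⁻¹ : GL (Fin n) F).val.map σ * y.val.map σ) := by
          rw [hM]; simp only [mul_assoc]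
      _ = (B⁻¹ : GL (Fin n) F).valᵀ * (s.valᵀ * s.val.map σ) * (B⁻¹ : GL (Fin n) F).val.map σ := by
          rw [e1, e2]; simp only [mul_assoc]
      _ = M := by rw [GU_matrix hF (hNU hs), mul_one]
  have hτinv : ∀ s ∈ N, (B * s * B⁻¹ : GL (Fin n) F).valᵀ * M.map τ * (B * s * B⁻¹ : GL (Fin n) F).val.map σ
      = M.map τ := by
    intro s hs
    have h1 := congrArg (fun Z : Matrix (Fin n) (Fin n) F => Z.map τ) (hMinv s hs)
    simp only [Matrix.map_mul] at h1
    have t1 : (B * s * B⁻¹ : GL (Fin n) F).val.map τ = (B * s * B⁻¹ : GL (Fin n) F).val :=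
      Matrix.ext fun i j => hτmem.mp (hB1 s hs i j)
    have t2 : ((B * s * B⁻¹ : GL (Fin n) F).val.map σ).map τ = (B * s * B⁻¹ : GL (Fin n) F).val.map σ :=
      Matrix.ext fun i j => hτmem.mp (hσmem (hB1 s hs i j))
    rwa [Matrix.transpose_map, t1, t2] at h1
  obtain ⟨κ, hκ⟩ : ∃ κ : F, M.map τ = κ • M := by
    obtain ⟨κ, hκ⟩ := invariant_scalar hF hNU habs (X := B.valᵀ * M.map τ * B.val.map σ) (fun x hx => by
      set y := B * x * B⁻¹ with hy
      have e1 : x.valᵀ * B.valᵀ = B.valᵀ * y.valᵀ := by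
        rw [← Matrix.transpose_mul, ← Matrix.transpose_mul, ← Units.val_mul, ← Units.val_mul, hy, inv_mul_cancel_right]
      have e2 : B.val.map σ * x.val.map σ = y.val.map σ * B.val.map σ := by
        rw [← Matrix.map_mul, ← Matrix.map_mul, ← Units.val_mul, ← Units.val_mul, hy, inv_mul_cancel_right]
      calc x.valᵀ * (B.valᵀ * M.map τ * B.val.map σ) * x.val.map σ
          = (x.valᵀ * B.valᵀ) * M.map τ * (B.val.map σ * x.val.map σ) := by simp only [mul_assoc]
        _ = B.valᵀ * (y.valᵀ * M.map τ * y.val.map σ) * B.val.map σ := by rw [e1, e2]; simp only [mul_assoc]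
        _ = _ := by rw [hτinv x hx])
    refine ⟨κ, ?_⟩
    calc M.map τ = (B⁻¹ : GL (Fin n) F).valᵀ * (B.valᵀ * M.map τ * B.val.map σ) * (B⁻¹ : GL (Fin n) F).val.map σ := by
          simp only [mul_assoc]
          rw [← Matrix.map_mul, Units.mul_inv, Matrix.map_one σ (map_zero σ) (map_one σ), mul_one, ← mul_assoc,
            ← Matrix.transpose_mul, Units.mul_inv, Matrix.transpose_one, one_mul]
      _ = κ • M := by rw [hκ, Matrix.mul_smul, mul_one, Matrix.smul_mul]
  have hherm : ∀ i j, σ (M i j) = M j i := by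
    intro i j
    have : M.map σ = Mᵀ := by
      rw [hM, Matrix.map_mul, Matrix.transpose_mul, Matrix.transpose_transpose, Matrix.transpose_map,
        map_conj_conj hF]
    exact congrFun (congrFun this i) j
  have hdetM : M.det ≠ 0 := by
    rw [hM, Matrix.det_mul, Matrix.det_transpose]
    exact mul_ne_zero ((Matrix.isUnit_iff_isUnit_det _).mp (B⁻¹).isUnit).ne_zero (det_invariant_ne_zero _ σ)
  obtain ⟨i₀, j₀, ha0⟩ : ∃ i j, M i j ≠ 0 := by
    by_contra! h0
    exact hdetM (by rw [show M = 0 from Matrix.ext h0, Matrix.det_zero])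
  set a := M i₀ j₀ with ha
  have hrat : ∀ i j, M i j / a ∈ F₁ := by
    intro i j
    rw [hτmem, map_div₀]
    have h1 : τ (M i j) = κ * M i j := congrFun (congrFun hκ i) j
    have h2 : τ a = κ * a := congrFun (congrFun hκ i₀) j₀
    rw [h1, h2, mul_div_mul_left]
    intro hκ0
    rw [hκ0, zero_mul] at h2
    exact ha0 ((map_eq_zero τ).mp h2)
  set ε := M j₀ i₀ / a with hε
  have hεmem : ε ∈ F₁ := hrat _ _
  have hσa : σ a = a * ε := by rw [hε, mul_div_cancel₀ _ ha0]; exact hherm _ _
  have hεnorm : ε * σ ε = 1 := by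
    have h1 := congrArg σ hσa
    rw [map_mul, hσdef, conj_conj hF, ← hσdef, hσa, mul_assoc] at h1
    exact (mul_eq_left₀ ha0).mp h1.symm
  -- the scale
  obtain ⟨b, hb0, hbmem, hbfix, hcase⟩ : ∃ b : F, b ≠ 0 ∧ b ∈ F₁ ∧ σ (a * b) = a * b ∧
      (Odd r ∨ (r = 2 ∧ Odd q)) := by
    rcases hrp.eq_two_or_odd' with rfl | hro
    · have heh : e = h := by omega
      have hσF1 : ∀ x ∈ F₁, σ x = x := by
        intro x hx
        rw [conj_apply, hq, ← heh]
        exact mem_fixedField.mp (hF1 ▸ hx)
      rw [hσF1 ε hεmem] at hεnorm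
      rcases mul_self_eq_one_iff.mp hεnorm with h1 | h1
      · by_cases hqo : Odd q
        · exact ⟨1, one_ne_zero, one_mem _, by rw [mul_one, hσa, h1, mul_one], Or.inr ⟨rfl, hqo⟩⟩
        exfalso
        have h2 : (2 : F) = 0 := by
          have hp2 : p = 2 := by
            rcases hp.eq_two_or_odd' with h2 | h2
            · exact h2
            · exact absurd (hq ▸ h2.pow) hqo
          subst hp2
          exact CharTwo.two_eq_zero
        have hsy : ∀ i j, M i j / a = M j i / a := by
          intro i j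
          have h3 := hσF1 _ (hrat i j)
          rw [map_div₀, hherm, hσa, h1, mul_one] at h3
          exact h3.symm
        refine no_symmetric_char_two hn hodd (irred_iff.mp habs.1) h2 B (M := a⁻¹ • M) ?_ ?_ ?_
        · rw [Matrix.det_smul]
          exact mul_ne_zero (pow_ne_zero _ (inv_ne_zero ha0)) hdetM
        · intro i j
          simp only [Matrix.smul_apply, smul_eq_mul, inv_mul_eq_div, hsy i j]
        · intro x hx
          have h3 := hMinv x hx
          have h4 : (B * x * B⁻¹ : GL (Fin n) F).val.map σ = (B * x * B⁻¹ : GL (Fin n) F).val :=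
            Matrix.ext fun i j => hσF1 _ (hB1 x hx i j)
          rw [h4] at h3
          rw [Matrix.mul_smul, Matrix.smul_mul, h3]
      · by_cases h2 : (2 : F) = 0
        · refine ⟨1, one_ne_zero, one_mem _, ?_, Or.inr ⟨rfl, ?_⟩⟩
          · rw [mul_one, hσa, h1]; linear_combination (-a) * h2
          · exfalso
            refine no_symmetric_char_two hn hodd (irred_iff.mp habs.1) h2 B (M := a⁻¹ • M) ?_ ?_ ?_
            · rw [Matrix.det_smul]
              exact mul_ne_zero (pow_ne_zero _ (inv_ne_zero ha0)) hdetM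
            · intro i j
              have h3 := hσF1 _ (hrat i j)
              rw [map_div₀, hherm, hσa, h1, mul_neg, mul_one, div_neg] at h3
              simp only [Matrix.smul_apply, smul_eq_mul, inv_mul_eq_div]
              linear_combination (-1 : F) * h3 - (M j i / a) * h2
            · intro x hx
              have h3 := hMinv x hx
              have h4 : (B * x * B⁻¹ : GL (Fin n) F).val.map σ = (B * x * B⁻¹ : GL (Fin n) F).val :=
                Matrix.ext fun i j => hσF1 _ (hB1 x hx i j)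
              rw [h4] at h3
              rw [Matrix.mul_smul, Matrix.smul_mul, h3]
        · exfalso
          apply hdetM
          have hskew : ∀ i j, M i j = - M j i := by
            intro i j
            have h3 := hσF1 _ (hrat i j)
            rw [map_div₀, hherm, hσa, h1, mul_neg, mul_one, div_neg] at h3
            field_simp at h3
            linear_combination (-1 : F) * h3
          refine det_eq_zero_of_alternating (by rwa [Fintype.card_fin]) M hskew fun i => ?_
          exact (mul_eq_zero.mp (show 2 * M i i = 0 by linear_combination hskew i i)).resolve_left h2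
    · obtain ⟨k, hk⟩ := hro
      obtain ⟨e', he'⟩ : 2 ∣ e := by
        rcases Nat.prime_two.dvd_mul.mp (Dvd.intro h her.symm) with h2 | h2
        · exact h2
        · omega
      have hh' : h = e' + e * k := by subst he'; subst hk; nlinarith
      have hσF1 : ∀ x ∈ F₁, σ x = x ^ p ^ e' := by
        intro x hx
        rw [conj_apply, hq, hh']
        exact pow_of_iterate (mem_fixedField.mp (hF1 ▸ hx)) e' k
      haveI : Fintype F₁ := Fintype.ofFinite F₁
      have hc1 : Fintype.card F₁ = (p ^ e') ^ 2 := by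
        rw [← Nat.card_eq_fintype_card, hce, he', ← pow_mul, mul_comm]
      obtain ⟨x, hx0, hx⟩ := exists_div_conj hc1 (z := (⟨ε, hεmem⟩ : F₁)) (Subtype.ext (by
        show ε * ε ^ p ^ e' = 1
        rw [← hσF1 ε hεmem, hεnorm]))
      have hx' : (x : F) = ε * (x : F) ^ p ^ e' := congrArg Subtype.val hx
      refine ⟨x, fun h0 => hx0 (Subtype.ext h0), x.2, ?_, Or.inl ⟨k, hk⟩⟩
      rw [map_mul, hσa, hσF1 _ x.2, mul_assoc, ← hx']
  have hab0 : a * b ≠ 0 := mul_ne_zero ha0 hb0
  obtain ⟨c, hc⟩ := norm_surj hF (y := (a * b)⁻¹) (by rw [inv_pow]; exact congrArg (·⁻¹) hbfix)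
  have hc0 : c ≠ 0 := by
    rintro rfl
    rw [zero_mul] at hc
    exact inv_ne_zero hab0 hc.symm
  set u : GL (Fin n) F := Units.map (Matrix.scalar (Fin n) : F →+* Matrix (Fin n) (Fin n) F).toMonoidHom
    (Units.mk0 c hc0) with hu
  have husc : u ∈ scalars (Fin n) F := ⟨_, rfl⟩
  have huval : (u * B⁻¹ : GL (Fin n) F).val = c • (B⁻¹ : GL (Fin n) F).val := by
    rw [Units.val_mul, hu]
    simp [Matrix.smul_eq_diagonal_mul]
  refine ⟨F₁, r, u * B⁻¹, hrp, hcase, hcard, ?_, ?_⟩
  · intro x y hx hy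
    rw [one_mul, (isSesqui_herm (n := n) hF).apply_mul, gram_herm hF, mul_one, huval]
    have hG : (c • (B⁻¹ : GL (Fin n) F).val)ᵀ * (c • (B⁻¹ : GL (Fin n) F).val).map σ = (a * b)⁻¹ • M := by
      rw [Matrix.transpose_smul, Matrix.map_smul' σ c _ (map_mul σ), Matrix.smul_mul, Matrix.mul_smul, smul_smul, ← hM,
        show c * σ c = (a * b)⁻¹ from hc]
    rw [← hσdef, hG]
    simp only [dotProduct, Matrix.mulVec, Matrix.smul_apply, Function.comp_apply, smul_eq_mul]
    refine Subfield.sum_mem _ fun i _ => mul_mem (hx i) (Subfield.sum_mem _ fun j _ => mul_mem ?_ (hσmem (hy j)))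
    rw [mul_inv, mul_assoc, mul_comm b⁻¹, ← mul_assoc, inv_mul_eq_div]
    exact mul_mem (hrat i j) (inv_mem hbmem)
  · have h1 := normalizer_le_subfieldSubgroup hNH habs F₁ (B := (u * B⁻¹)⁻¹) (fun s hs i j => by
      have h2 : (u * B⁻¹)⁻¹ * s * (u * B⁻¹)⁻¹⁻¹ = B * s * B⁻¹ := by
        rw [inv_inv, mul_inv_rev, inv_inv]
        calc B * u⁻¹ * s * (u * B⁻¹) = B * (u⁻¹ * (s * u)) * B⁻¹ := by group
          _ = B * s * B⁻¹ := by rw [← Symplectic.scalar_comm husc s, inv_mul_cancel_left]
      rw [← Units.val_mul, ← Units.val_mul, h2]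
      exact hB1 s hs i j)
    rwa [inv_inv] at h1

end Cfsg.Agent.Lib.PrimeDim.UnitaryBase
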