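import Cfsg.Agent.Lib.PrimeDim.SU3Cases

set_option autoImplicit false
set_option linter.style.haveILetI false
set_option linter.unusedSectionVars false

/-!
Normalisers of groups of order 27 in `SU(3, p)`: proper, and not maximal for `p = 5`.
-/

namespace Cfsg.Agent.Lib.PrimeDim.SU3R

open Cfsg.Geo Cfsg.Agent.Lib.PrimeDim.Basic Cfsg.Agent.Lib.PrimeDim.Fields Cfsg.Agent.Lib.PrimeDim.Unitary
open Cfsg.Agent.Lib.PrimeDim.UnitaryBase Cfsg.Agent.Lib.Unitary Cfsg.Agent.Lib.PrimeDim.SU3Model
open Cfsg.Agent.Lib.PrimeDim.SU3Check Cfsg.Agent.Lib.PrimeDim.SU3Data Cfsg.Agent.Lib.PrimeDim.SU3Cases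
open scoped Matrix MatrixGroups commutatorElement

variable {F : Type*} [Field F] [Fintype F]

/-- The normaliser of an absolutely irreducible group of order 27 is proper, `p ≥ 5`. -/
theorem not_le_normalizer {p : ℕ} [Fact p.Prime] [CharP F p] (hF : Fintype.card F = p ^ 2) (hp5 : 5 ≤ p)
    {R : Subgroup (GL (Fin 3) F)} (habs : ActsAbsolutelyIrreducibly (matrixSet R))
    (hSL : R ≤ specialLinear (Fin 3) F) (hcomm : ⁅R, R⁆ ≤ scalars (Fin 3) F) (hcard : Nat.card R = 27)
    (hcc : Nat.card (Subgroup.center R) = 3) : ¬ SUgl 3 F p ≤ subgroupNormalizer R := by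
  classical
  intro hle
  obtain ⟨fr⟩ := Symplectic.exists_frame Nat.prime_three le_rfl hSL habs hcomm
  obtain ⟨v, hv0, hv⟩ := exists_iso_nonzero hF (by norm_num : 2 ≤ 3)
  obtain ⟨lam, hlam0, hlam⟩ := exists_trace_zero_ne_zero hF
  obtain ⟨t, ht, htx⟩ := exists_tv' hF hv hlam
  have hnorm := hle ht
  let f : Equiv.Perm R :=
    { toFun := fun r => ⟨t * r.1 * t⁻¹, (Subgroup.mem_normalizer_iff.mp hnorm r.1).mp r.2⟩
      invFun := fun r => ⟨t⁻¹ * r.1 * t, by
        simpa using (Subgroup.mem_normalizer_iff.mp (inv_mem hnorm) r.1).mp r.2⟩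
      left_inv := fun r => Subtype.ext (by simp [mul_assoc])
      right_inv := fun r => Subtype.ext (by simp [mul_assoc]) }
  have hpow : ∀ (k : ℕ) (x : Fin 3 → F), (t ^ k).val *ᵥ x = x + ((k : F) * (lam * hermForm 3 F p x v)) • v := by
    intro k x
    induction k with
    | zero => simp
    | succ k ih =>
      rw [pow_succ', Units.val_mul, ← Matrix.mulVec_mulVec, ih, Matrix.mulVec_add, Matrix.mulVec_smul, htx, htx, hv,
        mul_zero, zero_smul, add_zero, add_assoc, ← add_smul, Nat.cast_succ]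
      congr 2
      ring
  have htp : t ^ p = 1 := by
    refine Units.ext (Matrix.ext_of_mulVec_single fun i => ?_)
    rw [hpow, CharP.cast_eq_zero, zero_mul, zero_smul, add_zero, Units.val_one, Matrix.one_mulVec]
  have hfk : ∀ (k : ℕ) (r : R), ((f ^ k) r : GL (Fin 3) F) = t ^ k * r.1 * (t ^ k)⁻¹ := by
    intro k r
    induction k with
    | zero => simp
    | succ k ih =>
      rw [pow_succ', Equiv.Perm.mul_apply]
      show t * ((f ^ k) r : GL (Fin 3) F) * t⁻¹ = _
      rw [ih, pow_succ']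
      group
  have hfp : f ^ p ^ 1 = 1 := by
    rw [pow_one]
    refine Equiv.ext fun r => Subtype.ext ?_
    rw [hfk, htp]
    simp
  have hmod := Equiv.Perm.card_compl_support_modEq hfp
  have hR27 : Fintype.card R = 27 := by rw [← Nat.card_eq_fintype_card, hcard]
  rw [hR27] at hmod
  let Fx : Subgroup R := (Subgroup.centralizer {t}).comap R.subtype
  have hFx : ∀ r : R, r ∈ Fx ↔ f r = r := by
    intro r
    simp only [Fx, Subgroup.mem_comap, Subgroup.coe_subtype, Subgroup.mem_centralizer_singleton_iff]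
    constructor
    · intro h
      apply Subtype.ext
      show t * r.1 * t⁻¹ = r.1
      rw [mul_inv_eq_iff_eq_mul]
      exact h.symm
    · intro h
      have h' : t * r.1 * t⁻¹ = r.1 := congrArg Subtype.val h
      rw [mul_inv_eq_iff_eq_mul] at h'
      exact h'.symm
  have hcardFx : Nat.card Fx = f.supportᶜ.card := by
    rw [Nat.card_eq_fintype_card]
    refine Fintype.card_of_subtype _ fun r => ?_
    rw [Finset.mem_compl, Equiv.Perm.notMem_support]
    exact (hFx r).symm
  have hdvd : Nat.card Fx ∣ 27 := hcard ▸ Subgroup.card_subgroup_dvd_card Fx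
  have hge : 3 ≤ Nat.card Fx := by
    refine le_trans (le_of_eq hcc.symm) (Nat.le_of_dvd Nat.card_pos (Subgroup.card_dvd_of_le fun z hz => ?_))
    simp only [Fx, Subgroup.mem_comap, Subgroup.coe_subtype, Subgroup.mem_centralizer_singleton_iff]
    exact Symplectic.scalar_comm (fr.center_scalar z hz) t
  rw [← hcardFx] at hmod
  have hall : Nat.card Fx = 27 := by
    obtain ⟨k, hk, hk'⟩ := (Nat.dvd_prime_pow Nat.prime_three).mp (show Nat.card Fx ∣ 3 ^ 3 by simpa using hdvd)
    have hd : p ∣ 27 - 3 ^ k := by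
      rw [← hk']
      exact (Nat.modEq_iff_dvd' (Nat.le_of_dvd (by norm_num) hdvd)).mp hmod
    interval_cases k
    · omega
    · exfalso
      have h24 : p ∣ 2 ^ 3 * 3 := by simpa using hd
      rcases (Nat.Prime.dvd_mul Fact.out).mp h24 with h | h
      · have := Nat.le_of_dvd (by norm_num) ((Fact.out : p.Prime).dvd_of_dvd_pow h)
        omega
      · have := Nat.le_of_dvd (by norm_num) h
        omega
    · exfalso
      have h18 : p ∣ 3 ^ 2 * 2 := by simpa using hd
      rcases (Nat.Prime.dvd_mul Fact.out).mp h18 with h | h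
      · have := Nat.le_of_dvd (by norm_num) ((Fact.out : p.Prime).dvd_of_dvd_pow h)
        omega
      · have := Nat.le_of_dvd (by norm_num) h
        omega
    · simpa using hk'
  have htop : Fx = ⊤ := Subgroup.eq_top_of_card_eq _ (by rw [hall, hcard])
  obtain ⟨c, hc⟩ := habs.2 t.val fun s hs => by
    obtain ⟨x, hx, rfl⟩ := mem_matrixSet.mp hs
    have hm : (⟨x, hx⟩ : R) ∈ Fx := htop ▸ Subgroup.mem_top _
    simp only [Fx, Subgroup.mem_comap, Subgroup.coe_subtype, Subgroup.mem_centralizer_singleton_iff] at hm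
    exact (congrArg Units.val hm).symm
  have h1 := htx v
  rw [hv, mul_zero, zero_smul, add_zero, hc, Matrix.smul_mulVec, Matrix.one_mulVec] at h1
  have h2 : (c - 1) • v = 0 := by rw [sub_smul, one_smul, h1, sub_self]
  have hc1 : c = 1 := sub_eq_zero.mp ((smul_eq_zero.mp h2).resolve_right hv0)
  obtain ⟨x, hx⟩ := exists_pairing_ne hF hv0
  have h3 := htx x
  rw [hc, hc1, one_smul, Matrix.one_mulVec, left_eq_add] at h3
  exact (smul_eq_zero.mp h3).elim (mul_ne_zero hlam0 hx) hv0

/-- What commutes with the two standard generators is scalar. -/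
lemma centraliser_scalar [CharP F 5] (R : Real F 5 (2 : Fin 5)) {M : Matrix (Fin 3) (Fin 3) F}
    (hX : M * toMat R.t (mat rX : M3 5) = toMat R.t (mat rX : M3 5) * M) (hC : M * toMat R.t (mat rC : M3 5) = toMat R.t (mat rC : M3 5) * M) :
    M = M 0 0 • 1 := by
  set η := phi R.t eta with hη
  have hη1 : η ≠ 1 := fun h => (by decide +kernel : eta ≠ (oneK : K2 5)) (R.inj (h.trans phi_one.symm))
  have hη0 : η ≠ 0 := phi_ne_zero R (by decide +kernel)
  have hη2 : η * η ≠ 1 := fun h => (by decide +kernel : mulK 2 eta eta ≠ (oneK : K2 5))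
    (R.inj ((phi_mul R.sq eta eta).trans (h.trans phi_one.symm)))
  obtain ⟨-, -, -, hXe, hCe, -⟩ := r_facts
  have hXv : toMat R.t (mat rX : M3 5) = Matrix.diagonal ![1, η, η * η] := by
    rw [hXe, toMat_monMat]
    ext i j
    fin_cases i <;> fin_cases j <;> simp [phi_one, phi_mul R.sq, hη]
  rw [hXv] at hX
  have hoff : ∀ i j, i ≠ j → M i j = 0 := by
    intro i j hij
    have h1 := congrFun (congrFun hX i) j
    rw [Matrix.mul_diagonal, Matrix.diagonal_mul] at h1
    have h2 : M i j * (![1, η, η * η] j - ![1, η, η * η] i) = 0 := by linear_combination h1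
    refine (mul_eq_zero.mp h2).resolve_right (sub_ne_zero.mpr ?_)
    fin_cases i <;> fin_cases j <;> simp at hij ⊢
    · exact hη1
    · exact hη2
    · exact Ne.symm hη1
    · exact fun h => hη1 (mul_left_cancel₀ hη0 (h.trans (mul_one η).symm))
    · exact Ne.symm hη2
    · exact fun h => hη1 (mul_left_cancel₀ hη0 (h.symm.trans (mul_one η).symm))
  rw [hCe, toMat_monMat] at hC
  have h10 := congrFun (congrFun hC 1) 0
  have h21 := congrFun (congrFun hC 2) 1
  simp [Matrix.mul_apply, Fin.sum_univ_three, phi_one] at h10 h21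
  ext i j
  by_cases h : i = j
  · subst h
    fin_cases i <;> simp
    · exact h10
    · exact h21.trans h10
  · simp [hoff i j h, h]

lemma m10_det : (m10Tab.map mat).all (fun A => det3 (2 : Fin 5) A == oneK) = true := by decide +kernel

/-- Normalisers of groups of order 27 are not maximal for `q = 5`. -/
theorem five (hF : Fintype.card F = 5 ^ 2) {H : Subgroup (GL (Fin 3) F)} (hH : IsMaximalIn (SUgl 3 F 5) H)
    {N : Subgroup (GL (Fin 3) F)} (habs : ActsAbsolutelyIrreducibly (matrixSet N)) (hNG : N ≤ SUgl 3 F 5)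
    (hcomm : ⁅N, N⁆ ≤ scalars (Fin 3) F) (hcard : Nat.card N = 27) (hle : H ≤ subgroupNormalizer N) : False := by
  classical
  haveI := charP_of_card (p := 5) hF
  obtain ⟨R⟩ := exists_real (p := 5) hF 2 (by decide) (by decide)
  obtain ⟨fr⟩ := Symplectic.exists_frame Nat.prime_three le_rfl (hNG.trans inf_le_right) habs hcomm
  set P := fr.P
  have hin : ∀ z ∈ N, ∃ A ∈ (rList.map mat : List (M3 5)), toMat R.t A = (P⁻¹ * z * P : GL (Fin 3) F).val := by
    intro z hz
    obtain ⟨π, c, hc, hzc⟩ := fr.mono z hz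
    refine mon_mem R (by norm_num) r_mon π c hc hzc ?_
    have h2 := (MonoidHom.normal_ker _).conj_mem z (Subgroup.mem_inf.mp (hNG hz)).2 P⁻¹
    rw [inv_inv] at h2
    exact Symplectic.mem_specialLinear.mp h2
  -- the conjugate is the whole list
  have hout : ∀ A ∈ (rList.map mat : List (M3 5)), ∃ z ∈ N, toMat R.t A = (P⁻¹ * z * P : GL (Fin 3) F).val := by
    set S : Finset (Matrix (Fin 3) (Fin 3) F) := ((rList.map mat).map (toMat (p := 5) R.t)).toFinset with hS
    set T : Finset (Matrix (Fin 3) (Fin 3) F) :=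
      Finset.univ.image (fun z : N => (P⁻¹ * z.1 * P : GL (Fin 3) F).val) with hT
    have hsub : T ⊆ S := by
      intro M hM
      obtain ⟨z, -, rfl⟩ := Finset.mem_image.mp hM
      obtain ⟨A, hA, hAv⟩ := hin z z.2
      exact List.mem_toFinset.mpr (List.mem_map.mpr ⟨A, hA, hAv⟩)
    have hTc : T.card = 27 := by
      rw [hT, Finset.card_image_of_injective _ fun a b hab => Subtype.ext
        (mul_left_cancel (mul_right_cancel (Units.ext hab))), Finset.card_univ, ← Nat.card_eq_fintype_card, hcard]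
    have hSc : S.card ≤ 27 := (List.toFinset_card_le _).trans (by rw [List.length_map, List.length_map]; decide +kernel)
    have heq := Finset.eq_of_subset_of_card_le hsub (by rw [hTc]; exact hSc)
    intro A hA
    have hm : toMat R.t A ∈ T := heq ▸ List.mem_toFinset.mpr (List.mem_map.mpr ⟨A, hA, rfl⟩)
    obtain ⟨z, -, hz⟩ := Finset.mem_image.mp hm
    exact ⟨z, z.2, hz.symm⟩
  have hrX : mat rX ∈ (rList.map mat : List (M3 5)) := by decide +kernel
  have hrC : mat rC ∈ (rList.map mat : List (M3 5)) := by decide +kernel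
  obtain ⟨zx, hzx, hzxv⟩ := hout _ hrX
  obtain ⟨zc, hzc, hzcv⟩ := hout _ hrC
  -- the columns of P
  set G := P.valᵀ * P.val.map (conj hF) with hGdef
  have hG : ∀ (A : M3 5) (z : GL (Fin 3) F), mm 2 (star3 A) A = one3 → z ∈ N →
      toMat R.t A = (P⁻¹ * z * P : GL (Fin 3) F).val → Gᵀ * toMat R.t A = toMat R.t A * Gᵀ := by
    intro A z hA hz hv
    obtain ⟨g, hg, hgv, -⟩ := exists_GU R hF A hA
    have hgz : g = P⁻¹ * z * P := Units.ext (hgv.trans hv)
    have h1 : g.valᵀ * G * g.val.map (conj hF) = G := by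
      have hPg : P.val * g.val = z.val * P.val := by
        rw [← Units.val_mul, ← Units.val_mul, hgz]
        congr 1
        group
      calc g.valᵀ * G * g.val.map (conj hF) = (P.val * g.val)ᵀ * (P.val * g.val).map (conj hF) := by
            rw [hGdef, Matrix.transpose_mul, Matrix.map_mul]
            simp only [mul_assoc]
        _ = P.valᵀ * (z.valᵀ * z.val.map (conj hF)) * P.val.map (conj hF) := by
            rw [hPg, Matrix.transpose_mul, Matrix.map_mul]
            simp only [mul_assoc]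
        _ = G := by rw [GU_matrix hF (Subgroup.mem_inf.mp (hNG hz)).1, mul_one]
    have h2 : g.valᵀ * G = G * g.valᵀ := by
      conv_rhs => rw [← h1, GU_conj_eq hF hg]
      rw [mul_assoc _ _ g.valᵀ, ← Matrix.transpose_mul, Units.mul_inv, Matrix.transpose_one, mul_one]
    have h3 := congrArg Matrix.transpose h2
    simp only [Matrix.transpose_mul, Matrix.transpose_transpose] at h3
    rw [← hgv]
    exact h3
  have hGs := centraliser_scalar R (hG _ zx (by decide +kernel) hzx hzxv) (hG _ zc (by decide +kernel) hzc hzcv)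
  set l := Gᵀ 0 0
  have hGd : G = Matrix.diagonal fun _ : Fin 3 => l := by
    have h := congrArg Matrix.transpose hGs
    rw [Matrix.transpose_transpose, Matrix.transpose_smul, Matrix.transpose_one, Matrix.smul_one_eq_diagonal] at h
    exact h
  have hl : l ≠ 0 := by
    intro h0
    have h : G.det ≠ 0 := by
      rw [hGdef, Matrix.det_mul, Matrix.det_transpose]
      exact mul_ne_zero ((Matrix.isUnit_iff_isUnit_det _).mp P.isUnit).ne_zero (det_invariant_ne_zero P _)
    rw [hGd, h0, Matrix.det_diagonal] at h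
    simp at h
  obtain ⟨c, hcU, ν, hν0, hc, hνeq⟩ := exists_scaled (p := 5) hF (fun _ => hl) hGd
  set u₀ : GL (Fin 3) F := Matrix.GeneralLinearGroup.mkOfDetNeZero (ν 0 • 1) (by simp [hν0 0]) with hu₀
  have hu₀s : u₀ ∈ scalars (Fin 3) F := (mem_scalars_iff _).mpr ⟨Units.mk0 _ (hν0 0), rfl⟩
  have hcu : c = P * u₀ := Units.ext (by
    rw [hc, show Matrix.diagonal ν = ν 0 • (1 : Matrix (Fin 3) (Fin 3) F) by
      rw [Matrix.smul_one_eq_diagonal]; congr 1; funext i; exact hνeq i 0 rfl]
    rfl)
  have hconj : ∀ z, c⁻¹ * z * c = P⁻¹ * z * P := fun z => by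
    calc c⁻¹ * z * c = u₀⁻¹ * (P⁻¹ * z * P * u₀) := by rw [hcu]; group
      _ = u₀⁻¹ * (u₀ * (P⁻¹ * z * P)) := by rw [Symplectic.scalar_comm hu₀s]
      _ = _ := by group
  have hnorm : ∀ h ∈ H, ∀ (A : M3 5) (g : GL (Fin 3) F), A ∈ (rList.map mat : List (M3 5)) → g.val = toMat R.t A →
      ∃ B ∈ (rList.map mat : List (M3 5)), toMat R.t B = (c⁻¹ * h * c * g * (c⁻¹ * h * c)⁻¹).val := by
    intro h hh A g hA hg
    obtain ⟨z, hz, hzv⟩ := hout A hA
    have hgz : g = c⁻¹ * z * c := Units.ext (by rw [hg, hzv, hconj])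
    have hm : h * z * h⁻¹ ∈ N := (Subgroup.mem_normalizer_iff.mp (hle hh) z).mp hz
    obtain ⟨B, hB, hBv⟩ := hin _ hm
    refine ⟨B, hB, ?_⟩
    rw [hBv, ← hconj, hgz]
    congr 1
    group
  obtain ⟨gx, -, hgx, -⟩ := exists_GU R hF (mat rX) (by decide +kernel)
  obtain ⟨gc, -, hgc, -⟩ := exists_GU R hF (mat rC) (by decide +kernel)
  obtain ⟨gk, -, hgk, -⟩ := exists_GU R hF (mat rK) (by decide +kernel)
  obtain ⟨hZR, hrel, hK, -, -, hom⟩ := r_facts
  have hgks : gk ∈ scalars (Fin 3) F := (mem_scalars_iff _).mpr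
    ⟨Units.mk0 (phi R.t (mat rK 0 0)) (phi_ne_zero R (by decide +kernel)), by
      rw [hgk]; conv_lhs => rw [hK]
      rw [toMat_smat]; rfl⟩
  obtain ⟨gp, hgp, hgpv, -⟩ := exists_SU R hF (mat m10P) (okSU_iff m10_pts.2.2.2).1 (okSU_iff m10_pts.2.2.2).2
  obtain ⟨gz, hgz, hgzv, hgziv⟩ := exists_SU R hF (mat m10Z) (okSU_iff m10_pts.2.2.1).1 (okSU_iff m10_pts.2.2.1).2
  refine SU3Model.not_maximal R hH hcU (fun h hh => ?_) hgp (not_mem_overgroup R hF hgpv m10_pts.2.1) hgz
    (mem_overgroup R hgzv m10_pts.1) ?_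
  · obtain ⟨A, hA, hAv⟩ := hnorm h hh _ gx hrX hgx
    obtain ⟨B, hB, hBv⟩ := hnorm h hh _ gc hrC hgc
    set h' := c⁻¹ * h * c with hh'
    set a := h' * gx * h'⁻¹ with ha
    set b := h' * gc * h'⁻¹ with hb
    have hBA : mm 2 B A = mm 2 (mat rK) (mm 2 A B) := by
      apply toMat_injective R
      rw [toMat_mm R.sq, toMat_mm R.sq, toMat_mm R.sq, hAv, hBv, ← hgk, ← Units.val_mul, ← Units.val_mul,
        ← Units.val_mul]
      congr 1
      have hr : gc * gx = gk * (gx * gc) := Units.ext (by
        simp only [Units.val_mul, hgk, hgx, hgc, ← toMat_mm R.sq, hrel])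
      calc b * a = h' * (gc * gx) * h'⁻¹ := by rw [ha, hb]; group
        _ = h' * (gk * (gx * gc)) * h'⁻¹ := by rw [hr]
        _ = gk * (a * b) := by
          rw [ha, hb, ← mul_assoc h', ← Symplectic.scalar_comm hgks h']
          group
    obtain ⟨i, hi, hiA⟩ := List.mem_iff_getElem.mp hA
    obtain ⟨j, hj, hjB⟩ := List.mem_iff_getElem.mp hB
    have hp := r_pairs
    simp only [okPairs, List.all_eq_true, List.mem_range, Bool.or_eq_true, Bool.and_eq_true, bne_iff_ne,
      decide_eq_true_eq, beq_iff_eq] at hp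
    have hp' := hp i hi j hj
    rw [List.getD_eq_getElem (d := one3) _ hi, List.getD_eq_getElem (d := one3) _ hj, hiA, hjB] at hp'
    obtain ⟨⟨⟨he0, he⟩, hWX⟩, hWC⟩ := hp'.resolve_left (fun hne => hne hBA)
    set e := rWit.getD (i * (rList.map (mat (p := 5))).length + j) 0
    set k := (e - 1) / (m10Tab.map (mat (p := 5))).length
    set T : M3 5 := (m10Tab.map mat).getD ((e - 1) % (m10Tab.map (mat (p := 5))).length) one3 with hTdef
    set W : M3 5 := mm 2 ((rOm.map mat).getD k one3) T with hW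
    have hTm : T ∈ (m10Tab.map mat : List (M3 5)) := by
      have hlt := Nat.mod_lt (e - 1) (show (m10Tab.map (mat (p := 5))).length > 0 by rw [List.length_map]; decide +kernel)
      rw [hTdef, List.getD_eq_getElem (d := one3) _ hlt]
      exact List.getElem_mem hlt
    obtain ⟨gT, hgT, hgTv⟩ := group_mem R hF m10_group T hTm
    set M := (h'⁻¹ : GL (Fin 3) F).val * toMat R.t W with hM
    have hcommW : ∀ (X A' : M3 5) (g : GL (Fin 3) F), g.val = toMat R.t X →
        toMat R.t A' = (h' * g * h'⁻¹).val → mm 2 W X = mm 2 A' W → M * toMat R.t X = toMat R.t X * M := by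
      intro X A' g hg hA' heq
      rw [hM, mul_assoc, ← toMat_mm R.sq, heq, toMat_mm R.sq, hA', ← mul_assoc, ← mul_assoc (toMat R.t X),
        ← hg, ← Units.val_mul, ← Units.val_mul]
      congr 2
      group
    have hMs := centraliser_scalar R (hcommW _ A gx hgx hAv hWX) (hcommW _ B gc hgc hBv hWC)
    set s := M 0 0
    have hdh : h'.val.det = 1 := by
      have h2 := (MonoidHom.normal_ker _).conj_mem h (Subgroup.mem_inf.mp (hH.1.le hh)).2 c⁻¹
      rw [inv_inv] at h2
      exact Symplectic.mem_specialLinear.mp h2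
    have hWv : toMat R.t W = s • h'.val := by
      rw [← one_mul (toMat R.t W), ← Units.mul_inv h', mul_assoc, ← hM, hMs, Matrix.mul_smul, mul_one]
    have hdT : det3 (2 : Fin 5) T = oneK := by
      have := List.all_eq_true.mp m10_det T hTm
      simpa using this
    have hdW : phi R.t (det3 (2 : Fin 5) ((rOm.map mat).getD k one3)) = s ^ 3 := by
      have h1 := congrArg Matrix.det hWv
      rw [hW, toMat_mm R.sq, Matrix.det_mul, det_toMat R.sq, det_toMat R.sq, hdT, phi_one, mul_one,
        Matrix.det_smul, hdh, mul_one, Fintype.card_fin] at h1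
      exact h1
    have hs0 : s ≠ 0 := by
      intro h0
      rw [h0, zero_smul] at hWv
      have h1 := congrArg Matrix.det hWv
      rw [hW, toMat_mm R.sq, Matrix.det_mul, det_toMat R.sq, det_toMat R.sq, hdT, phi_one, mul_one,
        Matrix.det_zero] at h1
      revert h1
      rw [hom]
      have hk : k < 3 := by simpa [hom] using he
      interval_cases k <;> exact phi_ne_zero R (by decide +kernel)
    have hcube : phi R.t (pwK (2 : Fin 5) (det3 (2 : Fin 5) ((rOm.map mat).getD k one3)) 8) = 1 := by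
      rw [phi_pwK R, hdW, ← pow_mul, show (3 * 8 : ℕ) = Fintype.card F - 1 by rw [hF]; norm_num]
      exact FiniteField.pow_card_sub_one_eq_one _ hs0
    have hk0 : (rOm.map mat).getD k one3 = (one3 : M3 5) := by
      have hcube' := R.inj (hcube.trans phi_one.symm)
      rw [hom] at hcube' ⊢
      have hk : k < 3 := by simpa [hom] using he
      interval_cases k
      · rfl
      · exact absurd hcube' (by decide +kernel)
      · exact absurd hcube' (by decide +kernel)
    have hTs : gT.val = s • h'.val := by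
      rw [hgTv, ← hWv, hW, toMat_mm R.sq, hk0, toMat_one, one_mul]
    have hscal : h' * gT⁻¹ ∈ scalars (Fin 3) F := by
      refine (mem_scalars_iff _).mpr ⟨Units.mk0 s⁻¹ (inv_ne_zero hs0), ?_⟩
      rw [Units.val_mul, show h'.val = s⁻¹ • gT.val by rw [hTs, inv_smul_smul₀ hs0], Matrix.smul_mul, Units.mul_inv]
      rfl
    have := mul_mem (scalars_le_overgroup R _ hscal) hgT
    rwa [inv_mul_cancel_right] at this
  · intro hzH
    obtain ⟨A, hA, hAv⟩ := hnorm _ hzH _ gx hrX hgx
    rw [show c⁻¹ * (c * gz * c⁻¹) * c = gz by group, Units.val_mul, Units.val_mul, hgzv, hgx, hgziv,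
      ← toMat_mm R.sq, ← toMat_mm R.sq] at hAv
    have := toMat_injective R hAv
    rw [List.contains_eq_mem, decide_eq_false_iff_not] at hZR
    exact hZR (this ▸ hA)

end Cfsg.Agent.Lib.PrimeDim.SU3R
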