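import Mathlib
import Cfsg.Prelude.Def_GeometricClasses

set_option autoImplicit false
set_option linter.style.haveILetI false

/-!
Irreducible subgroups of `GL(ι, F)`: Schur commutant, and elementary Clifford theory in prime dimension.
-/

namespace Cfsg.Agent.Lib.PrimeDim.Basic

open Cfsg.Geo
open scoped Matrix MatrixGroups

variable {ι : Type} [Fintype ι] [DecidableEq ι] {F : Type*} [Field F]

/-- `N` is normalised by the elements of `H`. -/
def NormalizedBy (H N : Subgroup (GL ι F)) : Prop := ∀ h ∈ H, ∀ x ∈ N, h * x * h⁻¹ ∈ N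

/-- `W` is invariant under `H`. -/
def Invariant (H : Subgroup (GL ι F)) (W : Submodule F (ι → F)) : Prop :=
  ∀ h ∈ H, ∀ w ∈ W, (h : Matrix ι ι F) *ᵥ w ∈ W

/-- `H` is irreducible. -/
def Irred (H : Subgroup (GL ι F)) : Prop :=
  ∀ W : Submodule F (ι → F), Invariant H W → W = ⊥ ∨ W = ⊤

lemma mem_matrixSet {H : Subgroup (GL ι F)} {M : Matrix ι ι F} :
    M ∈ matrixSet H ↔ ∃ h ∈ H, (h : Matrix ι ι F) = M := by
  simp [matrixSet]

lemma irred_iff {H : Subgroup (GL ι F)} : ActsIrreducibly (matrixSet H) ↔ Irred H := by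
  have key : ∀ W : Submodule F (ι → F),
      (∀ s ∈ matrixSet H, W.map (Matrix.toLin' s) ≤ W) ↔ Invariant H W := by
    intro W
    constructor
    · intro h g hg w hw
      have := h _ (mem_matrixSet.mpr ⟨g, hg, rfl⟩) (Submodule.mem_map_of_mem hw)
      simpa using this
    · rintro h s hs _ ⟨w, hw, rfl⟩
      obtain ⟨g, hg, rfl⟩ := mem_matrixSet.mp hs
      simpa using h g hg w hw
  constructor
  · intro h W hW
    exact h W ((key W).mpr hW)
  · intro h W hW
    exact h W ((key W).mp hW)

lemma inv_mulVec_cancel (g : GL ι F) (v : ι → F) :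
    ((g⁻¹ : GL ι F) : Matrix ι ι F) *ᵥ ((g : Matrix ι ι F) *ᵥ v) = v := by
  rw [Matrix.mulVec_mulVec, ← Units.val_mul, inv_mul_cancel, Units.val_one, Matrix.one_mulVec]

lemma mulVec_inv_cancel (g : GL ι F) (v : ι → F) :
    (g : Matrix ι ι F) *ᵥ (((g⁻¹ : GL ι F) : Matrix ι ι F) *ᵥ v) = v := by
  rw [Matrix.mulVec_mulVec, ← Units.val_mul, mul_inv_cancel, Units.val_one, Matrix.one_mulVec]

lemma mulVec_mulVec' (g h : GL ι F) (v : ι → F) :
    (g : Matrix ι ι F) *ᵥ ((h : Matrix ι ι F) *ᵥ v) = ((g * h : GL ι F) : Matrix ι ι F) *ᵥ v := by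
  rw [Matrix.mulVec_mulVec, Units.val_mul]

lemma invariant_le_stab {H : Subgroup (GL ι F)} {W : Submodule F (ι → F)} (hW : Invariant H W) :
    H ≤ subspaceStabilizer W := by
  intro g hg v
  constructor
  · intro hv
    exact hW g hg v hv
  · intro hv
    have := hW g⁻¹ (inv_mem hg) _ hv
    simp only [Units.coeHom_apply] at this
    rwa [inv_mulVec_cancel] at this

/-- The commutant of a subgroup in the matrix algebra. -/
def commutant (H : Subgroup (GL ι F)) : Subalgebra F (Matrix ι ι F) :=
  Subalgebra.centralizer F (matrixSet H)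

lemma mem_commutant {H : Subgroup (GL ι F)} {M : Matrix ι ι F} :
    M ∈ commutant H ↔ ∀ h ∈ H, (h : Matrix ι ι F) * M = M * (h : Matrix ι ι F) := by
  simp [commutant, Subalgebra.mem_centralizer_iff, matrixSet]

lemma isUnit_of_mem_commutant {H : Subgroup (GL ι F)} (hH : Irred H) {M : Matrix ι ι F}
    (hM : M ∈ commutant H) (h0 : M ≠ 0) : IsUnit M := by
  rw [mem_commutant] at hM
  have hinv : Invariant H (LinearMap.ker (Matrix.toLin' M)) := by
    intro g hg w hw
    simp only [LinearMap.mem_ker, Matrix.toLin'_apply] at hw ⊢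
    rw [Matrix.mulVec_mulVec, ← hM g hg, ← Matrix.mulVec_mulVec, hw, Matrix.mulVec_zero]
  rcases hH _ hinv with h | h
  · rw [← Matrix.mulVec_injective_iff_isUnit]
    have := LinearMap.ker_eq_bot.mp h
    intro a b hab
    exact this (by simpa using hab)
  · exfalso
    apply h0
    rw [LinearMap.ker_eq_top] at h
    simpa using h

lemma commutant_inv {H : Subgroup (GL ι F)} (hH : Irred H) {M : Matrix ι ι F}
    (hM : M ∈ commutant H) (h0 : M ≠ 0) : ∃ N ∈ commutant H, M * N = 1 := by
  obtain ⟨u, rfl⟩ := isUnit_of_mem_commutant hH hM h0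
  refine ⟨((u⁻¹ : (Matrix ι ι F)ˣ) : Matrix ι ι F), ?_, by simp⟩
  rw [mem_commutant] at hM ⊢
  intro g hg
  exact (Commute.units_inv_right (a := (g : Matrix ι ι F)) (u := u) (hM g hg)).eq

lemma commutant_comm [Finite F] [Nonempty ι] {H : Subgroup (GL ι F)} (hH : Irred H) :
    ∀ x ∈ commutant H, ∀ y ∈ commutant H, x * y = y * x := by
  haveI : NoZeroDivisors (commutant H) := by
    refine ⟨fun {a b} hab => ?_⟩
    by_cases ha : a = 0
    · exact Or.inl ha
    · right
      have hu := isUnit_of_mem_commutant hH a.2 (by simpa using ha)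
      have hab' : (a : Matrix ι ι F) * (b : Matrix ι ι F) = 0 := by
        exact_mod_cast congrArg Subtype.val hab
      exact Subtype.ext (hu.mul_right_eq_zero.mp hab')
  haveI : IsDomain (commutant H) := NoZeroDivisors.to_isDomain _
  intro x hx y hy
  exact congrArg Subtype.val ((Finite.isDomain_to_isField (commutant H)).mul_comm ⟨x, hx⟩ ⟨y, hy⟩)

lemma finrank_commutant_dvd [Finite F] [Nonempty ι] {H : Subgroup (GL ι F)} (hH : Irred H) :
    Module.finrank F (commutant H) ∣ Fintype.card ι := by
  haveI : NoZeroDivisors (commutant H) := by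
    refine ⟨fun {a b} hab => ?_⟩
    by_cases ha : a = 0
    · exact Or.inl ha
    · right
      have hu := isUnit_of_mem_commutant hH a.2 (by simpa using ha)
      have hab' : (a : Matrix ι ι F) * (b : Matrix ι ι F) = 0 := by
        exact_mod_cast congrArg Subtype.val hab
      exact Subtype.ext (hu.mul_right_eq_zero.mp hab')
  haveI : IsDomain (commutant H) := NoZeroDivisors.to_isDomain _
  letI : Module (commutant H) (ι → F) :=
    Module.compHom _ ((Matrix.toLinAlgEquiv' (R := F) (n := ι)).toRingEquiv.toRingHom.comp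
      (commutant H).val.toRingHom)
  haveI htower : IsScalarTower F (commutant H) (ι → F) := by
    refine ⟨fun c k v => ?_⟩
    change Matrix.toLinAlgEquiv' ((c • k : commutant H) : Matrix ι ι F) v
      = c • Matrix.toLinAlgEquiv' (k : Matrix ι ι F) v
    simp
  haveI : Module.Free (commutant H) (ι → F) :=
    letI : DivisionRing (commutant H) :=
      (Finite.isDomain_to_isField (commutant H)).toField.toDivisionRing
    Module.Free.of_divisionRing (K := commutant H) (V := ι → F)
  have h := @Module.finrank_mul_finrank F (commutant H) (ι → F) _ _ _ _ _ _ htower _ _ _ _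
  rw [Module.finrank_pi] at h
  exact ⟨_, h.symm⟩

/-- Schur: in prime dimension an irreducible group is absolutely irreducible or its commutant is a field of
full degree. -/
lemma abs_or_field [Finite F] (hn : (Fintype.card ι).Prime) {H : Subgroup (GL ι F)} (hH : Irred H) :
    ActsAbsolutelyIrreducibly (matrixSet H) ∨ IsFieldSubalgebra (Fintype.card ι) (commutant H) := by
  haveI : Nonempty ι := Fintype.card_pos_iff.mp hn.pos
  rcases (Nat.dvd_prime hn).mp (finrank_commutant_dvd hH) with h | h
  · left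
    refine ⟨irred_iff.mpr hH, fun M hM => ?_⟩
    have hM' : M ∈ commutant H :=
      mem_commutant.mpr fun g hg => (hM _ (mem_matrixSet.mpr ⟨g, hg, rfl⟩)).symm
    have hbot : commutant H = ⊥ := Subalgebra.eq_bot_of_finrank_one h
    rw [hbot, Algebra.mem_bot] at hM'
    obtain ⟨c, rfl⟩ := hM'
    exact ⟨c, by simp [Algebra.algebraMap_eq_smul_one]⟩
  · right
    exact ⟨commutant_comm hH, fun x hx hx0 => commutant_inv hH hx hx0, h⟩

lemma conj_mem_commutant {N : Subgroup (GL ι F)} {g : GL ι F} (hg : ∀ x ∈ N, g⁻¹ * x * g ∈ N)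
    {k : Matrix ι ι F} (hk : k ∈ commutant N) :
    (g : Matrix ι ι F) * k * ((g⁻¹ : GL ι F) : Matrix ι ι F) ∈ commutant N := by
  rw [mem_commutant] at hk ⊢
  intro x hx
  have h := hk _ (hg x hx)
  simp only [Units.val_mul] at h
  calc (x : Matrix ι ι F) * ((g : Matrix ι ι F) * k * ((g⁻¹ : GL ι F) : Matrix ι ι F))
      = (g : Matrix ι ι F) * ((((g⁻¹ : GL ι F) : Matrix ι ι F) * (x : Matrix ι ι F) * (g : Matrix ι ι F)) * k)
          * ((g⁻¹ : GL ι F) : Matrix ι ι F) := by simp [mul_assoc]
    _ = (g : Matrix ι ι F) * (k * (((g⁻¹ : GL ι F) : Matrix ι ι F) * (x : Matrix ι ι F) * (g : Matrix ι ι F)))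
          * ((g⁻¹ : GL ι F) : Matrix ι ι F) := by rw [h]
    _ = _ := by simp [mul_assoc]

lemma le_subalgebraNormalizer_commutant {H N : Subgroup (GL ι F)} (hN : NormalizedBy H N) :
    H ≤ subalgebraNormalizer (commutant N) := by
  intro g hg k
  have h1 : ∀ x ∈ N, g⁻¹ * x * g ∈ N := fun x hx => by simpa using hN g⁻¹ (inv_mem hg) x hx
  have h2 : ∀ x ∈ N, g⁻¹⁻¹ * x * g⁻¹ ∈ N := fun x hx => by simpa using hN g hg x hx
  refine ⟨fun hk => conj_mem_commutant h1 hk, fun hk => ?_⟩
  have := conj_mem_commutant h2 hk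
  simpa [mul_assoc] using this

/-! ### Clifford theory in prime dimension -/

/-- The common eigenspace of `N` for the function `χ`. -/
def eigSpace (N : Subgroup (GL ι F)) (χ : N → F) : Submodule F (ι → F) where
  carrier := {v | ∀ x : N, ((x : GL ι F) : Matrix ι ι F) *ᵥ v = χ x • v}
  add_mem' {a b} ha hb x := by rw [Matrix.mulVec_add, ha x, hb x, smul_add]
  zero_mem' x := by simp
  smul_mem' c v hv x := by rw [Matrix.mulVec_smul, hv x, smul_comm]

lemma mem_eigSpace {N : Subgroup (GL ι F)} {χ : N → F} {v : ι → F} :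
    v ∈ eigSpace N χ ↔ ∀ x : N, ((x : GL ι F) : Matrix ι ι F) *ᵥ v = χ x • v := Iff.rfl

lemma eigSpace_sum_zero {N : Subgroup (GL ι F)} (s : Finset (N → F)) :
    ∀ v : (N → F) → (ι → F), (∀ χ ∈ s, v χ ∈ eigSpace N χ) → ∑ χ ∈ s, v χ = 0 →
      ∀ χ ∈ s, v χ = 0 := by
  classical
  induction s using Finset.induction with
  | empty => simp
  | insert a s ha ih =>
    intro v hv hsum
    rw [Finset.sum_insert ha] at hsum
    have key : ∀ χ ∈ s, v χ = 0 := by
      intro χ hχ
      obtain ⟨x, hx⟩ : ∃ x, χ x ≠ a x := Function.ne_iff.mp (fun h => ha (h ▸ hχ))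
      have hx' := congrArg (fun w => ((x : GL ι F) : Matrix ι ι F) *ᵥ w - a x • w) hsum
      simp only [Matrix.mulVec_add, smul_add, Matrix.mulVec_zero, smul_zero, sub_zero,
        hv a (Finset.mem_insert_self _ _) x, Matrix.mulVec_sum, Finset.smul_sum,
        add_sub_add_left_eq_sub, ← Finset.sum_sub_distrib] at hx'
      have h3 := ih (fun φ => (φ x - a x) • v φ)
        (fun φ hφ => Submodule.smul_mem _ _ (hv φ (Finset.mem_insert_of_mem hφ)))
        (by
          rw [← hx']
          refine Finset.sum_congr rfl fun φ hφ => ?_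
          rw [hv φ (Finset.mem_insert_of_mem hφ) x, sub_smul]) χ hχ
      rcases smul_eq_zero.mp h3 with h | h
      · exact absurd (sub_eq_zero.mp h) hx
      · exact h
    rw [Finset.sum_eq_zero key, add_zero] at hsum
    intro χ hχ
    rcases Finset.mem_insert.mp hχ with rfl | h
    · exact hsum
    · exact key χ h

lemma eigSpace_indep [Finite F] (N : Subgroup (GL ι F)) : iSupIndep (eigSpace N) := by
  classical
  haveI := Fintype.ofFinite F
  haveI := Fintype.ofFinite (N → F)
  rw [iSupIndep_iff_finsetSum_eq_zero_imp_eq_zero]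
  intro s v hv hsum
  exact eigSpace_sum_zero s v hv hsum

/-- The translate of a subspace by a matrix. -/
def translate (g : GL ι F) (W : Submodule F (ι → F)) : Submodule F (ι → F) :=
  W.map (Matrix.toLin' (g : Matrix ι ι F))

lemma mem_translate {g : GL ι F} {W : Submodule F (ι → F)} {v : ι → F} :
    v ∈ translate g W ↔ ((g⁻¹ : GL ι F) : Matrix ι ι F) *ᵥ v ∈ W := by
  constructor
  · rintro ⟨w, hw, rfl⟩
    simpa [inv_mulVec_cancel] using hw
  · intro h
    exact ⟨_, h, by simp [mulVec_inv_cancel]⟩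

lemma finrank_translate (g : GL ι F) (W : Submodule F (ι → F)) :
    Module.finrank F (translate g W) = Module.finrank F W := by
  refine ((Submodule.equivMapOfInjective _ ?_ W).finrank_eq).symm
  intro a b hab
  simpa [inv_mulVec_cancel] using congrArg (fun w => ((g⁻¹ : GL ι F) : Matrix ι ι F) *ᵥ w) hab

lemma eq_bot_or_top_of_invariant_span {H : Subgroup (GL ι F)} (hH : Irred H)
    {W U : Submodule F (ι → F)} (hW : W ≠ ⊥) (hU : ∀ h ∈ H, translate h W ≤ U) : U = ⊤ := by
  set S : Submodule F (ι → F) := ⨆ h : H, translate (h : GL ι F) W with hS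
  have hinv : Invariant H S := by
    intro g hg w hw
    refine Submodule.iSup_induction _ (motive := fun w => (g : Matrix ι ι F) *ᵥ w ∈ S) hw ?_ ?_ ?_
    · intro h w hw
      refine Submodule.mem_iSup_of_mem (⟨g, hg⟩ * h : H) ?_
      rw [mem_translate] at hw ⊢
      rw [mulVec_mulVec']
      simpa [mul_assoc] using hw
    · simp
    · intro a b ha hb
      rw [Matrix.mulVec_add]
      exact add_mem ha hb
  rcases hH S hinv with h | h
  · exfalso
    apply hW
    rw [hS, iSup_eq_bot] at h
    have := h 1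
    simpa [translate] using this
  · rw [eq_top_iff, ← h, hS]
    exact iSup_le fun g => hU g g.2

/-- Elementary Clifford theorem in prime dimension. -/
theorem clifford [Finite F] (hn : (Fintype.card ι).Prime) {H N : Subgroup (GL ι F)}
    (hH : Irred H) (hNH : NormalizedBy H N) :
    N ≤ scalars ι F ∨ Irred N ∨
      ∃ D : Fin (Fintype.card ι) → Submodule F (ι → F), IsMDecomposition 1 D ∧
        H ≤ decompositionStabilizer D ∧
        (∀ x ∈ N, ∀ y ∈ N, x * y = y * x) ∧
        ∃ χ : Fin (Fintype.card ι) → N → F, Function.Injective χ ∧ ∀ i, D i ≤ eigSpace N (χ i) := by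
  classical
  by_cases hirr : Irred N
  · exact Or.inr (Or.inl hirr)
  haveI : Nonempty ι := Fintype.card_pos_iff.mp hn.pos
  -- a proper non-zero invariant subspace of least dimension
  have hex : ∃ d, ∃ W : Submodule F (ι → F), W ≠ ⊥ ∧ W ≠ ⊤ ∧ Invariant N W ∧ Module.finrank F W = d := by
    simp only [Irred, not_forall, not_or] at hirr
    obtain ⟨W, hW, h1, h2⟩ := hirr
    exact ⟨_, W, h1, h2, hW, rfl⟩
  obtain ⟨W, hWbot, hWtop, hWinv, hWd⟩ := Nat.find_spec hex
  have hmin : ∀ U : Submodule F (ι → F), Invariant N U → U ≠ ⊥ → U ≠ ⊤ →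
      Module.finrank F W ≤ Module.finrank F U := by
    intro U h1 h2 h3
    rw [hWd]
    exact Nat.find_min' hex ⟨U, h2, h3, h1, rfl⟩
  have hcard : Module.finrank F (ι → F) = Fintype.card ι := Module.finrank_pi F
  have hWlt : Module.finrank F W < Fintype.card ι := hcard ▸ Submodule.finrank_lt hWtop
  have htinv : ∀ h ∈ H, Invariant N (translate h W) := by
    intro h hh x hx v hv
    rw [mem_translate] at hv ⊢
    have := hWinv _ (show h⁻¹ * x * h ∈ N by simpa using hNH h⁻¹ (inv_mem hh) x hx) _ hv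
    rw [mulVec_mulVec'] at this ⊢
    simpa [mul_assoc] using this
  -- all translates lie in an invariant subspace of dimension divisible by that of W
  obtain ⟨U, ⟨hUinv, hUdvd⟩, hUmax⟩ :=
    WellFounded.has_min (wellFounded_gt (α := Submodule F (ι → F)))
      {U | Invariant N U ∧ Module.finrank F W ∣ Module.finrank F U}
      ⟨⊥, fun h hh w hw => by simp_all, by simp⟩
  have hle : ∀ h ∈ H, translate h W ≤ U := by
    intro h hh
    by_contra hnle
    have hinv : Invariant N (translate h W ⊓ U) := fun x hx v hv =>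
      ⟨htinv h hh x hx v hv.1, hUinv x hx v hv.2⟩
    have hlt : translate h W ⊓ U < translate h W := lt_of_le_of_ne inf_le_left (by simpa using hnle)
    have hbot : translate h W ⊓ U = ⊥ := by
      by_contra hne
      have h1 := Submodule.finrank_lt_finrank_of_lt hlt
      rw [finrank_translate] at h1
      have h2 := hmin _ hinv hne (fun h' => by rw [h'] at hlt; exact not_top_lt hlt)
      omega
    have h3 := Submodule.finrank_sup_add_finrank_inf_eq (translate h W) U
    rw [hbot, finrank_bot, add_zero, finrank_translate] at h3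
    apply hUmax (translate h W ⊔ U)
    · refine ⟨?_, ?_⟩
      · intro x hx v hv
        obtain ⟨a, ha, b, hb, rfl⟩ := Submodule.mem_sup.mp hv
        rw [Matrix.mulVec_add]
        exact Submodule.add_mem_sup (htinv h hh x hx a ha) (hUinv x hx b hb)
      · rw [h3]
        exact dvd_add (dvd_refl _) hUdvd
    · exact lt_of_le_of_ne le_sup_right (fun h' => hnle (by rw [h']; exact le_sup_left))
  have hUtop := eq_bot_or_top_of_invariant_span hH hWbot hle
  have hW1 : Module.finrank F W = 1 := by
    rw [hUtop, finrank_top, hcard] at hUdvd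
    rcases (Nat.dvd_prime hn).mp hUdvd with h | h
    · exact h
    · omega
  -- the common eigenspaces
  obtain ⟨w, hw, hw0⟩ := Submodule.exists_mem_ne_zero_of_ne_bot hWbot
  have hWspan : W = Submodule.span F {w} := by
    refine (Submodule.eq_of_le_of_finrank_le ((Submodule.span_singleton_le_iff_mem w W).mpr hw) ?_).symm
    rw [hW1, finrank_span_singleton hw0]
  have hex' : ∀ x : N, ∃ c : F, ((x : GL ι F) : Matrix ι ι F) *ᵥ w = c • w := by
    intro x
    have := hWinv _ x.2 w hw
    rw [hWspan, Submodule.mem_span_singleton] at this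
    obtain ⟨c, hc⟩ := this
    exact ⟨c, hc.symm⟩
  choose χ₀ hχ₀ using hex'
  let act : H → (N → F) → (N → F) := fun h χ x =>
    χ ⟨(h : GL ι F)⁻¹ * x * h, by simpa using hNH _ (inv_mem h.2) _ x.2⟩
  have hmove : ∀ (h : H) χ, translate (h : GL ι F) (eigSpace N χ) ≤ eigSpace N (act h χ) := by
    intro h χ v hv x
    rw [mem_translate] at hv
    have := hv ⟨(h : GL ι F)⁻¹ * x * h, by simpa using hNH _ (inv_mem h.2) _ x.2⟩
    have h2 := congrArg (fun u => ((h : GL ι F) : Matrix ι ι F) *ᵥ u) this
    simp only [Matrix.mulVec_smul, mulVec_mulVec'] at h2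
    simpa [mul_assoc, act] using h2
  haveI := Fintype.ofFinite F
  haveI := Fintype.ofFinite (N → F)
  have heig0 : eigSpace N χ₀ ≠ ⊥ := fun h => hw0 (by
    have : w ∈ eigSpace N χ₀ := hχ₀
    rwa [h, Submodule.mem_bot] at this)
  set O : Finset (N → F) := Finset.univ.filter (fun χ => ∃ h : H, χ = act h χ₀) with hO
  have hspan : ⨆ χ ∈ O, eigSpace N χ = ⊤ := by
    refine eq_bot_or_top_of_invariant_span hH heig0 fun h hh => ?_
    refine (hmove ⟨h, hh⟩ χ₀).trans ?_
    exact le_biSup (fun χ => eigSpace N χ) (Finset.mem_filter.mpr ⟨Finset.mem_univ _, ⟨h, hh⟩, rfl⟩)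
  have hnot : ∀ χ, χ ∉ O → eigSpace N χ = ⊥ := by
    intro χ hχ
    have := ((eigSpace_indep N).disjoint_biSup (y := (↑O : Set (N → F))) (x := χ) (by simpa using hχ))
    simp only [Finset.mem_coe] at this
    rw [hspan] at this
    simpa using this
  have hactinv : ∀ (h : H) χ, act h (act h⁻¹ χ) = χ := by
    intro h χ
    funext x
    simp only [act]
    congr 1
    ext1
    simp [mul_assoc]
  have heq : ∀ (h : H) χ, translate (h : GL ι F) (eigSpace N χ) = eigSpace N (act h χ) := by
    intro h χ
    refine le_antisymm (hmove h χ) fun v hv => ?_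
    rw [mem_translate]
    have h1 := hmove h⁻¹ (act h χ) (mem_translate.mpr (by simpa [inv_inv] using hv :
      (((((h⁻¹ : H)) : GL ι F))⁻¹ : GL ι F).val *ᵥ (((h : GL ι F)⁻¹ : GL ι F).val *ᵥ v) ∈ eigSpace N (act h χ)))
    have h2 : act h⁻¹ (act h χ) = χ := by simpa using hactinv h⁻¹ χ
    rwa [h2] at h1
  set m := Module.finrank F (eigSpace N χ₀) with hm
  have hdim : ∀ χ ∈ O, Module.finrank F (eigSpace N χ) = m := by
    intro χ hχ
    obtain ⟨h, rfl⟩ := (Finset.mem_filter.mp hχ).2
    rw [← heq, finrank_translate]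
  -- internal direct sum over O
  let E : O → Submodule F (ι → F) := fun χ => eigSpace N (χ : N → F)
  have hEind : iSupIndep E := (eigSpace_indep N).comp Subtype.val_injective
  have hEtop : iSup E = ⊤ := by
    rw [iSup_subtype']  at hspan
    exact hspan
  have hint : DirectSum.IsInternal E :=
    (DirectSum.isInternal_submodule_iff_iSupIndep_and_iSup_eq_top E).mpr ⟨hEind, hEtop⟩
  have hcount : Fintype.card ι = O.card * m := by
    have b : Module.finrank F (ι → F) = ∑ χ : O, Module.finrank F (E χ) := by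
      rw [← Module.finrank_directSum]
      exact (LinearEquiv.ofBijective (DirectSum.coeLinearMap E) hint).finrank_eq.symm
    rw [hcard] at b
    rw [b, Finset.sum_congr rfl (fun χ _ => hdim _ χ.2)]
    simp
  rcases (Nat.dvd_prime hn).mp ⟨m, hcount⟩ with hone | hall
  · left
    have htop : eigSpace N χ₀ = ⊤ := by
      apply Submodule.eq_top_of_finrank_eq
      rw [hcard, hcount, hone, one_mul]
    intro x hx
    have hall' : ∀ v, (x : Matrix ι ι F) *ᵥ v = χ₀ ⟨x, hx⟩ • v := fun v =>
      (htop ▸ Submodule.mem_top (x := v) : v ∈ eigSpace N χ₀) ⟨x, hx⟩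
    have hc0 : χ₀ ⟨x, hx⟩ ≠ 0 := by
      intro h0
      have h1 := hall' w
      rw [h0, zero_smul] at h1
      apply hw0
      have := congrArg (fun u => ((x⁻¹ : GL ι F) : Matrix ι ι F) *ᵥ u) h1
      simpa [inv_mulVec_cancel] using this
    rw [Cfsg.Geo.mem_scalars_iff]
    refine ⟨Units.mk0 _ hc0, Matrix.ext_of_mulVec_single fun i => ?_⟩
    rw [hall', Units.val_mk0, Matrix.smul_mulVec, Matrix.one_mulVec]
  · right; right
    have hm1 : m = 1 := by
      rw [hall] at hcount
      nlinarith [hn.pos]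
    let e : Fin (Fintype.card ι) ≃ O := (Fintype.equivFinOfCardEq (by simpa using hall)).symm
    refine ⟨fun i => E (e i), ⟨hn.two_le, one_pos, fun i => (hdim _ (e i).2).trans hm1,
      hEind.comp e.injective, ?_⟩, ?_, ?_,
      fun i => (e i : N → F), Subtype.val_injective.comp e.injective, fun i => le_rfl⟩
    · rw [← hEtop]
      exact e.surjective.iSup_comp E
    · intro h hh
      have hne : ∀ χ : O, act ⟨h, hh⟩ χ ∈ O := by
        intro χ
        by_contra hc
        have h1 := hnot _ hc
        rw [← heq] at h1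
        have h2 := congrArg (fun U : Submodule F (ι → F) => Module.finrank F U) h1
        simp only [finrank_translate, finrank_bot, hdim _ χ.2, hm1] at h2
        exact one_ne_zero h2
      let f : O → O := fun χ => ⟨act ⟨h, hh⟩ χ, hne χ⟩
      have hf : Function.Injective f := by
        intro a b hab
        have hab' : act ⟨h, hh⟩ (a : N → F) = act ⟨h, hh⟩ (b : N → F) := congrArg Subtype.val hab
        have := congrArg (act ⟨h, hh⟩⁻¹) hab'
        rw [show act ⟨h, hh⟩⁻¹ (act ⟨h, hh⟩ (a : N → F)) = a by simpa using hactinv ⟨h, hh⟩⁻¹ a,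
          show act ⟨h, hh⟩⁻¹ (act ⟨h, hh⟩ (b : N → F)) = b by simpa using hactinv ⟨h, hh⟩⁻¹ b] at this
        exact Subtype.ext this
      let σ : Equiv.Perm (Fin (Fintype.card ι)) :=
        e.trans ((Equiv.ofBijective f (Finite.injective_iff_bijective.mp hf)).trans e.symm)
      refine ⟨σ, fun i => ?_⟩
      have : (e (σ i) : N → F) = act ⟨h, hh⟩ (e i) := by simp [σ, f]
      show translate h (E (e i)) = E (e (σ i))
      simp only [E, this]
      exact heq ⟨h, hh⟩ _
    · intro x hx y hy
      apply Units.ext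
      refine Matrix.ext_of_mulVec_single fun j => ?_
      have hv : Pi.single j (1 : F) ∈ (⊤ : Submodule F (ι → F)) := trivial
      rw [← hEtop] at hv
      rw [Units.val_mul, Units.val_mul]
      refine Submodule.iSup_induction E (motive := fun v =>
        ((x : Matrix ι ι F) * (y : Matrix ι ι F)) *ᵥ v = ((y : Matrix ι ι F) * (x : Matrix ι ι F)) *ᵥ v)
        hv ?_ ?_ ?_
      · intro χ v hv
        rw [← Matrix.mulVec_mulVec, ← Matrix.mulVec_mulVec, hv ⟨y, hy⟩, hv ⟨x, hx⟩,
          Matrix.mulVec_smul, Matrix.mulVec_smul, hv ⟨y, hy⟩, hv ⟨x, hx⟩, smul_comm]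
      · simp
      · intro a b ha hb
        rw [Matrix.mulVec_add, Matrix.mulVec_add, ha, hb]

end Cfsg.Agent.Lib.PrimeDim.Basic
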