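import Cfsg.Agent.Lib.PrimeDim.Basic

set_option autoImplicit false
set_option linter.style.haveILetI false

/-!
Subfields of finite fields, normalisers of groups realisable over a subfield, and forms fixed by absolutely
irreducible groups.
-/

namespace Cfsg.Agent.Lib.PrimeDim.Fields

open Cfsg.Geo Cfsg.Agent.Lib.PrimeDim.Basic
open scoped Matrix MatrixGroups

section finiteField

variable {F : Type*} [Field F] [Fintype F]

/-- The Frobenius map `x ↦ x ^ p ^ e`. -/
def frob (p e : ℕ) [Fact p.Prime] [CharP F p] : F →+* F := iterateFrobenius F p e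

lemma frob_apply (p e : ℕ) [Fact p.Prime] [CharP F p] (x : F) : frob p e x = x ^ p ^ e :=
  iterateFrobenius_def ..

/-- The subfield of fixed points of `x ↦ x ^ p ^ e`. -/
def fixedField (p e : ℕ) [Fact p.Prime] [CharP F p] : Subfield F :=
  (frob p e).eqLocusField (RingHom.id F)

lemma mem_fixedField {p e : ℕ} [Fact p.Prime] [CharP F p] {x : F} :
    x ∈ fixedField (F := F) p e ↔ x ^ p ^ e = x := by
  rw [← frob_apply p e x]
  rfl

open Polynomial in
lemma card_pow_eq_self_le {k : ℕ} (hk : 2 ≤ k) : Nat.card {x : F // x ^ k = x} ≤ k := by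
  classical
  have hne : (X ^ k - X : F[X]) ≠ 0 := FiniteField.X_pow_card_sub_X_ne_zero F (by omega)
  rw [Nat.card_eq_fintype_card, Fintype.card_subtype]
  calc (Finset.univ.filter fun x : F => x ^ k = x).card
      ≤ (X ^ k - X : F[X]).roots.toFinset.card := by
        refine Finset.card_le_card fun x hx => ?_
        simp only [Finset.mem_filter] at hx
        simp [Multiset.mem_toFinset, mem_roots hne, sub_eq_zero, hx.2]
    _ ≤ Multiset.card (X ^ k - X : F[X]).roots := Multiset.toFinset_card_le _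
    _ ≤ (X ^ k - X : F[X]).natDegree := card_roots' _
    _ = k := FiniteField.X_pow_card_sub_X_natDegree_eq F (by omega)

/-- The fixed field of `x ↦ x ^ p ^ e` has `p ^ e` elements if `e` is a positive divisor of the degree. -/
lemma card_fixedField {p e f : ℕ} [Fact p.Prime] [CharP F p] (he : 0 < e) (hef : e ∣ f)
    (hF : Fintype.card F = p ^ f) : Nat.card (fixedField (F := F) p e) = p ^ e := by
  classical
  have hp2 : 2 ≤ p := (Fact.out : p.Prime).two_le
  have h2 : 2 ≤ p ^ e := le_trans hp2 (Nat.le_self_pow he.ne' p)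
  have hcard : Nat.card (fixedField (F := F) p e) = Nat.card {x : F // x ^ p ^ e = x} :=
    Nat.card_congr (Equiv.subtypeEquivRight fun x => mem_fixedField)
  refine le_antisymm (hcard ▸ card_pow_eq_self_le h2) ?_
  obtain ⟨g, hg⟩ := IsCyclic.exists_ofOrder_eq_natCard (α := Fˣ)
  have hcu : Nat.card Fˣ = p ^ f - 1 := by
    rw [Nat.card_units, Nat.card_eq_fintype_card, hF]
  have hdvd : p ^ e - 1 ∣ p ^ f - 1 := Nat.pow_sub_one_dvd_pow_sub_one p hef
  obtain ⟨c, hc⟩ := hdvd
  have hc0 : c ≠ 0 := by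
    rintro rfl
    have : 2 ≤ p ^ f := hF ▸ Fintype.one_lt_card
    omega
  have hord : orderOf (g ^ c) = p ^ e - 1 := by
    rw [orderOf_pow' g hc0, hg, hcu, hc, Nat.gcd_mul_left_left, Nat.mul_div_cancel _ (Nat.pos_of_ne_zero hc0)]
  let φ : Option (Subgroup.zpowers (g ^ c)) → fixedField (F := F) p e := fun o =>
    match o with
    | none => ⟨0, zero_mem _⟩
    | some u => ⟨((u : Fˣ) : F), mem_fixedField.mpr (by
        have h1 : (u : Fˣ) ^ (p ^ e - 1) = 1 := by
          rw [← hord]
          obtain ⟨z, hz⟩ := u.2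
          rw [← hz, ← zpow_natCast, ← zpow_mul, mul_comm, zpow_mul, zpow_natCast, pow_orderOf_eq_one, one_zpow]
        have h3 : ((u : Fˣ) : F) ^ (p ^ e - 1) = 1 := by rw [← Units.val_pow_eq_pow_val, h1, Units.val_one]
        calc ((u : Fˣ) : F) ^ p ^ e = ((u : Fˣ) : F) ^ ((p ^ e - 1) + 1) := by rw [Nat.sub_add_cancel (by omega)]
          _ = _ := by rw [pow_succ, h3, one_mul])⟩
  have hφ : Function.Injective φ := by
    rintro (_ | a) (_ | b) h <;> simp only [φ, Subtype.mk.injEq] at h
    · rfl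
    · exact absurd h.symm (Units.ne_zero _)
    · exact absurd h (Units.ne_zero _)
    · rw [show a = b from Subtype.ext (Units.ext h)]
  have := Nat.card_le_card_of_injective φ hφ
  rw [Finite.card_option, Nat.card_zpowers, hord] at this
  omega

lemma exists_char_card : ∃ p f : ℕ, ∃ _ : Fact p.Prime, ∃ _ : CharP F p, 0 < f ∧ Fintype.card F = p ^ f := by
  obtain ⟨p, hp⟩ := CharP.exists F
  obtain ⟨f, hp', hf⟩ := FiniteField.card F p
  exact ⟨p, f, ⟨hp'⟩, hp, f.pos, hf⟩

lemma card_subfield (F₀ : Subfield F) {p f : ℕ} [Fact p.Prime] [CharP F p] (hF : Fintype.card F = p ^ f) :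
    ∃ e : ℕ, 0 < e ∧ e ∣ f ∧ Nat.card F₀ = p ^ e ∧ F₀ = fixedField p e := by
  classical
  haveI : CharP F₀ p := RingHom.charP F₀.subtype F₀.subtype.injective p
  obtain ⟨e, -, hce⟩ := FiniteField.card F₀ p
  refine ⟨e, e.pos, ?_, by rw [Nat.card_eq_fintype_card, hce], ?_⟩
  · have hpow := Module.card_eq_pow_finrank (K := F₀) (V := F)
    rw [hF, hce, ← pow_mul] at hpow
    exact ⟨_, Nat.pow_right_injective (Fact.out : p.Prime).two_le hpow⟩
  · have hle : F₀ ≤ fixedField p e := by
      intro x hx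
      rw [mem_fixedField, ← hce]
      simpa using congrArg Subtype.val (FiniteField.pow_card (⟨x, hx⟩ : F₀))
    apply SetLike.coe_injective
    refine Set.eq_of_subset_of_ncard_le hle ?_
    rw [← Nat.card_coe_set_eq, ← Nat.card_coe_set_eq]
    calc Nat.card (fixedField (F := F) p e) ≤ p ^ (e : ℕ) := by
          rw [Nat.card_congr (Equiv.subtypeEquivRight fun x => mem_fixedField
            (F := F) (p := p) (e := e) (x := x))]
          exact card_pow_eq_self_le (le_trans (Fact.out : p.Prime).two_le (Nat.le_self_pow e.pos.ne' p))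
      _ = Nat.card F₀ := by rw [Nat.card_eq_fintype_card, hce]

/-- A proper subfield lies in a subfield of prime index. -/
lemma exists_prime_index {F₀ : Subfield F} (h : F₀ ≠ ⊤) :
    ∃ (F₁ : Subfield F) (r : ℕ), r.Prime ∧ F₀ ≤ F₁ ∧ Fintype.card F = Nat.card F₁ ^ r := by
  obtain ⟨p, f, _, _, hf, hF⟩ := exists_char_card (F := F)
  obtain ⟨e, he, ⟨d, rfl⟩, hc, rfl⟩ := card_subfield F₀ hF
  have hd1 : d ≠ 1 := by
    rintro rfl
    apply h
    rw [eq_top_iff]
    intro x _
    rw [mem_fixedField]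
    simpa [hF] using FiniteField.pow_card x
  have hd0 : 0 < d := Nat.pos_of_mul_pos_left hf
  set r := d.minFac with hr
  have hrp : r.Prime := Nat.minFac_prime hd1
  obtain ⟨d', hd'⟩ := Nat.minFac_dvd d
  rw [← hr] at hd'
  have hd'0 : 0 < d' := by
    rcases Nat.eq_zero_or_pos d' with rfl | h
    · simp at hd'; omega
    · exact h
  refine ⟨fixedField p (e * d'), r, hrp, ?_, ?_⟩
  · intro x hx
    rw [mem_fixedField] at hx ⊢
    rw [pow_mul]
    clear hd' hd'0
    induction d' with
    | zero => simp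
    | succ k ih => rw [pow_succ, pow_mul, ih, hx]
  · rw [card_fixedField (f := e * d) (Nat.mul_pos he hd'0) ⟨r, by rw [hd']; ring⟩ hF, hF, ← pow_mul]
    rw [hd']; ring_nf

end finiteField

section realisable

variable {ι : Type} [Fintype ι] [DecidableEq ι] {F : Type*} [Field F]

lemma subfieldSubgroup_mono {F₀ F₁ : Subfield F} (h : F₀ ≤ F₁) (P : GL ι F) :
    subfieldSubgroup F₀ P ≤ subfieldSubgroup F₁ P := by
  refine Subgroup.map_mono (sup_le_sup_right ?_ _)
  rintro _ ⟨g, rfl⟩
  refine ⟨Matrix.GeneralLinearGroup.map (Subfield.inclusion h : F₀ →+* F₁) g, ?_⟩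
  ext i j
  rfl

lemma scalar_entry_mem {F₀ : Subfield F} {g : GL ι F} (hg : ∀ i j, (g : Matrix ι ι F) i j ∈ F₀) :
    g ∈ (Matrix.GeneralLinearGroup.map (F₀.subtype : F₀ →+* F)).range := by
  let M : Matrix ι ι F₀ := fun i j => ⟨_, hg i j⟩
  have hM : M.map F₀.subtype = (g : Matrix ι ι F) := by ext i j; rfl
  have hdet : M.det ≠ 0 := by
    intro h
    have h1 := congrArg F₀.subtype h
    rw [RingHom.map_det, map_zero, RingHom.mapMatrix_apply, hM] at h1
    exact (Matrix.isUnit_iff_isUnit_det _).mp g.isUnit |>.ne_zero h1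
  refine ⟨Matrix.GeneralLinearGroup.mkOfDetNeZero M hdet, ?_⟩
  ext i j
  rfl

/-- The normaliser of an absolutely irreducible group realisable over a subfield lies in a subfield group. -/
theorem normalizer_le_subfieldSubgroup [Fintype F] {H N : Subgroup (GL ι F)} (hNH : NormalizedBy H N)
    (habs : ActsAbsolutelyIrreducibly (matrixSet N)) (F₀ : Subfield F) {B : GL ι F}
    (hB : ∀ s ∈ N, ∀ i j, ((B : Matrix ι ι F) * (s : Matrix ι ι F) * ((B⁻¹ : GL ι F) : Matrix ι ι F)) i j ∈ F₀) :
    H ≤ subfieldSubgroup F₀ B⁻¹ := by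
  classical
  obtain ⟨p, f, _, _, hf, hF⟩ := exists_char_card (F := F)
  obtain ⟨e, he, hdvd, hcard, rfl⟩ := card_subfield F₀ hF
  intro g hg
  set g' : GL ι F := B * g * B⁻¹ with hg'
  rcases isEmpty_or_nonempty ι with hι | hι
  · rw [show g = 1 from Subsingleton.elim _ _]; exact one_mem _
  set σ : F →+* F := frob p e with hσ
  let σG : GL ι F →* GL ι F := Matrix.GeneralLinearGroup.map σ
  have hfix : ∀ s ∈ N, σG (B * s * B⁻¹) = B * s * B⁻¹ := by
    intro s hs
    ext i j
    have h1 := mem_fixedField.mp (hB s hs i j)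
    show σ ((((B * s * B⁻¹ : GL ι F)) : Matrix ι ι F) i j) = _
    rw [hσ, frob_apply, Units.val_mul, Units.val_mul, h1]
  have hcomm : ∀ s ∈ N, Commute (B⁻¹ * (g'⁻¹ * σG g') * B) s := by
    intro s hs
    have ht := hfix _ (hNH g hg s hs)
    have h1 : B * (g * s * g⁻¹) * B⁻¹ = g' * (B * s * B⁻¹) * g'⁻¹ := by rw [hg']; group
    rw [h1, map_mul, map_mul, map_inv, hfix s hs] at ht
    show _ = _
    calc B⁻¹ * (g'⁻¹ * σG g') * B * s
        = B⁻¹ * g'⁻¹ * ((σG g') * (B * s * B⁻¹) * (σG g')⁻¹) * σG g' * B := by group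
      _ = B⁻¹ * g'⁻¹ * (g' * (B * s * B⁻¹) * g'⁻¹) * σG g' * B := by rw [ht]
      _ = s * (B⁻¹ * (g'⁻¹ * σG g') * B) := by group
  obtain ⟨c, hc⟩ := habs.2 ((B⁻¹ * (g'⁻¹ * σG g') * B : GL ι F) : Matrix ι ι F) (fun s hs => by
    obtain ⟨x, hx, rfl⟩ := mem_matrixSet.mp hs
    simpa only [Units.val_mul] using congrArg Units.val (hcomm x hx).eq)
  have hc' : ((σG g' : GL ι F) : Matrix ι ι F) = c • (g' : Matrix ι ι F) := by
    set z : GL ι F := B⁻¹ * (g'⁻¹ * σG g') * B with hz
    have : σG g' = g' * (B * z * B⁻¹) := by rw [hz]; group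
    rw [this, Units.val_mul, Units.val_mul (B * z), Units.val_mul B, hc]
    simp
  have hentry : ∀ i j, σ ((g' : Matrix ι ι F) i j) = c * (g' : Matrix ι ι F) i j := by
    intro i j
    have := congrFun (congrFun hc' i) j
    simpa [σG] using this
  obtain ⟨i₀, j₀, hne⟩ : ∃ i j, (g' : Matrix ι ι F) i j ≠ 0 := by
    by_contra! h
    have h0 : (g' : Matrix ι ι F) = 0 := by ext i j; simpa using h i j
    have h1 := g'.mul_inv
    rw [h0, zero_mul] at h1
    exact zero_ne_one h1
  set a : Fˣ := Units.mk0 _ hne with ha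
  let u : GL ι F := Units.map (Matrix.scalar ι : F →+* Matrix ι ι F).toMonoidHom a
  have hu : u ∈ scalars ι F := ⟨a, rfl⟩
  have hh : u⁻¹ * g' ∈ (Matrix.GeneralLinearGroup.map ((fixedField p e).subtype : _ →+* F)).range := by
    apply scalar_entry_mem
    intro i j
    have hval : ((u⁻¹ * g' : GL ι F) : Matrix ι ι F) i j = (a : F)⁻¹ * (g' : Matrix ι ι F) i j := by
      simp [u, ← map_inv]
    rw [hval, mem_fixedField, ← frob_apply, ← hσ, map_mul, map_inv₀, hentry]
    have hc0 : c ≠ 0 := by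
      intro h0
      have := hentry i₀ j₀
      rw [h0, zero_mul] at this
      exact hne ((map_eq_zero σ).mp this)
    have : σ (a : F) = c * (a : F) := by simpa [ha] using hentry i₀ j₀
    rw [this]
    field_simp
  refine ⟨g', ?_, ?_⟩
  · rw [show g' = u * (u⁻¹ * g') by group]
    exact mul_mem (Subgroup.mem_sup_right hu) (Subgroup.mem_sup_left hh)
  · simp [hg', mul_assoc]

/-- The normaliser of an absolutely irreducible group realisable over a proper subfield lies in a subfield group
for a subfield of prime index. -/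
theorem normalizer_le_prime_subfield [Fintype F] {H N : Subgroup (GL ι F)} (hNH : NormalizedBy H N)
    (habs : ActsAbsolutelyIrreducibly (matrixSet N)) {F₀ : Subfield F} (hne : F₀ ≠ ⊤)
    (h : RealisableOver F₀ (matrixSet N)) :
    ∃ (F₁ : Subfield F) (r : ℕ) (P : GL ι F), r.Prime ∧ Fintype.card F = Nat.card F₁ ^ r ∧
      H ≤ subfieldSubgroup F₁ P := by
  obtain ⟨B, hB⟩ := h
  obtain ⟨F₁, r, hr, hle, hcard⟩ := exists_prime_index hne
  exact ⟨F₁, r, B⁻¹, hr, hcard,
    normalizer_le_subfieldSubgroup hNH habs F₁ (B := B)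
      (fun s hs i j => hle (hB _ (mem_matrixSet.mpr ⟨s, hs, rfl⟩) i j))⟩

end realisable

section forms

variable {ι : Type} [Fintype ι] [DecidableEq ι] {F : Type*} [Field F]

/-- A form that is linear in the first and `σ`-semilinear in the second argument. -/
structure IsSesqui (σ : F →+* F) (f : (ι → F) → (ι → F) → F) : Prop where
  add_left : ∀ x y v, f (x + y) v = f x v + f y v
  smul_left : ∀ (c : F) (x v : ι → F), f (c • x) v = c * f x v
  add_right : ∀ v x y, f v (x + y) = f v x + f v y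
  smul_right : ∀ (c : F) (v x : ι → F), f v (c • x) = σ c * f v x

lemma IsSesqui.apply_eq {σ : F →+* F} {f : (ι → F) → (ι → F) → F} (hf : IsSesqui σ f) (u v : ι → F) :
    f u v = u ⬝ᵥ (gramMatrix f *ᵥ (σ ∘ v)) := by
  let L : (ι → F) → (ι → F) →ₗ[F] F := fun w =>
    { toFun := fun x => f x w, map_add' := fun x y => hf.add_left x y w,
      map_smul' := fun c x => by simpa using hf.smul_left c x w }
  have h1 : ∀ x w, f x w = ∑ a, x a * f (Pi.single a 1) w := by
    intro x w
    have := (L w).pi_apply_eq_sum_univ x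
    simp only [smul_eq_mul] at this
    refine this.trans (Finset.sum_congr rfl fun a _ => ?_)
    refine congrArg (fun t => x a * f t w) ?_
    funext j
    simp [Pi.single_apply, eq_comm]
  let R : (ι → F) → (ι → F) →+ F := fun x => AddMonoidHom.mk' (fun w => f x w) (fun a b => hf.add_right x a b)
  have h2 : ∀ x w, f x w = ∑ b, σ (w b) * f x (Pi.single b 1) := by
    intro x w
    have hw : w = ∑ b, w b • (Pi.single b 1 : ι → F) := pi_eq_sum_univ' w
    calc f x w = R x (∑ b, w b • (Pi.single b 1 : ι → F)) := congrArg (f x) hw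
      _ = ∑ b, R x (w b • (Pi.single b 1 : ι → F)) := map_sum _ _ _
      _ = _ := Finset.sum_congr rfl fun b _ => hf.smul_right _ _ _
  rw [h1]
  simp only [dotProduct, Matrix.mulVec, gramMatrix, Function.comp_apply]
  refine Finset.sum_congr rfl fun a _ => ?_
  rw [h2 _ v]
  exact congrArg _ (Finset.sum_congr rfl fun b _ => mul_comm _ _)

lemma map_mulVec_comp (σ : F →+* F) (M : Matrix ι ι F) (v : ι → F) :
    σ ∘ (M *ᵥ v) = M.map σ *ᵥ (σ ∘ v) := by
  funext i
  exact RingHom.map_mulVec σ M v i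

lemma IsSesqui.apply_mul {σ : F →+* F} {f : (ι → F) → (ι → F) → F} (hf : IsSesqui σ f) (M : Matrix ι ι F)
    (u v : ι → F) : f (M *ᵥ u) (M *ᵥ v) = u ⬝ᵥ ((Mᵀ * gramMatrix f * M.map σ) *ᵥ (σ ∘ v)) := by
  rw [hf.apply_eq, map_mulVec_comp, ← Matrix.mulVec_mulVec, ← Matrix.mulVec_mulVec, Matrix.mulVec_transpose,
    dotProduct_comm u (_ ᵥ* M), ← Matrix.dotProduct_mulVec, dotProduct_comm]

lemma IsSesqui.scale_iff {σ : F →+* F} {f : (ι → F) → (ι → F) → F} (hf : IsSesqui σ f)
    (M : Matrix ι ι F) (c : F) :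
    (∀ u v, f (M *ᵥ u) (M *ᵥ v) = c * f u v) ↔ Mᵀ * gramMatrix f * M.map σ = c • gramMatrix f := by
  constructor
  · intro h
    ext a b
    have := h (Pi.single a 1) (Pi.single b 1)
    rw [hf.apply_mul] at this
    have hb : (σ ∘ (Pi.single b 1 : ι → F)) = Pi.single b 1 := by
      funext x
      simp [Pi.single_apply, apply_ite σ]
    rw [hb] at this
    simpa [gramMatrix] using this
  · intro h u v
    rw [hf.apply_mul, h, hf.apply_eq, Matrix.smul_mulVec, dotProduct_smul, smul_eq_mul]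

lemma IsSesqui.det_ne_zero {σ : F →+* F} (hσ : Function.Bijective σ) {f : (ι → F) → (ι → F) → F}
    (hf : IsSesqui σ f) (hnd : IsNondegenerateForm f) : (gramMatrix f).det ≠ 0 := by
  intro h0
  obtain ⟨w, hw0, hw⟩ := Matrix.exists_mulVec_eq_zero_iff.mpr h0
  let v : ι → F := fun i => (RingEquiv.ofBijective σ hσ).symm (w i)
  have hv : σ ∘ v = w := funext fun i => (RingEquiv.ofBijective σ hσ).apply_symm_apply (w i)
  have hv0 : v ≠ 0 := by
    intro h
    apply hw0
    rw [← hv, h]
    funext i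
    simp
  obtain ⟨x, hx⟩ := (hnd v hv0).1
  rw [hf.apply_eq, hv, hw, dotProduct_zero] at hx
  exact hx rfl

/-- A group normalising an absolutely irreducible isometry group consists of similarities. -/
theorem le_similarityGroup [Finite F] {σ : F →+* F} (hσ : Function.Bijective σ)
    {f : (ι → F) → (ι → F) → F} (hf : IsSesqui σ f) (hnd : IsNondegenerateForm f)
    {H N : Subgroup (GL ι F)} (hNH : NormalizedBy H N) (habs : ActsAbsolutelyIrreducibly (matrixSet N))
    (hfix : FixesForm (matrixSet N) f) : H ≤ similarityGroup f := by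
  classical
  rcases isEmpty_or_nonempty ι with hι | hι
  · intro g _
    exact ⟨1, fun u v => by rw [Subsingleton.elim u 0, Subsingleton.elim v 0]; simp⟩
  intro g hg
  set G := gramMatrix f with hG
  let σG : GL ι F →* GL ι F := Matrix.GeneralLinearGroup.map σ
  have hσG : ∀ x : GL ι F, ((σG x : GL ι F) : Matrix ι ι F) = (x : Matrix ι ι F).map σ := fun x => rfl
  have hN : ∀ x ∈ N, (x : Matrix ι ι F)ᵀ * G * (σG x : GL ι F).val = G := by
    intro x hx
    rw [hσG]
    simpa using (hf.scale_iff _ 1).mp (fun u v => by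
      rw [one_mul]; exact hfix _ (mem_matrixSet.mpr ⟨x, hx, rfl⟩) u v)
  set G' := (g : Matrix ι ι F)ᵀ * G * (σG g : GL ι F).val with hG'
  have hN' : ∀ x ∈ N, (x : Matrix ι ι F)ᵀ * G' * (σG x : GL ι F).val = G' := by
    intro x hx
    set t := g * x * g⁻¹ with ht
    have e1 : t * g = g * x := by rw [ht]; group
    have e2 : (x : Matrix ι ι F)ᵀ * (g : Matrix ι ι F)ᵀ = (g : Matrix ι ι F)ᵀ * (t : Matrix ι ι F)ᵀ := by
      rw [← Matrix.transpose_mul, ← Matrix.transpose_mul, ← Units.val_mul, ← Units.val_mul, e1]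
    calc (x : Matrix ι ι F)ᵀ * G' * (σG x).val
        = ((x : Matrix ι ι F)ᵀ * (g : Matrix ι ι F)ᵀ) * G * ((σG g).val * (σG x).val) := by
          simp only [hG', mul_assoc]
      _ = (g : Matrix ι ι F)ᵀ * ((t : Matrix ι ι F)ᵀ * G * (σG t).val) * (σG g).val := by
          rw [e2, ← Units.val_mul, ← map_mul, ← e1, map_mul]
          simp only [Units.val_mul, mul_assoc]
      _ = G' := by rw [hN t (hNH g hg x hx)]
  have hGu : IsUnit G.det := isUnit_iff_ne_zero.mpr (hf.det_ne_zero hσ hnd)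
  have hscal : ∀ x ∈ N, (G' * G⁻¹) * (x : Matrix ι ι F)ᵀ = (x : Matrix ι ι F)ᵀ * (G' * G⁻¹) := by
    intro x hx
    have hσx : (σG x).val = G⁻¹ * ((x⁻¹ : GL ι F) : Matrix ι ι F)ᵀ * G := by
      calc (σG x).val = G⁻¹ * (((x⁻¹ : GL ι F) : Matrix ι ι F)ᵀ * ((x : Matrix ι ι F)ᵀ * G * (σG x).val)) := by
            rw [← mul_assoc _ ((x : Matrix ι ι F)ᵀ * G), ← mul_assoc _ ((x : Matrix ι ι F)ᵀ), ← Matrix.transpose_mul,
              ← Units.val_mul, mul_inv_cancel, Units.val_one, Matrix.transpose_one, one_mul, ← mul_assoc,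
              Matrix.nonsing_inv_mul _ hGu, one_mul]
        _ = _ := by rw [hN x hx, mul_assoc]
    have h1 := hN' x hx
    rw [hσx] at h1
    calc (G' * G⁻¹) * (x : Matrix ι ι F)ᵀ
        = ((x : Matrix ι ι F)ᵀ * G' * (G⁻¹ * ((x⁻¹ : GL ι F) : Matrix ι ι F)ᵀ * G)) * G⁻¹ * (x : Matrix ι ι F)ᵀ := by
          rw [h1]
      _ = (x : Matrix ι ι F)ᵀ * (G' * G⁻¹) := by
          simp only [mul_assoc]
          rw [Matrix.mul_nonsing_inv_cancel_left _ _ hGu, ← Matrix.transpose_mul, ← Units.val_mul,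
            mul_inv_cancel, Units.val_one, Matrix.transpose_one, mul_one]
  obtain ⟨c, hc⟩ := habs.2 (G' * G⁻¹)ᵀ (fun s hs => by
    obtain ⟨x, hx, rfl⟩ := mem_matrixSet.mp hs
    have := congrArg Matrix.transpose (hscal x hx)
    simpa only [Matrix.transpose_mul, Matrix.transpose_transpose] using this.symm)
  have hc' : G' = c • G := by
    have h2 : G' * G⁻¹ = c • 1 := by
      simpa using congrArg Matrix.transpose hc
    calc G' = G' * G⁻¹ * G := (Matrix.nonsing_inv_mul_cancel_right _ _ hGu).symm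
      _ = c • G := by rw [h2, Matrix.smul_mul, one_mul]
  have hc0 : c ≠ 0 := by
    intro h0
    have h1 : G'.det ≠ 0 := by
      rw [hG', Matrix.det_mul, Matrix.det_mul, Matrix.det_transpose]
      refine mul_ne_zero (mul_ne_zero ?_ hGu.ne_zero) ?_
      · exact ((Matrix.isUnit_iff_isUnit_det _).mp g.isUnit).ne_zero
      · exact ((Matrix.isUnit_iff_isUnit_det _).mp (σG g).isUnit).ne_zero
    rw [hc', h0, zero_smul, Matrix.det_zero] at h1
    exact h1 rfl
  exact ⟨Units.mk0 c hc0, (hf.scale_iff _ c).mpr hc'⟩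

lemma isSesqui_of_bilinear {f : (ι → F) → (ι → F) → F} (hf : IsBilinearForm f) :
    IsSesqui (RingHom.id F) f :=
  ⟨hf.add_left, hf.smul_left, hf.add_right, fun c v x => by simpa using hf.smul_right c v x⟩

lemma isSesqui_of_unitary {σ : F ≃+* F} {f : (ι → F) → (ι → F) → F} (hf : IsUnitaryForm σ f) :
    IsSesqui (σ : F →+* F) f := by
  refine ⟨hf.add_left, hf.smul_left, fun v x y => ?_, fun c v x => ?_⟩
  · rw [hf.herm v (x + y), hf.add_left, map_add, ← hf.herm, ← hf.herm]
  · rw [hf.herm v (c • x), hf.smul_left, map_mul, ← hf.herm]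
    rfl

/-- An alternating matrix of odd size has determinant zero. -/
lemma det_eq_zero_of_alternating (hodd : Odd (Fintype.card ι)) (G : Matrix ι ι F)
    (hskew : ∀ i j, G i j = - G j i) (hdiag : ∀ i, G i i = 0) : G.det = 0 := by
  classical
  rw [Matrix.det_apply]
  refine Finset.sum_involution (fun σ _ => σ⁻¹) ?_ ?_ (fun _ _ => Finset.mem_univ _) (fun _ _ => inv_inv _)
  · intro σ _
    rw [Equiv.Perm.sign_inv, ← smul_add]
    have h : ∏ i, G (σ⁻¹ i) i = - ∏ i, G (σ i) i := by
      calc ∏ i, G (σ⁻¹ i) i = ∏ i, G (σ⁻¹ (σ i)) (σ i) := (Equiv.prod_comp σ (fun i => G (σ⁻¹ i) i)).symm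
        _ = ∏ i, (-1 : F) * G (σ i) i := Finset.prod_congr rfl fun i _ => by
              rw [show σ⁻¹ (σ i) = i from σ.symm_apply_apply i, hskew i (σ i)]; ring
        _ = _ := by rw [Finset.prod_mul_distrib, Finset.prod_const, Finset.card_univ, hodd.neg_one_pow]; ring
    rw [h]
    simp
  · intro σ _ hne heq
    apply hne
    have hinv : Function.Involutive (σ : ι → ι) := fun x => by
      nth_rw 1 [← heq]; simp
    obtain ⟨i, hi⟩ : ∃ i, σ i = i := by
      by_contra! hno
      have hsq : σ ^ 2 ^ 1 = 1 := by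
        ext x
        simpa [pow_succ] using hinv x
      haveI : Fact (Nat.Prime 2) := ⟨Nat.prime_two⟩
      obtain ⟨a, ha⟩ := Equiv.Perm.exists_fixed_point_of_prime (p := 2) (n := 1)
        (by rw [Nat.two_dvd_ne_zero, Nat.odd_iff.mp hodd]) hsq
      exact hno a ha
    rw [Finset.prod_eq_zero (Finset.mem_univ i) (by rw [hi, hdiag]), smul_zero]

lemma not_symplectic (hodd : Odd (Fintype.card ι)) (f : (ι → F) → (ι → F) → F) : ¬ IsSymplecticForm f := by
  intro hf
  exact (isSesqui_of_bilinear hf.bilinear).det_ne_zero Function.bijective_id hf.nondegenerate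
    (det_eq_zero_of_alternating hodd _ (fun i j => hf.skew _ _) (fun i => hf.alternating _))

lemma quad_two_mul {Q : (ι → F) → F} (hQ : IsNondegenerateQuadraticForm Q) (v : ι → F) :
    QuadraticMap.polar Q v v = 2 * Q v := by
  have h := hQ.smul 2 v
  rw [two_smul] at h
  rw [QuadraticMap.polar, h]
  ring

/-- In characteristic two there is no non-degenerate quadratic form in odd dimension. -/
lemma odd_card_of_quadratic [Fintype F] (hodd : Odd (Fintype.card ι)) {Q : (ι → F) → F}
    (hQ : IsNondegenerateQuadraticForm Q) : Odd (Fintype.card F) := by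
  by_contra heven
  have h2 : (2 : F) = 0 := by
    have : ringChar F = 2 := by
      by_contra h
      exact heven (Nat.odd_iff.mpr (FiniteField.odd_card_of_char_ne_two h))
    exact_mod_cast (ringChar.spec F 2).mpr (by rw [this])
  apply (isSesqui_of_bilinear hQ.polar_bilinear).det_ne_zero Function.bijective_id hQ.nondegenerate
  refine det_eq_zero_of_alternating hodd _ (fun i j => ?_) (fun i => ?_)
  · simp only [gramMatrix]
    rw [QuadraticMap.polar_comm, eq_neg_iff_add_eq_zero, ← two_mul, h2, zero_mul]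
  · simp only [gramMatrix]
    rw [quad_two_mul hQ, h2, zero_mul]

lemma le_quadSimilarityGroup [Fintype F] (hodd : Odd (Fintype.card F)) {Q : (ι → F) → F}
    (hQ : IsNondegenerateQuadraticForm Q) {H N : Subgroup (GL ι F)} (hNH : NormalizedBy H N)
    (habs : ActsAbsolutelyIrreducibly (matrixSet N)) (hfix : FixesQuadForm (matrixSet N) Q) :
    H ≤ quadSimilarityGroup Q := by
  have h2 : (2 : F) ≠ 0 := by
    have := FiniteField.even_card_iff_char_two (F := F)
    intro h
    have hc : ringChar F = 2 :=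
      (Nat.prime_dvd_prime_iff_eq (CharP.char_prime_of_ne_zero F (CharP.ringChar_ne_zero_of_finite F)) Nat.prime_two).mp
        ((ringChar.spec F 2).mp (by exact_mod_cast h))
    rw [Nat.odd_iff] at hodd
    have := this.mp hc
    omega
  have hfix' : FixesForm (matrixSet N) (QuadraticMap.polar Q) := by
    intro s hs u v
    simp only [QuadraticMap.polar, ← Matrix.mulVec_add, hfix s hs]
  refine fun g hg => ?_
  obtain ⟨c, hc⟩ := le_similarityGroup Function.bijective_id (isSesqui_of_bilinear hQ.polar_bilinear)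
    hQ.nondegenerate hNH habs hfix' hg
  refine ⟨c, fun v => ?_⟩
  have := hc v v
  rw [quad_two_mul hQ, quad_two_mul hQ] at this
  exact mul_left_cancel₀ h2 (by linear_combination this)

end forms

end Cfsg.Agent.Lib.PrimeDim.Fields
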