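import Cfsg.Agent.Lib.PrimeDim.SU3Model
import Cfsg.Agent.Lib.PrimeDim.SU3Data

set_option autoImplicit false

/-!
Checks of the certificates for `SU(3, 3)` and `SU(3, 5)`.
-/

namespace Cfsg.Agent.Lib.PrimeDim.SU3Check

open Cfsg.Agent.Lib.PrimeDim.SU3Model Cfsg.Agent.Lib.PrimeDim.SU3Data

variable {p : ℕ} [NeZero p]

/-- Decoding of an element. -/
def el (e : ℕ) : K2 p := (Fin.ofNat p (e / p), Fin.ofNat p (e % p))

/-- Decoding of a vector. -/
def vec (v : ℕ) : Fin 3 → K2 p := fun i => el (v / (p * p) ^ i.val % (p * p))

/-- Decoding of a matrix. -/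
def mat (A : ℕ) : M3 p := fun i j => el (A / (p * p) ^ (3 * i.val + j.val) % (p * p))

/-- Decoding of an image table. -/
def wit (w : List ℕ) : List (ℕ × K2 p) := w.map fun e => (e / (p * p), el (e % (p * p)))

/-- A scalar matrix. -/
def smat (c : K2 p) : M3 p := fun i j => if i = j then c else zeroK

/-- A matrix over the prime field. -/
def rmat (M : Fin 3 → Fin 3 → Fin p) : M3 p := fun i j => (M i j, 0)

/-- A special unitary matrix. -/
def okSU (d : Fin p) (A : M3 p) : Bool := mm d (star3 A) A == one3 && det3 d A == oneK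

/-- Unitary generators stabilising a list of lines, with a list of their products. -/
def okGroup (d : Fin p) (pts : List (Fin 3 → K2 p)) (gens : List (M3 p)) (w : List (ℕ × K2 p))
    (tab : List (M3 p)) (par : List ℕ) : Bool :=
  ((List.range gens.length).all fun i =>
    mm d (star3 (gens.getD i one3)) (gens.getD i one3) == one3 &&
      okWit d pts (gens.getD i one3) ((w.drop (i * pts.length)).take pts.length)) &&
  okTable d gens tab (par.map fun e => (e / gens.length, e % gens.length))

/-- The monomial matrix with the given shape and coefficients. -/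
def monMat (π : Fin 3 → Fin 3) (c : Fin 3 → K2 p) : M3 p := fun i j => if i = π j then c j else zeroK

/-- All maps from a three element set. -/
def triples {α : Type} (l : List α) : List (Fin 3 → α) :=
  l.flatMap fun a => l.flatMap fun b => l.map fun c => ![a, b, c]

/-- Powers of an element. -/
def pwK (d : Fin p) (w : K2 p) : ℕ → K2 p
  | 0 => oneK
  | k + 1 => mulK d (pwK d w k) w

/-- The list contains the determinant-one monomial matrices with coefficients powers of `w`. -/
def okMon (d : Fin p) (w : K2 p) (m : ℕ) (tab : List (M3 p)) : Bool :=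
  pwK d w m == oneK && ((List.range m).all fun k => k == 0 || pwK d w k != oneK) &&
  ((triples (List.finRange 3)).all fun π => π 0 == π 1 || π 0 == π 2 || π 1 == π 2 ||
    (triples (List.range m)).all fun a =>
      det3 d (monMat π fun i => pwK d w (a i)) != oneK || tab.contains (monMat π fun i => pwK d w (a i)))
/-- The vectors over the prime field of length one for the standard form. -/
def unitVecs : List (Fin 3 → Fin p) :=
  (triples (List.finRange p)).filter fun a => a 0 * a 0 + a 1 * a 1 + a 2 * a 2 == Fin.ofNat p 1

/-- The list contains the determinant-one orthogonal matrices over the prime field. -/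
def okOrth (d : Fin p) (tab : List (M3 p)) : Bool :=
  let U := unitVecs (p := p)
  let h := fun a b : Fin 3 → Fin p => a 0 * b 0 + a 1 * b 1 + a 2 * b 2
  U.all fun a => U.all fun b => h a b != 0 || U.all fun c => h a c != 0 || h b c != 0 ||
    det3 d (rmat fun i => ![a i, b i, c i]) != oneK || tab.contains (rmat fun i => ![a i, b i, c i])

/-- A matrix with a column that is not a multiple of a standard vector. -/
def notMon (A : M3 p) : Bool :=
  (List.finRange 3).any fun j => (List.finRange 3).any fun i => (List.finRange 3).any fun k =>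
    i != k && A i j != zeroK && A k j != zeroK

/-- A matrix that is not a scalar multiple of a rational one. -/
def notRat (d : Fin p) (A : M3 p) : Bool :=
  (List.finRange 3).any fun i => (List.finRange 3).any fun j => (List.finRange 3).any fun k =>
    (List.finRange 3).any fun l => (mulK d (A i j) (conjK (A k l))).2 != 0

/-- For all diagonal forms a change of basis making the form scalar. -/
def okDiag (d : Fin p) (ms : List ℕ) : Bool :=
  (triples (List.finRange p)).all fun a => a 0 == 0 || a 1 == 0 || a 2 == 0 ||
    let e := ms.getD (((a 0).val - 1) * (p - 1) ^ 2 + ((a 1).val - 1) * (p - 1) + ((a 2).val - 1)) 0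
    let l : Fin p := Fin.ofNat p (e / p ^ 9)
    let M : M3 p := rmat fun i j => Fin.ofNat p (e / p ^ (3 * i.val + j.val) % p)
    l != 0 && det3 d M != zeroK &&
      mm d (mm d (fun i j => M j i) (fun i j => if i = j then (a i, 0) else zeroK)) M == smat (l, 0)

/-- The normaliser of the group of order 27, up to scalars. -/
def okPairs (d : Fin p) (RL : List (M3 p)) (X C K : M3 p) (om tab : List (M3 p)) (w : List ℕ) : Bool :=
  (List.range RL.length).all fun i => (List.range RL.length).all fun j =>
    let A := RL.getD i one3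
    let B := RL.getD j one3
    mm d B A != mm d K (mm d A B) ||
      let e := w.getD (i * RL.length + j) 0
      let W := mm d (om.getD ((e - 1) / tab.length) one3) (tab.getD ((e - 1) % tab.length) one3)
      decide (0 < e) && decide ((e - 1) / tab.length < om.length) &&
        mm d W X == mm d A W && mm d W C == mm d B W

/-- The field element of order 6 in `SU(3, 5)`. -/
def w6 : K2 5 := mat (a7Gens.getD 0 0) 0 0

/-- A cube root of unity. -/
def eta : K2 5 := mat rX 1 1

theorem l27_pts : okWit (2 : Fin 3) (l27Pts.map vec) (mat l27X) (wit l27XWit) = true ∧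
    okWit (2 : Fin 3) (l27Pts.map vec) (mat l27Y) (wit l27YWit) = true ∧
    okWit (2 : Fin 3) (l27Pts.map vec) (mat l27Z) (wit l27ZWit) = true ∧
    moves (2 : Fin 3) (l27Pts.map vec) (mat l27P) = true := by decide +kernel

theorem l27_SU : okSU (2 : Fin 3) (mat l27X) = true ∧ okSU (2 : Fin 3) (mat l27Y) = true ∧
    okSU (2 : Fin 3) (mat l27Z) = true ∧ okSU (2 : Fin 3) (mat l27P) = true := by decide +kernel

theorem a7_pts : okWit (2 : Fin 5) (a7Pts.map vec) (mat a7X) (wit a7XWit) = true ∧
    okWit (2 : Fin 5) (a7Pts.map vec) (mat a7Y) (wit a7YWit) = true ∧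
    okWit (2 : Fin 5) (a7Pts.map vec) (mat a7Z) (wit a7ZWit) = true ∧
    moves (2 : Fin 5) (a7Pts.map vec) (mat a7P) = true := by decide +kernel

theorem a7_SU : okSU (2 : Fin 5) (mat a7X) = true ∧ okSU (2 : Fin 5) (mat a7Y) = true ∧
    okSU (2 : Fin 5) (mat a7Z) = true ∧ okSU (2 : Fin 5) (mat a7P) = true := by decide +kernel

theorem a7_group : okGroup (2 : Fin 5) (a7Pts.map vec) (a7Gens.map mat) (wit a7GensWit) (a7Tab.map mat) a7Par = true := by
  decide +kernel

theorem a7_mon : okMon (2 : Fin 5) w6 6 (a7Tab.map mat) = true ∧ notMon (mat (p := 5) a7Z) = true := by decide +kernel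

theorem ax_group : okGroup (2 : Fin 3) (axPts.map vec) (axGens.map mat) (wit axGensWit) (axTab.map mat) axPar = true := by
  decide +kernel

theorem ax_pts : okWit (2 : Fin 3) (axPts.map vec) (mat axZ) (wit axZWit) = true ∧
    moves (2 : Fin 3) (axPts.map vec) (mat axP) = true ∧ okSU (2 : Fin 3) (mat axZ) = true ∧
    okSU (2 : Fin 3) (mat axP) = true ∧ notRat (2 : Fin 3) (mat axZ) = true := by decide +kernel

theorem ax_orth : okOrth (2 : Fin 3) (axTab.map mat) = true ∧ okDiag (2 : Fin 3) diag3 = true := by decide +kernel

theorem so_group : okGroup (2 : Fin 5) (soPts.map vec) (soGens.map mat) (wit soGensWit) (soTab.map mat) soPar = true := by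
  decide +kernel

theorem so_pts : okWit (2 : Fin 5) (soPts.map vec) (mat soZ) (wit soZWit) = true ∧
    moves (2 : Fin 5) (soPts.map vec) (mat soP) = true ∧ okSU (2 : Fin 5) (mat soZ) = true ∧
    okSU (2 : Fin 5) (mat soP) = true ∧ notRat (2 : Fin 5) (mat soZ) = true := by decide +kernel

theorem so_orth : okOrth (2 : Fin 5) (soTab.map mat) = true ∧ okDiag (2 : Fin 5) diag5 = true := by decide +kernel

theorem m10_group : okGroup (2 : Fin 5) (m10Pts.map vec) (m10Gens.map mat) (wit m10GensWit) (m10Tab.map mat) m10Par = true := by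
  decide +kernel

theorem m10_pts : okWit (2 : Fin 5) (m10Pts.map vec) (mat m10Z) (wit m10ZWit) = true ∧
    moves (2 : Fin 5) (m10Pts.map vec) (mat m10P) = true ∧ okSU (2 : Fin 5) (mat m10Z) = true ∧
    okSU (2 : Fin 5) (mat m10P) = true := by decide +kernel

theorem r_mon : okMon (2 : Fin 5) eta 3 (rList.map mat) = true := by decide +kernel

theorem r_pairs : okPairs (2 : Fin 5) (rList.map mat) (mat rX) (mat rC) (mat rK) (rOm.map mat) (m10Tab.map mat) rWit
    = true := by decide +kernel

theorem r_facts : (rList.map mat).contains (mm (2 : Fin 5) (mm 2 (mat m10Z) (mat rX)) (star3 (mat m10Z))) = false ∧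
    mm (2 : Fin 5) (mat rC) (mat rX) = mm 2 (mat rK) (mm 2 (mat rX) (mat rC)) ∧
    mat rK = smat (mat (p := 5) rK 0 0) ∧ mat rX = monMat id ![oneK, eta, mulK 2 eta eta] ∧
    mat rC = monMat ![1, 2, 0] (fun _ => oneK (p := 5)) ∧
    rOm.map mat = [one3, monMat id ![oneK, oneK, eta], monMat id ![oneK, oneK, mulK 2 eta eta]] := by decide +kernel

end Cfsg.Agent.Lib.PrimeDim.SU3Check
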