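import Cfsg.Agent.Lib.PrimeDim.SU3Field
import Cfsg.Agent.Lib.PrimeDim.SU3Check

set_option autoImplicit false
set_option linter.style.haveILetI false
set_option linter.unusedSectionVars false

/-!
The geometric subgroups of `SU(3, 3)` and `SU(3, 5)` that are not maximal.
-/

namespace Cfsg.Agent.Lib.PrimeDim.SU3Cases

open Cfsg.Geo Cfsg.Agent.Lib.PrimeDim.Basic Cfsg.Agent.Lib.PrimeDim.Fields Cfsg.Agent.Lib.PrimeDim.Unitary
open Cfsg.Agent.Lib.PrimeDim.UnitaryBase Cfsg.Agent.Lib.Unitary Cfsg.Agent.Lib.PrimeDim.SU3Model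
open Cfsg.Agent.Lib.PrimeDim.SU3Check Cfsg.Agent.Lib.PrimeDim.SU3Data
open scoped Matrix MatrixGroups

instance factThree : Fact (Nat.Prime 3) := ⟨by norm_num⟩

instance factFive : Fact (Nat.Prime 5) := ⟨by norm_num⟩

variable {p : ℕ} [Fact p.Prime] {F : Type*} [Field F] [Fintype F] [CharP F p] {d : Fin p}

lemma triple_mem {α : Type} {l : List α} (f : Fin 3 → α) (h : ∀ i, f i ∈ l) : f ∈ triples l := by
  simp only [triples, List.mem_flatMap, List.mem_map]
  exact ⟨f 0, h 0, f 1, h 1, f 2, h 2, by funext i; fin_cases i <;> rfl⟩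

lemma okSU_iff {A : M3 p} (h : okSU d A = true) : mm d (star3 A) A = one3 ∧ det3 d A = oneK := by
  simpa [okSU] using h

section common

variable (R : Real F p d)

lemma toMat_rmat (M : Fin 3 → Fin 3 → Fin p) :
    toMat R.t (rmat M) = Matrix.of fun i j => ((M i j).val : F) := by
  ext i j
  simp [toMat, rmat, phi]

lemma toMat_smat (c : K2 p) : toMat R.t (smat c) = phi R.t c • (1 : Matrix (Fin 3) (Fin 3) F) := by
  ext i j
  by_cases h : i = j <;> simp [toMat, smat, phi_zero, h]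

lemma toMat_monMat (π : Fin 3 → Fin 3) (c : Fin 3 → K2 p) :
    toMat R.t (monMat π c) = Matrix.of fun i j => if i = π j then phi R.t (c j) else 0 := by
  ext i j
  by_cases h : i = π j <;> simp [toMat, monMat, phi_zero, h]

lemma phi_pwK (w : K2 p) : ∀ k, phi R.t (pwK d w k) = phi R.t w ^ k
  | 0 => by rw [pwK, phi_one, pow_zero]
  | k + 1 => by rw [pwK, phi_mul R.sq, phi_pwK w k, pow_succ]

lemma phi_ne_zero {x : K2 p} (h : x ≠ zeroK) : phi R.t x ≠ 0 := fun h0 => h (R.inj (h0.trans phi_zero.symm))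

lemma group_mem (hF : Fintype.card F = p ^ 2) {pts : List (Fin 3 → K2 p)} {gens : List (M3 p)}
    {w : List (ℕ × K2 p)} {tab : List (M3 p)} {par : List ℕ} (h : okGroup d pts gens w tab par = true) :
    ∀ A ∈ tab, InGroup R (overgroup R pts) A := by
  simp only [okGroup, Bool.and_eq_true, List.all_eq_true, List.mem_range, beq_iff_eq] at h
  refine table_mem R (fun A hA => ?_) h.2
  obtain ⟨i, hi, rfl⟩ := List.mem_iff_getElem.mp hA
  obtain ⟨h1, h2⟩ := h.1 i hi
  rw [← List.getD_eq_getElem (d := one3)]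
  obtain ⟨g, -, hg, -⟩ := exists_GU R hF _ h1
  exact ⟨g, mem_overgroup R hg h2, hg⟩

lemma gl_mem {pts : List (Fin 3 → K2 p)} {A : M3 p} (hA : InGroup R (overgroup R pts) A) {g : GL (Fin 3) F}
    (hg : g.val = toMat R.t A) : g ∈ overgroup R pts := by
  obtain ⟨g', hg', hv⟩ := hA
  obtain rfl : g = g' := Units.ext (hg.trans hv.symm)
  exact hg'

lemma mon_mem {w : K2 p} {m : ℕ} {tab : List (M3 p)} (hm : 0 < m) (hok : okMon d w m tab = true)
    {M : Matrix (Fin 3) (Fin 3) F} (π : Equiv.Perm (Fin 3)) (c : Fin 3 → F) (hc : ∀ j, c j ^ m = 1)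
    (hM : ∀ i j, M i j = if i = π j then c j else 0) (hdet : M.det = 1) : ∃ A ∈ tab, toMat R.t A = M := by
  haveI : NeZero m := ⟨by omega⟩
  simp only [okMon, Bool.and_eq_true, beq_iff_eq, List.all_eq_true, Bool.or_eq_true, bne_iff_ne,
    List.mem_range] at hok
  obtain ⟨⟨h1, h2⟩, h3⟩ := hok
  have hprim : IsPrimitiveRoot (phi R.t w) m := by
    rw [IsPrimitiveRoot.iff hm]
    refine ⟨by rw [← phi_pwK R, h1, phi_one], fun l hl0 hlm hl => ?_⟩
    rw [← phi_pwK R, ← phi_one (p := p) (t := R.t)] at hl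
    exact (h2 l hlm).elim (fun h => by omega) (fun h => h (R.inj hl))
  choose a ha hca using fun j => hprim.eq_pow_of_pow_eq_one (hc j)
  have h4 : (toMat R.t (monMat π fun j => pwK d w (a j))) = M := by
    rw [toMat_monMat]
    ext i j
    rw [hM, Matrix.of_apply, phi_pwK R, hca]
  rcases h3 π (triple_mem _ fun i => List.mem_finRange _) with h5 | h5
  · exfalso
    rcases h5 with (h5 | h5) | h5 <;> exact absurd (π.injective h5) (by decide)
  · rcases h5 a (triple_mem _ fun i => List.mem_range.mpr (ha i)) with h6 | h6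
    · exfalso
      apply h6
      apply R.inj
      rw [← det_toMat R.sq, h4, hdet, phi_one]
    · exact ⟨_, List.contains_iff_mem.mp h6, h4⟩

/-- A vector basis with constant norms gives a unitary matrix. -/
lemma exists_scaled (hF : Fintype.card F = p ^ 2) {P : Matrix (Fin 3) (Fin 3) F} {l : Fin 3 → F}
    (hl : ∀ i, l i ≠ 0) (hP : Pᵀ * P.map (conj hF) = Matrix.diagonal l) :
    ∃ c ∈ GU 3 F p, ∃ ν : Fin 3 → F, (∀ i, ν i ≠ 0) ∧ c.val = P * Matrix.diagonal ν ∧
      ∀ i j, l i = l j → ν i = ν j := by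
  classical
  have hfix : ∀ i, l i ^ p = l i := by
    intro i
    have h := congrArg (fun Z : Matrix (Fin 3) (Fin 3) F => Zᵀ.map (conj hF)) hP
    simp only [Matrix.transpose_mul, Matrix.map_mul, Matrix.transpose_transpose, Matrix.diagonal_transpose,
      Matrix.diagonal_map (map_zero _)] at h
    rw [← Matrix.transpose_map, map_conj_conj hF] at h
    have h' := congrFun (congrFun (hP.symm.trans h) i) i
    simp only [Matrix.diagonal_apply_eq, conj_apply] at h'
    exact h'.symm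
  have hex : ∀ a : F, ∃ ν : F, a ^ p = a → a ≠ 0 → ν * ν ^ p * a = 1 := by
    intro a
    by_cases h : a ^ p = a ∧ a ≠ 0
    · obtain ⟨ν, hν⟩ := norm_surj hF (y := a⁻¹) (by rw [inv_pow, h.1])
      exact ⟨ν, fun _ h0 => by rw [hν, inv_mul_cancel₀ h0]⟩
    · exact ⟨0, fun h1 h2 => absurd ⟨h1, h2⟩ h⟩
  choose f hf using hex
  set ν := fun i => f (l i) with hν
  have hν0 : ∀ i, ν i ≠ 0 := fun i h0 => by
    have := hf (l i) (hfix i) (hl i)
    rw [show f (l i) = 0 from h0, zero_mul, zero_mul] at this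
    exact zero_ne_one this
  set M := P * Matrix.diagonal ν with hMdef
  have hgram : Mᵀ * M.map (conj hF) = 1 := by
    rw [hMdef, Matrix.transpose_mul, Matrix.diagonal_transpose, Matrix.map_mul, Matrix.diagonal_map (map_zero _),
      mul_assoc, ← mul_assoc Pᵀ, hP, Matrix.diagonal_mul_diagonal, Matrix.diagonal_mul_diagonal, ← Matrix.diagonal_one]
    congr 1
    funext i
    rw [conj_apply, ← hf (l i) (hfix i) (hl i)]
    ring
  have hdet : M.det ≠ 0 := by
    intro h0
    have h := congrArg Matrix.det hgram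
    rw [Matrix.det_mul, Matrix.det_transpose, h0, zero_mul, Matrix.det_one] at h
    exact zero_ne_one h
  refine ⟨Matrix.GeneralLinearGroup.mkOfDetNeZero M hdet, fun u v => ?_, ν, hν0, rfl, fun i j h => by simp [hν, h]⟩
  have := ((isSesqui_herm (n := 3) hF).scale_iff M 1).mpr (by rw [gram_herm hF, mul_one, hgram, one_smul]) u v
  rwa [one_mul] at this

end common

/-- Frames are not maximal for `q = 5`. -/
theorem frame_five {F : Type*} [Field F] [Fintype F] (hF : Fintype.card F = 5 ^ 2) {H : Subgroup (GL (Fin 3) F)}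
    (hH : IsMaximalIn (SUgl 3 F 5) H) {D : Fin 3 → Submodule F (Fin 3 → F)}
    (hD : IsNondegenerateMDecomposition (hermForm 3 F 5) 1 D) (hle : H ≤ decompositionStabilizer D) : False := by
  classical
  haveI := charP_of_card (p := 5) hF
  obtain ⟨R⟩ := exists_real (p := 5) hF 2 (by decide) (by decide)
  obtain ⟨vs, hvs, hv0, -, hline, -⟩ := exists_frame_basis hD.decomp
  set P : Matrix (Fin 3) (Fin 3) F := Matrix.of fun a i => vs i a with hP
  have hgram : Pᵀ * P.map (conj hF) = Matrix.diagonal fun i => hermForm 3 F 5 (vs i) (vs i) := by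
    ext i j
    have h1 : (Pᵀ * P.map (conj hF)) i j = hermForm 3 F 5 (vs i) (vs j) := rfl
    rw [h1, Matrix.diagonal_apply]
    split
    · next h => rw [h]
    · next h => exact hD.orthogonal i j h _ (hvs i) _ (hvs j)
  have hl : ∀ i, hermForm 3 F 5 (vs i) (vs i) ≠ 0 := by
    intro i h0
    obtain ⟨⟨x, hx, hne⟩, -⟩ := hD.nondegenerate i _ (hvs i) (hv0 i)
    obtain ⟨a, rfl⟩ := hline i x hx
    rw [herm_smul_left, h0, mul_zero] at hne
    exact hne rfl
  obtain ⟨c, hcU, ν, hν0, hc, -⟩ := exists_scaled (p := 5) hF hl hgram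
  have hcol : ∀ i, c.val *ᵥ Pi.single i 1 = ν i • vs i := fun i => by
    funext a
    simp [hc, hP, Matrix.mul_diagonal, mul_comm]
  have key : ∀ h ∈ H, ∃ A ∈ (a7Tab.map mat : List (M3 5)), toMat R.t A = (c⁻¹ * h * c : GL (Fin 3) F).val := by
    intro h hh
    obtain ⟨hU, hS⟩ := Subgroup.mem_inf.mp (hH.1.le hh)
    have hgU : c⁻¹ * h * c ∈ GU 3 F 5 := mul_mem (mul_mem (inv_mem hcU) hU) hcU
    have hdet : (c⁻¹ * h * c : GL (Fin 3) F).val.det = 1 := by
      have : c⁻¹ * h * c ∈ specialLinear (Fin 3) F := by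
        have h2 := (MonoidHom.normal_ker _).conj_mem h hS c⁻¹
        rwa [inv_inv] at h2
      exact Symplectic.mem_specialLinear.mp this
    obtain ⟨π, hπ⟩ := hle hh
    have hex : ∀ j, ∃ a : F, (c⁻¹ * h * c : GL (Fin 3) F).val *ᵥ Pi.single j 1 = a • Pi.single (π j) 1 := by
      intro j
      obtain ⟨b, hb⟩ := hline (π j) (h.val *ᵥ vs j) (hπ j ▸ ⟨vs j, hvs j, by simp⟩)
      refine ⟨ν j * b * (ν (π j))⁻¹, ?_⟩
      have h1 : vs (π j) = (ν (π j))⁻¹ • c.val *ᵥ Pi.single (π j) 1 := by rw [hcol, inv_smul_smul₀ (hν0 _)]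
      rw [Units.val_mul, Units.val_mul, ← Matrix.mulVec_mulVec, hcol, Matrix.mulVec_smul, ← Matrix.mulVec_mulVec, hb,
        Matrix.mulVec_smul, h1, Matrix.mulVec_smul, inv_mulVec_cancel, smul_smul, smul_smul]
    choose a ha using hex
    refine mon_mem R (by norm_num) a7_mon.1 π a (fun j => ?_) (fun i j => ?_) hdet
    · have h1 := mem_GU_iff.mp hgU (Pi.single j 1) (Pi.single j 1)
      rw [ha, herm_smul_left, herm_smul_right, herm_std hF, herm_std hF, if_pos rfl, if_pos rfl, mul_one] at h1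
      rw [pow_succ']
      exact h1
    · have h1 := congrFun (ha j) i
      rw [Matrix.mulVec_single_one] at h1
      simpa [Pi.single_apply] using h1
  obtain ⟨gp, hgp, hgpv, -⟩ := exists_SU R hF (mat a7P) (okSU_iff a7_SU.2.2.2).1 (okSU_iff a7_SU.2.2.2).2
  obtain ⟨gz, hgz, hgzv, -⟩ := exists_SU R hF (mat a7Z) (okSU_iff a7_SU.2.2.1).1 (okSU_iff a7_SU.2.2.1).2
  refine SU3Model.not_maximal R hH hcU (fun h hh => ?_) hgp (not_mem_overgroup R hF hgpv a7_pts.2.2.2) hgz
    (mem_overgroup R hgzv a7_pts.2.2.1) ?_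
  · obtain ⟨A, hA, hAv⟩ := key h hh
    exact gl_mem R (group_mem R hF a7_group A hA) hAv.symm
  · intro hzH
    obtain ⟨hU, hS⟩ := Subgroup.mem_inf.mp (hH.1.le hzH)
    obtain ⟨π, hπ⟩ := hle hzH
    have hz : ∀ i j, i ≠ π j → gz.val i j = 0 := by
      intro i j hij
      obtain ⟨b, hb⟩ := hline (π j) ((c * gz * c⁻¹ : GL (Fin 3) F).val *ᵥ vs j) (hπ j ▸ ⟨vs j, hvs j, by simp [mul_assoc]⟩)
      have h1 : gz.val *ᵥ Pi.single j 1 = (ν j * b * (ν (π j))⁻¹) • Pi.single (π j) 1 := by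
        have h2 : c.val *ᵥ (gz.val *ᵥ Pi.single j 1) = (c * gz * c⁻¹ : GL (Fin 3) F).val *ᵥ (ν j • vs j) := by
          rw [← hcol, Units.val_mul, Units.val_mul, ← Matrix.mulVec_mulVec, inv_mulVec_cancel, Matrix.mulVec_mulVec]
        rw [Matrix.mulVec_smul, hb] at h2
        have h3 := congrArg (fun v => (c⁻¹ : GL (Fin 3) F).val *ᵥ v) h2
        simp only [inv_mulVec_cancel] at h3
        rw [h3, show vs (π j) = (ν (π j))⁻¹ • c.val *ᵥ Pi.single (π j) 1 by rw [hcol, inv_smul_smul₀ (hν0 _)],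
          Matrix.mulVec_smul, Matrix.mulVec_smul, Matrix.mulVec_smul, inv_mulVec_cancel, smul_smul, smul_smul]
      have h4 := congrFun h1 i
      rw [Matrix.mulVec_single_one] at h4
      simpa [Pi.single_apply, hij] using h4
    have hnm := a7_mon.2
    simp only [notMon, List.any_eq_true, List.mem_finRange, true_and, Bool.and_eq_true, bne_iff_ne] at hnm
    obtain ⟨j, i, k, ⟨hik, hi⟩, hk⟩ := hnm
    have e1 : gz.val i j ≠ 0 := by rw [hgzv]; exact phi_ne_zero R hi
    have e2 : gz.val k j ≠ 0 := by rw [hgzv]; exact phi_ne_zero R hk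
    exact hik ((not_not.mp fun h => e1 (hz i j h)).trans (not_not.mp fun h => e2 (hz k j h)).symm)

/-- Cubic field normalisers are not maximal for `q = 3`. -/
theorem field_three {F : Type*} [Field F] [Fintype F] (hF : Fintype.card F = 3 ^ 2) {H N : Subgroup (GL (Fin 3) F)}
    (hH : IsMaximalIn (SUgl 3 F 3) H) (hNG : N ≤ SUgl 3 F 3) (hNn : NormalizedBy H N)
    (hNs : ¬ N ≤ scalars (Fin 3) F) (hK : IsFieldSubalgebra 3 (commutant N)) : False := by
  haveI := charP_of_card (p := 3) hF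
  obtain ⟨R⟩ := exists_real (p := 3) hF 2 (by decide) (by decide)
  exact SU3Field.not_maximal hF (Or.inl rfl) R hH hNG hNn hNs hK (X := mat l27X) (Y := mat l27Y) (Z := mat l27Z)
    (P := mat l27P)
    ⟨(okSU_iff l27_SU.1).1, (okSU_iff l27_SU.1).2, by decide +kernel, by decide +kernel⟩ (okSU_iff l27_SU.2.1)
    (okSU_iff l27_SU.2.2.1) (okSU_iff l27_SU.2.2.2) (by decide +kernel) (by decide +kernel) (by decide +kernel)
    l27_pts.1 l27_pts.2.1 l27_pts.2.2.1 l27_pts.2.2.2

/-- Cubic field normalisers are not maximal for `q = 5`. -/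
theorem field_five {F : Type*} [Field F] [Fintype F] (hF : Fintype.card F = 5 ^ 2) {H N : Subgroup (GL (Fin 3) F)}
    (hH : IsMaximalIn (SUgl 3 F 5) H) (hNG : N ≤ SUgl 3 F 5) (hNn : NormalizedBy H N)
    (hNs : ¬ N ≤ scalars (Fin 3) F) (hK : IsFieldSubalgebra 3 (commutant N)) : False := by
  haveI := charP_of_card (p := 5) hF
  obtain ⟨R⟩ := exists_real (p := 5) hF 2 (by decide) (by decide)
  exact SU3Field.not_maximal hF (Or.inr rfl) R hH hNG hNn hNs hK (X := mat a7X) (Y := mat a7Y) (Z := mat a7Z)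
    (P := mat a7P)
    ⟨(okSU_iff a7_SU.1).1, (okSU_iff a7_SU.1).2, by decide +kernel, by decide +kernel⟩ (okSU_iff a7_SU.2.1)
    (okSU_iff a7_SU.2.2.1) (okSU_iff a7_SU.2.2.2) (by decide +kernel) (by decide +kernel) (by decide +kernel)
    a7_pts.1 a7_pts.2.1 a7_pts.2.2.1 a7_pts.2.2.2

end Cfsg.Agent.Lib.PrimeDim.SU3Cases
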