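import Cfsg.Agent.Lib.PrimeDim.SU3Model

set_option autoImplicit false
set_option linter.style.haveILetI false
set_option linter.unusedSectionVars false

/-!
Cubic field subalgebras in `SU(3, 3)` and `SU(3, 5)`: their normalisers are not maximal, given a certificate.
-/

namespace Cfsg.Agent.Lib.PrimeDim.SU3Field

open Cfsg.Geo Cfsg.Agent.Lib.PrimeDim.Basic Cfsg.Agent.Lib.PrimeDim.Fields Cfsg.Agent.Lib.PrimeDim.Unitary
open Cfsg.Agent.Lib.PrimeDim.UnitaryBase Cfsg.Agent.Lib.Unitary Cfsg.Agent.Lib.PrimeDim.SU3Model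
open scoped Matrix MatrixGroups

section general

variable {n : ℕ} {F : Type*} [Field F]

lemma isField_of {r : ℕ} [NeZero r] {K : Subalgebra F (Matrix (Fin n) (Fin n) F)} (hK : IsFieldSubalgebra r K) :
    IsField K := by
  refine ⟨?_, fun a b => Subtype.ext (hK.comm _ a.2 _ b.2), fun {a} ha => ?_⟩
  · by_contra hc
    push Not at hc
    haveI : Subsingleton K := ⟨hc⟩
    have h := hK.finrank_eq
    rw [Module.finrank_zero_of_subsingleton] at h
    exact NeZero.ne r h.symm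
  · obtain ⟨y, hy, hay⟩ := hK.inv a.1 a.2 (fun h => ha (Subtype.ext h))
    exact ⟨⟨y, hy⟩, Subtype.ext hay⟩

/-- A group whose commutant is a field of full degree lies in that field. -/
lemma mem_of_commutant_field [NeZero n] {N : Subgroup (GL (Fin n) F)} (hK : IsFieldSubalgebra n (commutant N))
    {x : GL (Fin n) F} (hx : x ∈ N) : x.val ∈ commutant N := by
  set K := commutant N with hKdef
  let i₀ : Fin n := ⟨0, NeZero.pos n⟩
  let e₀ : Fin n → F := Pi.single i₀ 1
  let L : K →ₗ[F] (Fin n → F) :=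
    { toFun := fun k => k.1 *ᵥ e₀
      map_add' := fun a b => by simp [Matrix.add_mulVec]
      map_smul' := fun r a => by simp [Matrix.smul_mulVec] }
  have hinj : Function.Injective L := by
    rw [← LinearMap.ker_eq_bot, eq_bot_iff]
    intro k hk
    rw [Submodule.mem_bot]
    by_contra hne
    obtain ⟨y, -, hy⟩ := hK.inv k.1 k.2 (fun h => hne (Subtype.ext h))
    have h1 : e₀ = 0 := by
      rw [← Matrix.one_mulVec e₀, ← mul_eq_one_comm.mp hy, ← Matrix.mulVec_mulVec,
        show k.1 *ᵥ e₀ = 0 from hk, Matrix.mulVec_zero]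
    simpa [e₀] using congrFun h1 i₀
  have hsurj : Function.Surjective L :=
    (LinearMap.injective_iff_surjective_of_finrank_eq_finrank (by rw [hK.finrank_eq, Module.finrank_fin_fun])).mp hinj
  obtain ⟨k₀, hk₀⟩ := hsurj (x.val *ᵥ e₀)
  have : x.val = k₀.1 := by
    refine Matrix.ext_of_mulVec_single fun i => ?_
    obtain ⟨k, hk⟩ := hsurj (Pi.single i 1)
    have hk' : k.1 *ᵥ e₀ = Pi.single i 1 := hk
    have hk₀' : k₀.1 *ᵥ e₀ = x.val *ᵥ e₀ := hk₀
    rw [← hk', Matrix.mulVec_mulVec, mem_commutant.mp k.2 x hx, ← Matrix.mulVec_mulVec, ← hk₀',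
      Matrix.mulVec_mulVec, hK.comm _ k.2 _ k₀.2, ← Matrix.mulVec_mulVec]
  exact this ▸ k₀.2

/-- An element of a field subalgebra whose `m`-th power is one is a scalar, if `F` has the `m`-th roots of unity. -/
lemma scalar_of_pow [Fintype F] {r : ℕ} [NeZero r] {K : Subalgebra F (Matrix (Fin n) (Fin n) F)}
    (hK : IsFieldSubalgebra r K) {M : Matrix (Fin n) (Fin n) F} (hM : M ∈ K) {m : ℕ} (hm : m ∣ Fintype.card F - 1)
    (hpow : M ^ m = 1) : ∃ a : F, M = a • 1 := by
  classical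
  obtain ⟨c, hc⟩ := hm
  obtain ⟨g, hg⟩ := IsCyclic.exists_ofOrder_eq_natCard (α := Fˣ)
  rw [Nat.card_units, Nat.card_eq_fintype_card, hc] at hg
  have hc0 : c ≠ 0 := by
    rintro rfl
    have := Fintype.one_lt_card (α := F)
    omega
  have hm0 : m ≠ 0 := by
    rintro rfl
    have := Fintype.one_lt_card (α := F)
    omega
  haveI : NeZero m := ⟨hm0⟩
  have hζ : IsPrimitiveRoot ((g ^ c : Fˣ) : F) m := by
    have h1 : orderOf (g ^ c) = m := by
      rw [orderOf_pow' g hc0, hg, Nat.gcd_mul_left_left, Nat.mul_div_cancel _ (Nat.pos_of_ne_zero hc0)]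
    rw [IsPrimitiveRoot.iff_orderOf, orderOf_units, h1]
  letI := (isField_of hK).toField
  have hζ' := hζ.map_of_injective (f := algebraMap F K) (fun a b hab => by
    rcases eq_or_ne a b with h | h
    · exact h
    · exfalso
      have h1 : algebraMap F (Matrix (Fin n) (Fin n) F) a = algebraMap F (Matrix (Fin n) (Fin n) F) b :=
        congrArg Subtype.val hab
      rcases Nat.eq_zero_or_pos n with hn0 | hn0
      · subst hn0
        have h2 := hK.finrank_eq
        haveI : Subsingleton K := ⟨fun x y => Subtype.ext (Subsingleton.elim _ _)⟩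
        rw [Module.finrank_zero_of_subsingleton] at h2
        exact NeZero.ne r h2.symm
      · have h3 := congrFun (congrFun h1 ⟨0, hn0⟩) ⟨0, hn0⟩
        exact h (by simpa [Matrix.algebraMap_matrix_apply] using h3))
  obtain ⟨i, -, hi⟩ := hζ'.eq_pow_of_pow_eq_one (ξ := (⟨M, hM⟩ : K)) (Subtype.ext hpow)
  refine ⟨((g ^ c : Fˣ) : F) ^ i, ?_⟩
  have h1 := congrArg Subtype.val hi
  rw [← Algebra.algebraMap_eq_smul_one, map_pow]
  exact h1.symm

end general

variable {F : Type*} [Field F] [Fintype F] {q : ℕ}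

/-- A non-scalar cube root of a scalar in a cubic field subalgebra has that scalar as determinant. -/
lemma det_of_cube {K : Subalgebra F (Matrix (Fin 3) (Fin 3) F)} (hK : IsFieldSubalgebra 3 K)
    {v : Matrix (Fin 3) (Fin 3) F} (hv : v ∈ K) {a : F} (ha : a ≠ 0) (hva : v ^ 3 = a • 1)
    (h3 : 3 ∣ Fintype.card F - 1) (hns : ∀ b : F, v ≠ b • 1) : v.det = a := by
  have hCH := Matrix.aeval_self_charpoly v
  have hdeg : v.charpoly.natDegree = 3 := by rw [Matrix.charpoly_natDegree_eq_dim, Fintype.card_fin]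
  have hmon : v.charpoly.coeff 3 = 1 := by
    have h := (Matrix.charpoly_monic v).coeff_natDegree
    rwa [hdeg] at h
  rw [Polynomial.aeval_eq_sum_range, hdeg] at hCH
  simp only [Finset.sum_range_succ, Finset.sum_range_zero, zero_add, pow_zero, pow_one, hmon, one_smul] at hCH
  set c0 := v.charpoly.coeff 0
  set c1 := v.charpoly.coeff 1
  set c2 := v.charpoly.coeff 2
  rw [hva] at hCH
  have hind : ∀ α β : F, α • v = β • (1 : Matrix (Fin 3) (Fin 3) F) → α = 0 ∧ β = 0 := by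
    intro α β h
    by_cases hα : α = 0
    · refine ⟨hα, ?_⟩
      rw [hα, zero_smul] at h
      simpa using (congrFun (congrFun h 0) 0).symm
    · exact absurd (by rw [mul_smul, ← h, inv_smul_smul₀ hα]) (hns (α⁻¹ * β))
  by_cases hc2 : c2 = 0
  · have h1 : c1 • v = (-(c0 + a)) • (1 : Matrix (Fin 3) (Fin 3) F) := by
      rw [hc2, zero_smul, add_zero] at hCH
      rw [neg_smul, add_smul, eq_neg_iff_add_eq_zero]
      exact Eq.trans (by abel) hCH
    have h2 := (hind _ _ h1).2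
    rw [Matrix.det_eq_sign_charpoly_coeff, Fintype.card_fin]
    linear_combination h2
  · exfalso
    set α := -(c1 / c2)
    set β := -((c0 + a) / c2)
    have hv2 : v * v = α • v + β • 1 := by
      have h1 : v * v = -(c2⁻¹ • (c0 • (1 : Matrix (Fin 3) (Fin 3) F) + c1 • v + a • 1)) := by
        rw [eq_neg_iff_add_eq_zero, ← smul_right_injective _ hc2 |>.eq_iff, smul_zero, smul_add, smul_inv_smul₀ hc2, ← sq]
        exact Eq.trans (by abel) hCH
      rw [h1]
      simp only [α, β, smul_add, smul_smul, neg_smul, div_eq_inv_mul, mul_add, add_smul]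
      abel
    have h3' : (α * α + β) • v = (a - α * β) • (1 : Matrix (Fin 3) (Fin 3) F) := by
      have h2 : v ^ 3 = (α * α + β) • v + (α * β) • 1 := by
        rw [pow_succ, sq, hv2, add_mul, Matrix.smul_mul, hv2, Matrix.smul_mul, one_mul, smul_add, smul_smul, smul_smul,
          add_smul]
        abel
      rw [sub_smul, ← hva, h2, add_sub_cancel_right]
    obtain ⟨h4, h5⟩ := hind _ _ h3'
    have hroot : (-α) ^ 3 = a := by linear_combination (-α) * h4 - h5
    have hα0 : -α ≠ 0 := by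
      intro h0
      rw [h0, zero_pow (by norm_num)] at hroot
      exact ha hroot.symm
    obtain ⟨b, hb⟩ := scalar_of_pow hK (Subalgebra.smul_mem _ hv (-α)⁻¹) h3 (by
      rw [smul_pow, hva, smul_smul, inv_pow, hroot, inv_mul_cancel₀ ha, one_smul])
    apply hns (-α * b)
    rw [mul_smul, ← hb, smul_inv_smul₀ hα0]

/-- Orders of unitary units of cubic field subalgebras for `q = 3, 5`. -/
lemma unit_order (hF : Fintype.card F = q ^ 2) (hq : q = 3 ∨ q = 5)
    {K : Subalgebra F (Matrix (Fin 3) (Fin 3) F)} (hK : IsFieldSubalgebra 3 K) {u : GL (Fin 3) F}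
    (hu : u ∈ SUgl 3 F q) (huK : u.val ∈ K) : u ^ 21 = 1 ∧ u ^ 7 ∈ scalars (Fin 3) F := by
  classical
  have hu1 := (Subgroup.mem_inf.mp hu).1
  have hu2 : u.val.det = 1 := Symplectic.mem_specialLinear.mp (Subgroup.mem_inf.mp hu).2
  have hcardK : Nat.card K = (q ^ 2) ^ 3 := by
    rw [Module.natCard_eq_pow_finrank (K := F) (V := K), hK.finrank_eq, Nat.card_eq_fintype_card, hF]
  have hA : u ^ ((q ^ 2) ^ 3 - 1) = 1 := by
    letI := (isField_of hK).toField
    letI : Fintype K := Fintype.ofFinite K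
    have h0 : (⟨u.val, huK⟩ : K) ≠ 0 := fun h => u.ne_zero (congrArg Subtype.val h)
    have h1 := FiniteField.pow_card_sub_one_eq_one _ h0
    rw [← Nat.card_eq_fintype_card, hcardK] at h1
    apply Units.ext
    rw [Units.val_pow_eq_pow_val, Units.val_one]
    exact congrArg Subtype.val h1
  have hB : u ^ (q ^ 3 * ((q + 1) * (q ^ 2 - 1) * (q ^ 3 + 1))) = 1 := by
    have h1 : (⟨u, hu1⟩ : GU 3 F q) ^ Nat.card (GU 3 F q) = 1 := pow_card_eq_one'
    have h2 := congrArg Subtype.val h1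
    rw [SubmonoidClass.coe_pow, card_GU hF] at h2
    simpa [Finset.prod_range_succ, Nat.even_iff] using h2
  have hAB := pow_gcd_eq_one.mpr ⟨hA, hB⟩
  -- a power of `u` that is an eighth root of unity is one
  have h8 : ∀ k, (u ^ k) ^ 8 = 1 → u ^ k = 1 := by
    intro k hk
    have hk' : (u ^ k).val ^ 8 = 1 := by rw [← Units.val_pow_eq_pow_val, hk, Units.val_one]
    have hmem : (u ^ k).val ∈ K := by rw [Units.val_pow_eq_pow_val]; exact pow_mem huK k
    obtain ⟨a, ha⟩ := scalar_of_pow hK hmem (m := 8) (by rw [hF]; rcases hq with rfl | rfl <;> norm_num) hk'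
    have h3 : a ^ 3 = 1 := by
      have h := congrArg Matrix.det ha
      rwa [Units.val_pow_eq_pow_val, Matrix.det_pow, hu2, one_pow, Matrix.det_smul, Matrix.det_one, mul_one,
        Fintype.card_fin, eq_comm] at h
    have h8' : a ^ 8 = 1 := by
      rw [ha, smul_pow, one_pow] at hk'
      simpa using congrFun (congrFun hk' 0) 0
    have ha1 : a = 1 := by simpa using pow_gcd_eq_one.mpr ⟨h3, h8'⟩
    exact Units.ext (by rw [ha, ha1, one_smul, Units.val_one])
  rcases hq with rfl | rfl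
  · have h56 : u ^ 56 = 1 := by
      rwa [show Nat.gcd ((3 ^ 2) ^ 3 - 1) (3 ^ 3 * ((3 + 1) * (3 ^ 2 - 1) * (3 ^ 3 + 1))) = 56 by decide +kernel] at hAB
    have h7 := h8 7 (by rw [← pow_mul]; exact h56)
    exact ⟨by rw [show 21 = 7 * 3 from rfl, pow_mul, h7, one_pow], by rw [h7]; exact one_mem _⟩
  · have h504 : u ^ 504 = 1 := by
      rwa [show Nat.gcd ((5 ^ 2) ^ 3 - 1) (5 ^ 3 * ((5 + 1) * (5 ^ 2 - 1) * (5 ^ 3 + 1))) = 504 by decide +kernel]
        at hAB
    have h63 := h8 63 (by rw [← pow_mul]; exact h504)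
    have h3dvd : 3 ∣ Fintype.card F - 1 := by rw [hF]; norm_num
    have h21K : u.val ^ 21 ∈ K := pow_mem huK 21
    obtain ⟨a, ha⟩ := scalar_of_pow hK h21K h3dvd (by
      rw [← pow_mul, ← Units.val_pow_eq_pow_val, h63, Units.val_one])
    have h7K : u.val ^ 7 ∈ K := pow_mem huK 7
    have hdet7 : (u.val ^ 7).det = 1 := by rw [Matrix.det_pow, hu2, one_pow]
    obtain ⟨b, hb⟩ : ∃ b : F, u.val ^ 7 = b • 1 := by
      by_contra! hns
      have ha0 : a ≠ 0 := by
        intro h0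
        rw [h0, zero_smul, ← Units.val_pow_eq_pow_val] at ha
        exact (u ^ 21).ne_zero ha
      have hdet := det_of_cube hK h7K ha0 (by rw [← pow_mul]; exact ha) h3dvd hns
      rw [hdet7] at hdet
      rw [← hdet, one_smul] at ha
      obtain ⟨b, hb⟩ := scalar_of_pow hK h7K h3dvd (by rw [← pow_mul]; exact ha)
      exact hns b hb
    have hb0 : b ≠ 0 := by
      intro h0
      rw [h0, zero_smul, ← Units.val_pow_eq_pow_val] at hb
      exact (u ^ 7).ne_zero hb
    refine ⟨Units.ext ?_, (mem_scalars_iff _).mpr ⟨Units.mk0 b hb0, by rw [Units.val_pow_eq_pow_val]; exact hb⟩⟩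
    have h3 : b ^ 3 = 1 := by
      rwa [hb, Matrix.det_smul, Matrix.det_one, mul_one, Fintype.card_fin] at hdet7
    rw [Units.val_pow_eq_pow_val, show 21 = 7 * 3 from rfl, pow_mul, hb, smul_pow, one_pow, h3, one_smul, Units.val_one]

/-- The normaliser of a cubic field is not maximal. -/
theorem not_maximal {p : ℕ} [Fact p.Prime] [CharP F p] (hF : Fintype.card F = p ^ 2) (hp : p = 3 ∨ p = 5)
    {d : Fin p} (R : Real F p d) {H N : Subgroup (GL (Fin 3) F)} (hH : IsMaximalIn (SUgl 3 F p) H)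
    (hNG : N ≤ SUgl 3 F p) (hNn : NormalizedBy H N) (hNs : ¬ N ≤ scalars (Fin 3) F)
    (hK : IsFieldSubalgebra 3 (commutant N)) {pts : List (Fin 3 → K2 p)} {X Y Z P : M3 p}
    (hXu : mm d (star3 X) X = one3 ∧ det3 d X = oneK ∧ pw d X 7 = one3 ∧ X ≠ one3)
    (hYu : mm d (star3 Y) Y = one3 ∧ det3 d Y = oneK)
    (hZu : mm d (star3 Z) Z = one3 ∧ det3 d Z = oneK)
    (hPu : mm d (star3 P) P = one3 ∧ det3 d P = oneK)
    (hYX : mm d Y X = mm d (pw d X 2) Y)
    (htr : ∀ k : Fin 7, tr3 (pw d X k.val) = tr3 (pw d X 1) → ∃ j : Fin 3, 2 ^ j.val % 7 = k.val)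
    (hZX : ∀ k : Fin 7, mm d (mm d Z X) (star3 Z) ≠ pw d X k.val)
    {wX wY wZ : List (ℕ × K2 p)} (hwX : okWit d pts X wX = true) (hwY : okWit d pts Y wY = true)
    (hwZ : okWit d pts Z wZ = true) (hP : moves d pts P = true) : False := by
  classical
  set K := commutant N with hKdef
  have hp0 := (Fact.out : p.Prime).pos
  haveI h7 : Fact (Nat.Prime 7) := ⟨by norm_num⟩
  obtain ⟨gx, hgxG, hgx, -⟩ := exists_SU R hF X hXu.1 hXu.2.1
  obtain ⟨gy, hgyG, hgy, -⟩ := exists_SU R hF Y hYu.1 hYu.2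
  obtain ⟨gz, hgzG, hgz, hgzi⟩ := exists_SU R hF Z hZu.1 hZu.2
  obtain ⟨gp, hgpG, hgp, -⟩ := exists_SU R hF P hPu.1 hPu.2
  have hgxo : orderOf gx = 7 := by
    refine orderOf_eq_prime (Units.ext ?_) fun h => ?_
    · rw [Units.val_pow_eq_pow_val, hgx, ← toMat_pw R.sq, hXu.2.2.1, toMat_one, Units.val_one]
    · rw [h, Units.val_one, ← toMat_one (p := p) (t := R.t)] at hgx
      exact hXu.2.2.2 (toMat_injective R hgx.symm)
  have hcentK : ∀ g : GL (Fin 3) F, (∀ x ∈ N, g * x = x * g) → g.val ∈ K := fun g hg =>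
    mem_commutant.mpr fun x hx => by rw [← Units.val_mul, ← Units.val_mul, hg x hx]
  have hNK : ∀ x ∈ N, x.val ∈ K := fun x hx => mem_of_commutant_field hK hx
  have hunit : ∀ u ∈ SUgl 3 F p, u.val ∈ K → u ^ 21 = 1 ∧ u ^ 7 ∈ scalars (Fin 3) F :=
    fun u h1 h2 => unit_order hF hp hK h1 h2
  obtain ⟨u₀, hu₀, hu₀s⟩ := Set.not_subset.mp (hNs : ¬ (N : Set (GL (Fin 3) F)) ⊆ scalars (Fin 3) F)
  have hsplit : ∀ u : GL (Fin 3) F, u ^ 21 = 1 → u = u ^ 7 * u ^ 15 ∧ (u ^ 15) ^ 7 = 1 := by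
    intro u hu
    refine ⟨?_, ?_⟩
    · rw [← pow_add, show 7 + 15 = 21 + 1 from rfl, pow_succ, hu, one_mul]
    · rw [← pow_mul, show 15 * 7 = 21 * 5 from rfl, pow_mul, hu, one_pow]
  obtain ⟨hu21, hu7⟩ := hunit u₀ (hNG hu₀) (hNK u₀ hu₀)
  set x₁ := u₀ ^ 15 with hx₁def
  have hx₁N : x₁ ∈ N := pow_mem hu₀ 15
  have hx₁o : orderOf x₁ = 7 := by
    refine orderOf_eq_prime (hsplit u₀ hu21).2 fun h => hu₀s ?_
    have := (hsplit u₀ hu21).1
    rw [← hx₁def, h, mul_one] at this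
    exact this ▸ hu7
  -- the seventh roots of unity
  let T : Finset (GL (Fin 3) F) := Finset.univ.filter fun u => u.val ∈ K ∧ u ^ 7 = 1
  have hT : T.card ≤ 7 := by
    letI := (isField_of hK).toField
    let S : Finset K := (Polynomial.nthRoots 7 (1 : K)).toFinset
    have hS : S.card ≤ 7 := (Multiset.toFinset_card_le _).trans (Polynomial.card_nthRoots 7 1)
    refine le_trans ?_ hS
    refine Finset.card_le_card_of_injOn (fun u => if h : u.val ∈ K then (⟨u.val, h⟩ : K) else 0) ?_ ?_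
    · intro u hu
      simp only [T, Finset.coe_filter, Finset.mem_univ, true_and, Set.mem_ofPred_eq] at hu
      simp only [dif_pos hu.1, S, SetLike.mem_coe, Multiset.mem_toFinset]
      rw [Polynomial.mem_nthRoots (by norm_num)]
      have h1 := congrArg Units.val hu.2
      rw [Units.val_pow_eq_pow_val] at h1
      exact Subtype.ext h1
    · intro u hu v hv h
      simp only [T, Finset.coe_filter, Finset.mem_univ, true_and, Set.mem_ofPred_eq] at hu hv
      simp only [dif_pos hu.1, dif_pos hv.1] at h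
      exact Units.ext (congrArg Subtype.val h)
  have hroots : ∀ u : GL (Fin 3) F, u.val ∈ K → u ^ 7 = 1 → u ∈ Subgroup.zpowers x₁ := by
    intro u h1 h2
    have hsub : (Finset.univ.filter fun g => g ∈ Subgroup.zpowers x₁) ⊆ T := by
      intro g hg
      have hg' := (Finset.mem_filter.mp hg).2
      simp only [T, Finset.mem_filter, Finset.mem_univ, true_and]
      refine ⟨hNK g ((Subgroup.zpowers_le.mpr hx₁N) hg'), ?_⟩
      obtain ⟨m, rfl⟩ := Subgroup.mem_zpowers_iff.mp hg'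
      rw [← zpow_natCast, ← zpow_mul, mul_comm, zpow_mul, zpow_natCast, ← hx₁o, pow_orderOf_eq_one, one_zpow]
    have heq := Finset.eq_of_subset_of_card_le hsub (by
      refine le_trans hT (le_of_eq ?_)
      rw [← Fintype.card_subtype, ← Nat.card_eq_fintype_card]
      exact ((Nat.card_zpowers x₁).trans hx₁o).symm)
    have hu : u ∈ T := by simp only [T, Finset.mem_filter, Finset.mem_univ, true_and]; exact ⟨h1, h2⟩
    rw [← heq] at hu
    exact (Finset.mem_filter.mp hu).2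
  -- Sylow
  obtain ⟨c, hcG, hc⟩ : ∃ c ∈ GU 3 F p, ∀ g, g ∈ Subgroup.zpowers x₁ ↔ c⁻¹ * g * c ∈ Subgroup.zpowers gx := by
    have hx₁U : x₁ ∈ GU 3 F p := (Subgroup.mem_inf.mp (hNG hx₁N)).1
    have hgxU : gx ∈ GU 3 F p := (Subgroup.mem_inf.mp hgxG).1
    let a : GU 3 F p := ⟨x₁, hx₁U⟩
    let b : GU 3 F p := ⟨gx, hgxU⟩
    have ha : orderOf a = 7 := by rw [← Subgroup.orderOf_coe]; exact hx₁o
    have hb : orderOf b = 7 := by rw [← Subgroup.orderOf_coe]; exact hgxo
    have hsyl : ∀ u : GU 3 F p, orderOf u = 7 → ∃ S : Sylow 7 (GU 3 F p), S.toSubgroup = Subgroup.zpowers u := by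
      intro u hu
      have hp' : IsPGroup 7 (Subgroup.zpowers u) := IsPGroup.of_card (n := 1) (by rw [Nat.card_zpowers, hu, pow_one])
      obtain ⟨S, hS⟩ := hp'.exists_le_sylow
      refine ⟨S, (Subgroup.eq_of_le_of_card_ge hS ?_).symm⟩
      obtain ⟨j, hj⟩ := IsPGroup.iff_card.mp S.2
      have hdvd : 7 ^ j ∣ Nat.card (GU 3 F p) := hj ▸ Subgroup.card_subgroup_dvd_card _
      have hj2 : j < 2 := by
        by_contra hlt
        have h2 := (Nat.pow_dvd_pow 7 (not_lt.mp hlt)).trans hdvd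
        rw [card_GU hF] at h2
        rcases hp with rfl | rfl <;> norm_num [Finset.prod_range_succ, Nat.even_iff] at h2
      rw [Nat.card_zpowers, hu, hj]
      calc 7 ^ j ≤ 7 ^ 1 := Nat.pow_le_pow_right (by norm_num) (by omega)
        _ = 7 := by norm_num
    obtain ⟨Pa, hPa⟩ := hsyl a ha
    obtain ⟨Pb, hPb⟩ := hsyl b hb
    obtain ⟨c, hc⟩ := MulAction.exists_smul_eq (GU 3 F p) Pb Pa
    have hiff : ∀ g : GU 3 F p, g ∈ Subgroup.zpowers a ↔ c⁻¹ * g * c ∈ Subgroup.zpowers b := by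
      intro g
      rw [← hPa, ← hc, Sylow.coe_subgroup_smul, hPb, Subgroup.mem_pointwise_smul_iff_inv_smul_mem]
      simp [MulAut.smul_def, MulAut.conj_symm_apply]
    have hcoe : ∀ u g : GU 3 F p, g ∈ Subgroup.zpowers u ↔ (g : GL (Fin 3) F) ∈ Subgroup.zpowers (u : GL (Fin 3) F) := by
      intro u g
      simp only [Subgroup.mem_zpowers_iff, ← SubgroupClass.coe_zpow, Subtype.coe_inj]
    refine ⟨c, c.2, fun g => ?_⟩
    constructor
    · intro hg
      have hgU : g ∈ GU 3 F p := (Subgroup.zpowers_le.mpr hx₁U) hg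
      exact (hcoe b _).mp ((hiff ⟨g, hgU⟩).mp ((hcoe a ⟨g, hgU⟩).mpr hg))
    · intro hg
      have h1 : (c : GL (Fin 3) F)⁻¹ * g * c ∈ GU 3 F p := (Subgroup.zpowers_le.mpr hgxU) hg
      have hgU : g ∈ GU 3 F p := by
        have := mul_mem (mul_mem c.2 h1) (inv_mem c.2)
        simpa [mul_assoc] using this
      exact (hcoe a ⟨g, hgU⟩).mp ((hiff ⟨g, hgU⟩).mpr ((hcoe b _).mpr hg))
  have hgxO : gx ∈ overgroup R pts := mem_overgroup R hgx hwX
  have hgyO : gy ∈ overgroup R pts := mem_overgroup R hgy hwY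
  have hxN : c * gx * c⁻¹ ∈ Subgroup.zpowers x₁ := (hc _).mpr (by simp [mul_assoc])
  have hpow : ∀ k : ℕ, (gx ^ k).val = toMat R.t (pw d X k) := fun k => by
    rw [Units.val_pow_eq_pow_val, hgx, toMat_pw R.sq]
  have himage : ∀ h ∈ H, ∃ k : Fin 7, c⁻¹ * h * c * gx * (c⁻¹ * h * c)⁻¹ = gx ^ k.val := by
    intro h hh
    have hmem : h * (c * gx * c⁻¹) * h⁻¹ ∈ N := hNn h hh _ ((Subgroup.zpowers_le.mpr hx₁N) hxN)
    have h7' : (h * (c * gx * c⁻¹) * h⁻¹) ^ 7 = 1 := by
      rw [conj_pow, conj_pow, ← hgxo, pow_orderOf_eq_one]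
      group
    have h1 := (hc _).mp (hroots _ (hNK _ hmem) h7')
    rw [← mem_powers_iff_mem_zpowers, Submonoid.mem_powers_iff] at h1
    obtain ⟨m, hm⟩ := h1
    refine ⟨⟨m % 7, Nat.mod_lt _ (by norm_num)⟩, ?_⟩
    show _ = gx ^ (m % 7)
    rw [show gx ^ (m % 7) = gx ^ m by rw [← hgxo, pow_mod_orderOf], hm]
    group
  refine SU3Model.not_maximal R hH hcG (gp := gp) (gz := gz) ?_ hgpG (not_mem_overgroup R hF hgp hP) hgzG
    (mem_overgroup R hgz hwZ) ?_
  · intro h hh
    set h' := c⁻¹ * h * c with hh'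
    obtain ⟨k, hk⟩ := himage h hh
    obtain ⟨j, hj⟩ := htr k (by
      apply R.inj
      rw [← trace_toMat, ← trace_toMat, ← hpow, ← hpow, ← hk, pow_one, Units.val_mul, Units.val_mul,
        Matrix.trace_mul_cycle, Units.inv_mul, one_mul])
    have hyx : gy * gx * gy⁻¹ = gx ^ 2 := by
      rw [mul_inv_eq_iff_eq_mul]
      apply Units.ext
      rw [Units.val_mul, Units.val_mul, hgy, hgx, hpow, ← toMat_mm R.sq, ← toMat_mm R.sq, hYX]
    have hyj : ∀ i : ℕ, gy ^ i * gx * (gy ^ i)⁻¹ = gx ^ (2 ^ i) := by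
      intro i
      induction i with
      | zero => simp
      | succ i ih =>
        calc gy ^ (i + 1) * gx * (gy ^ (i + 1))⁻¹ = gy * (gy ^ i * gx * (gy ^ i)⁻¹) * gy⁻¹ := by
              rw [pow_succ']; group
          _ = (gy * gx * gy⁻¹) ^ (2 ^ i) := by rw [ih, conj_pow]
          _ = gx ^ (2 ^ (i + 1)) := by rw [hyx, ← pow_mul, pow_succ']
    set w := (gy ^ j.val)⁻¹ * h' with hw
    have hwx : w * gx = gx * w := by
      have h2 : gy ^ j.val * gx * (gy ^ j.val)⁻¹ = h' * gx * h'⁻¹ := by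
        rw [hyj, hk, ← hj, ← hgxo, pow_mod_orderOf]
      calc w * gx = (gy ^ j.val)⁻¹ * (h' * gx * h'⁻¹) * h' := by rw [hw]; group
        _ = gx * w := by rw [← h2, hw]; group
    set W := c * w * c⁻¹ with hWdef
    have hWG : W ∈ SUgl 3 F p := by
      obtain ⟨a1, a2⟩ := Subgroup.mem_inf.mp (hH.1.le hh)
      obtain ⟨b1, b2⟩ := Subgroup.mem_inf.mp hgyG
      have hn : (specialLinear (Fin 3) F).Normal := MonoidHom.normal_ker _
      refine Subgroup.mem_inf.mpr ⟨mul_mem (mul_mem hcG (mul_mem (inv_mem (pow_mem b1 _))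
        (mul_mem (mul_mem (inv_mem hcG) a1) hcG))) (inv_mem hcG), hn.conj_mem _ (mul_mem (inv_mem (pow_mem b2 _)) ?_) c⟩
      simpa [hh'] using hn.conj_mem h a2 c⁻¹
    have hWx : W * (c * gx * c⁻¹) = c * gx * c⁻¹ * W := by
      calc W * (c * gx * c⁻¹) = c * (w * gx) * c⁻¹ := by rw [hWdef]; group
        _ = _ := by rw [hwx, hWdef]; group
    have hWK : W.val ∈ K := hcentK W fun x hx => by
      obtain ⟨h21, h7s⟩ := hunit x (hNG hx) (hNK x hx)
      obtain ⟨e1, e2⟩ := hsplit x h21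
      have h15 := (hc _).mp (hroots (x ^ 15) (hNK _ (pow_mem hx 15)) e2)
      rw [← mem_powers_iff_mem_zpowers, Submonoid.mem_powers_iff] at h15
      obtain ⟨m, hm⟩ := h15
      have h5 : x ^ 15 = (c * gx * c⁻¹) ^ m := by rw [conj_pow, hm]; group
      rw [e1, h5]
      exact ((Commute.symm (Symplectic.scalar_comm h7s W)).mul_right (Commute.pow_right hWx m)).eq
    obtain ⟨h21, h7s⟩ := hunit W hWG hWK
    obtain ⟨e1, e2⟩ := hsplit W h21
    have h15 := (hc _).mp (hroots (W ^ 15) (by rw [Units.val_pow_eq_pow_val]; exact pow_mem hWK 15) e2)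
    have hwO : w ∈ overgroup R pts := by
      have : w = W ^ 7 * (c⁻¹ * W ^ 15 * c) := by
        calc w = c⁻¹ * W * c := by rw [hWdef]; group
          _ = c⁻¹ * (W ^ 7 * W ^ 15) * c := by rw [← e1]
          _ = W ^ 7 * (c⁻¹ * W ^ 15 * c) := by
            rw [← mul_assoc c⁻¹, ← Symplectic.scalar_comm h7s c⁻¹]; group
      rw [this]
      exact mul_mem (scalars_le_overgroup R pts h7s) (Subgroup.zpowers_le.mpr hgxO h15)
    have := mul_mem (pow_mem hgyO j.val) hwO
    simpa [hw] using this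
  · intro hzH
    obtain ⟨k, hk⟩ := himage _ hzH
    rw [show c⁻¹ * (c * gz * c⁻¹) * c = gz by group] at hk
    refine hZX k (toMat_injective R ?_)
    rw [toMat_mm R.sq, toMat_mm R.sq, ← hgz, ← hgx, ← hgzi, ← Units.val_mul, ← Units.val_mul, hk, hpow]

end Cfsg.Agent.Lib.PrimeDim.SU3Field
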