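import Cfsg.Agent.Lib.PrimeDim.Unitary

set_option autoImplicit false
set_option linter.style.haveILetI false
set_option linter.unusedSectionVars false

/-!
A computable model of `SU(3, p)`, `p` a prime, for certificates: matrices over pairs `(a, b)` standing for
`a + b t` with `t * t = d`, and subgroups given as stabilisers of finite sets of lines.
-/

namespace Cfsg.Agent.Lib.PrimeDim.SU3Model

open Cfsg.Geo Cfsg.Agent.Lib.PrimeDim.Basic Cfsg.Agent.Lib.PrimeDim.Fields Cfsg.Agent.Lib.PrimeDim.Unitary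
open Cfsg.Agent.Lib.PrimeDim.UnitaryBase Cfsg.Agent.Lib.Unitary
open scoped Matrix MatrixGroups

/-- The model of the field with `p ^ 2` elements. -/
abbrev K2 (p : ℕ) : Type := Fin p × Fin p

/-- A `3 × 3` matrix over the model. -/
abbrev M3 (p : ℕ) : Type := Fin 3 → Fin 3 → K2 p

variable {p : ℕ} [NeZero p]

/-- Sum. -/
def addK (x y : K2 p) : K2 p := (x.1 + y.1, x.2 + y.2)

/-- Product. -/
def mulK (d : Fin p) (x y : K2 p) : K2 p := (x.1 * y.1 + d * (x.2 * y.2), x.1 * y.2 + x.2 * y.1)

/-- Difference. -/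
def subK (x y : K2 p) : K2 p := (x.1 - y.1, x.2 - y.2)

/-- The involution. -/
def conjK (x : K2 p) : K2 p := (x.1, -x.2)

/-- Zero. -/
def zeroK : K2 p := (0, 0)

/-- One. -/
def oneK : K2 p := (1, 0)

/-- A sum of three terms. -/
def sum3 (f : Fin 3 → K2 p) : K2 p := addK (addK (f 0) (f 1)) (f 2)

/-- Matrix product. -/
def mm (d : Fin p) (A B : M3 p) : M3 p := fun i j => sum3 fun k => mulK d (A i k) (B k j)

/-- Matrix times vector. -/
def mv (d : Fin p) (A : M3 p) (v : Fin 3 → K2 p) : Fin 3 → K2 p := fun i => sum3 fun k => mulK d (A i k) (v k)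

/-- The identity. -/
def one3 : M3 p := fun i j => if i = j then oneK else zeroK

/-- Powers. -/
def pw (d : Fin p) (A : M3 p) : ℕ → M3 p
  | 0 => one3
  | k + 1 => mm d (pw d A k) A

/-- The adjoint. -/
def star3 (A : M3 p) : M3 p := fun i j => conjK (A j i)

/-- The trace. -/
def tr3 (A : M3 p) : K2 p := sum3 fun i => A i i

/-- The determinant. -/
def det3 (d : Fin p) (A : M3 p) : K2 p :=
  let m := fun a b c e : K2 p => subK (mulK d a b) (mulK d c e)
  addK (subK (mulK d (A 0 0) (m (A 1 1) (A 2 2) (A 1 2) (A 2 1)))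
    (mulK d (A 0 1) (m (A 1 0) (A 2 2) (A 1 2) (A 2 0))))
    (mulK d (A 0 2) (m (A 1 0) (A 2 1) (A 1 1) (A 2 0)))

/-- The check of an image table for a list of lines. -/
def okWit (d : Fin p) (pts : List (Fin 3 → K2 p)) (A : M3 p) (w : List (ℕ × K2 p)) : Bool :=
  (List.range pts.length).all fun i =>
    decide ((w.getD i (0, zeroK)).1 < pts.length) &&
    (List.finRange 3).all fun j =>
      mv d A (pts.getD i fun _ => zeroK) j
        == mulK d (w.getD i (0, zeroK)).2 (pts.getD (w.getD i (0, zeroK)).1 (fun _ => zeroK) j)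

/-- No line of the list contains the image of the first one. -/
def moves (d : Fin p) (pts : List (Fin 3 → K2 p)) (A : M3 p) : Bool :=
  decide (0 < pts.length) && pts.all fun v => (List.finRange p).all fun a => (List.finRange p).all fun b =>
    (List.finRange 3).any fun j => mv d A (pts.getD 0 fun _ => zeroK) j != mulK d (a, b) (v j)

/-- A table of products of generators: each entry is an earlier entry times a generator. -/
def okTable (d : Fin p) (gens : List (M3 p)) (tab : List (M3 p)) (w : List (ℕ × ℕ)) : Bool :=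
  (List.range tab.length).all fun i =>
    (tab.getD i one3 == one3) ||
      (decide ((w.getD i (0, 0)).1 < i) && decide ((w.getD i (0, 0)).2 < gens.length) &&
        tab.getD i one3 == mm d (tab.getD (w.getD i (0, 0)).1 one3) (gens.getD (w.getD i (0, 0)).2 one3))

variable {F : Type*} [Field F]

/-- The map from the model. -/
def phi (t : F) (x : K2 p) : F := (x.1.val : F) + (x.2.val : F) * t

/-- The matrix of a model matrix. -/
def toMat (t : F) (A : M3 p) : Matrix (Fin 3) (Fin 3) F := Matrix.of fun i j => phi t (A i j)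

section transfer

variable [CharP F p] {t : F} {d : Fin p} (ht : t * t = (d.val : F))

lemma cast_add (a b : Fin p) : ((a + b).val : F) = (a.val : F) + (b.val : F) := by
  rw [Fin.val_add, ← Nat.cast_add]
  exact (CharP.cast_eq_mod F p _).symm

lemma cast_mul (a b : Fin p) : ((a * b).val : F) = (a.val : F) * (b.val : F) := by
  rw [Fin.val_mul, ← Nat.cast_mul]
  exact (CharP.cast_eq_mod F p _).symm

lemma cast_sub (a b : Fin p) : ((a - b).val : F) = (a.val : F) - (b.val : F) := by
  have h := cast_add (F := F) (a - b) b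
  rw [sub_add_cancel] at h
  rw [h, add_sub_cancel_right]

lemma cast_neg (a : Fin p) : ((-a).val : F) = -(a.val : F) := by
  have h := cast_add (F := F) (-a) a
  rw [neg_add_cancel, Fin.val_zero, Nat.cast_zero] at h
  linear_combination -h

lemma cast_injective : Function.Injective fun a : Fin p => (a.val : F) := fun a b h =>
  Fin.ext (CharP.natCast_injOn_Iio F p a.isLt b.isLt h)

lemma phi_add (x y : K2 p) : phi t (addK x y) = phi t x + phi t y := by
  simp only [phi, addK, cast_add]
  ring

lemma phi_sub (x y : K2 p) : phi t (subK x y) = phi t x - phi t y := by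
  simp only [phi, subK, cast_sub]
  ring

omit [CharP F p] in
lemma phi_zero : phi t (zeroK : K2 p) = 0 := by simp [phi, zeroK]

lemma phi_one : phi t (oneK : K2 p) = 1 := by
  rcases Nat.lt_or_ge 1 p with h | h
  · simp [phi, oneK, Nat.mod_eq_of_lt h]
  · exfalso
    have hp := NeZero.ne p
    obtain rfl : p = 1 := by omega
    exact CharP.ringChar_ne_one (R := F) (ringChar.eq F 1)

include ht in
lemma phi_mul (x y : K2 p) : phi t (mulK d x y) = phi t x * phi t y := by
  simp only [phi, mulK, cast_add, cast_mul]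
  linear_combination (-((x.2.val : F) * (y.2.val : F))) * ht

lemma toMat_one : toMat t (one3 : M3 p) = 1 := by
  ext i j
  by_cases h : i = j <;> simp [toMat, one3, phi_one, phi_zero, Matrix.one_apply, h]

lemma phi_sum3 (f : Fin 3 → K2 p) : phi t (sum3 f) = ∑ k, phi t (f k) := by
  simp only [sum3, phi_add, Fin.sum_univ_three]

lemma trace_toMat (A : M3 p) : (toMat t A).trace = phi t (tr3 A) := by
  simp only [tr3, phi_sum3, Matrix.trace, Matrix.diag_apply, toMat, Matrix.of_apply]

include ht

lemma toMat_mm (A B : M3 p) : toMat t (mm d A B) = toMat t A * toMat t B := by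
  ext i j
  simp only [toMat, mm, Matrix.of_apply, Matrix.mul_apply, phi_sum3, phi_mul ht]

lemma toMat_mv (A : M3 p) (v : Fin 3 → K2 p) : toMat t A *ᵥ (phi t ∘ v) = phi t ∘ mv d A v := by
  funext i
  simp only [toMat, mv, Matrix.mulVec, dotProduct, Matrix.of_apply, Function.comp_apply, phi_sum3, phi_mul ht]

lemma toMat_pw (A : M3 p) : ∀ k, toMat t (pw d A k) = toMat t A ^ k
  | 0 => by rw [pw, toMat_one, pow_zero]
  | k + 1 => by rw [pw, toMat_mm ht, toMat_pw A k, pow_succ]

lemma det_toMat (A : M3 p) : (toMat t A).det = phi t (det3 d A) := by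
  simp only [det3, phi_add, phi_sub, phi_mul ht, Matrix.det_fin_three, toMat, Matrix.of_apply]
  ring

end transfer

/-- The data relating the model to the field. -/
structure Real (F : Type*) [Field F] (p : ℕ) (d : Fin p) where
  /-- The image of `(0, 1)`. -/
  t : F
  sq : t * t = (d.val : F)
  conj_t : t ^ p = -t
  inj : Function.Injective (phi (p := p) t)

variable [Fintype F]

lemma charP_of_card [hp : Fact p.Prime] (hF : Fintype.card F = p ^ 2) : CharP F p := by
  obtain ⟨r, k, hr, hc, -, hq⟩ := q_eq_primePow hF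
  have : r = p := (Nat.prime_eq_prime_of_dvd_pow hr hp.out (by
    rw [show p ^ 1 = r ^ k by rw [pow_one, hq]]
    exact dvd_pow_self r (by rintro rfl; simp at hq; exact hp.out.ne_one hq))).symm ▸ rfl
  exact this ▸ hc

lemma exists_real [hp : Fact p.Prime] [CharP F p] (hF : Fintype.card F = p ^ 2) (d : Fin p) (hd0 : d ≠ 0)
    (hns : ∀ a : Fin p, a * a ≠ d) : Nonempty (Real F p d) := by
  classical
  have hdF : (d.val : F) ≠ 0 := by
    rw [← Nat.cast_zero, ← Fin.val_zero p]
    exact fun h => hd0 (cast_injective h)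
  have hfix : (d.val : F) ^ p = d.val := by
    rw [← frobenius_def, map_natCast]
  obtain ⟨t, ht⟩ := norm_surj hF hfix
  -- a square root
  obtain ⟨t, ht⟩ : ∃ t : F, t * t = (d.val : F) := by
    have hp2 : p ≠ 2 := by
      rintro rfl
      fin_cases d
      · exact hd0 rfl
      · exact hns 1 rfl
    obtain ⟨g, hg⟩ : IsSquare (d.val : F) := by
      rw [FiniteField.isSquare_iff (by rw [ringChar.eq F p]; exact hp2) hdF, hF]
      obtain ⟨m, hm⟩ := hp.out.odd_of_ne_two hp2
      have h1 : (p ^ 2 / 2) = (p - 1) * (m + 1) := by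
        subst hm
        rw [show (2 * m + 1) ^ 2 = 2 * (2 * m * (m + 1)) + 1 by ring, Nat.mul_add_div (by norm_num : 2 > 0)]
        simp
      rw [h1, pow_mul]
      have h2 : (d.val : F) ^ (p - 1) = 1 := by
        refine mul_right_cancel₀ hdF ?_
        rw [← pow_succ, Nat.sub_add_cancel hp.out.one_le, hfix, one_mul]
      rw [h2, one_pow]
    exact ⟨g, hg.symm⟩
  have ht0 : t ≠ 0 := by rintro rfl; rw [mul_zero] at ht; exact hdF ht.symm
  have hne : t ^ p ≠ t := by
    intro h
    -- otherwise the root lies in the prime field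
    have hsub : ∀ a : F, a ^ p = a → ∃ k : Fin p, (k.val : F) = a := by
      intro a ha
      by_contra! hc
      have h1 : ((Finset.univ : Finset (Fin p)).map ⟨fun k : Fin p => (k.val : F), cast_injective⟩ ∪ {a}).card
          ≤ (Finset.univ.filter fun x : F => x ^ p = x).card := Finset.card_le_card (by
        intro x hx
        simp only [Finset.mem_union, Finset.mem_map, Finset.mem_univ, true_and, Function.Embedding.coeFn_mk,
          Finset.mem_singleton] at hx
        simp only [Finset.mem_filter, Finset.mem_univ, true_and]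
        rcases hx with ⟨k, rfl⟩ | rfl
        · rw [← frobenius_def, map_natCast]
        · exact ha)
      rw [Finset.card_union_of_disjoint (by simpa using hc), Finset.card_map, Finset.card_univ, Fintype.card_fin,
        Finset.card_singleton] at h1
      have h2 := card_fixed hF
      rw [Nat.card_eq_fintype_card, Fintype.card_subtype] at h2
      omega
    obtain ⟨k, hk⟩ := hsub t h
    apply hns k
    apply cast_injective (F := F)
    simp only [cast_mul, hk, ht]
  have hconj : t ^ p = -t := by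
    have h1 : (t ^ p) * (t ^ p) = t * t := by rw [← mul_pow, ht, hfix]
    rcases mul_self_eq_mul_self_iff.mp h1 with h | h
    · exact absurd h hne
    · exact h
  refine ⟨⟨t, ht, hconj, ?_⟩⟩
  intro x y h
  simp only [phi] at h
  have h' : ((x.2 - y.2).val : F) * t = ((y.1 - x.1).val : F) := by
    rw [cast_sub, cast_sub]; linear_combination h
  have h0 : (x.2 - y.2).val = 0 := by
    by_contra hne0
    have hc0 : ((x.2 - y.2).val : F) ≠ 0 := by
      rw [← Nat.cast_zero]
      exact fun h => hne0 (CharP.natCast_injOn_Iio F p (x.2 - y.2).isLt (NeZero.pos p) h)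
    apply hne
    have h2 := congrArg (· ^ p) h'
    simp only [← frobenius_def, map_natCast] at h2
    simp only [frobenius_def, mul_pow] at h2
    rw [show ((x.2 - y.2).val : F) ^ p = ((x.2 - y.2).val : F) by rw [← frobenius_def, map_natCast]] at h2
    exact mul_left_cancel₀ hc0 (h2.trans h'.symm)
  rw [h0, Nat.cast_zero, zero_mul] at h'
  refine Prod.ext ?_ (sub_eq_zero.mp (Fin.ext h0))
  exact (sub_eq_zero.mp (cast_injective (F := F) (h'.symm.trans (by simp)) : y.1 - x.1 = 0)).symm

variable [CharP F p] {d : Fin p} (R : Real F p d)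

lemma phi_conj [Fact p.Prime] (hF : Fintype.card F = p ^ 2) (x : K2 p) : conj hF (phi R.t x) = phi R.t (conjK x) := by
  simp only [phi, conjK, cast_neg, conj_apply, add_pow_char, mul_pow, R.conj_t]
  rw [← frobenius_def, ← frobenius_def, map_natCast, map_natCast]
  ring

lemma phi_surjective (hF : Fintype.card F = p ^ 2) : Function.Surjective (phi (p := p) R.t) :=
  ((Fintype.bijective_iff_injective_and_card _).mpr
    ⟨R.inj, by rw [Fintype.card_prod, Fintype.card_fin, hF, sq]⟩).2

lemma toMat_injective : Function.Injective (toMat (p := p) R.t) := fun A B h => funext fun i => funext fun j =>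
  R.inj (congrFun (congrFun h i) j)

lemma toMat_star [Fact p.Prime] (hF : Fintype.card F = p ^ 2) (A : M3 p) :
    toMat R.t (star3 A) = ((toMat R.t A).map (conj hF))ᵀ := by
  ext i j
  simp only [toMat, star3, Matrix.transpose_apply, Matrix.map_apply, Matrix.of_apply, phi_conj R hF]

/-- A certified element of `GU(3, p)`. -/
lemma exists_GU [Fact p.Prime] (hF : Fintype.card F = p ^ 2) (A : M3 p) (hA : mm d (star3 A) A = one3) :
    ∃ g ∈ GU 3 F p, g.val = toMat R.t A ∧ g⁻¹.val = toMat R.t (star3 A) := by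
  have hu := congrArg (toMat R.t) hA
  rw [toMat_mm R.sq, toMat_one] at hu
  have hu2 := mul_eq_one_comm.mp hu
  let g : GL (Fin 3) F := ⟨toMat R.t A, toMat R.t (star3 A), hu2, hu⟩
  refine ⟨g, fun u v => ?_, rfl, rfl⟩
  have hu' : (toMat R.t A)ᵀ * (toMat R.t A).map (conj hF) = 1 := by
    have := congrArg Matrix.transpose hu
    rwa [Matrix.transpose_mul, toMat_star R hF, Matrix.transpose_transpose, Matrix.transpose_one] at this
  have := ((isSesqui_herm (n := 3) hF).scale_iff (toMat R.t A) 1).mpr
    (by rw [gram_herm hF, mul_one, hu', one_smul]) u v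
  rw [one_mul] at this
  exact this

/-- A certified element of `SU(3, p)`. -/
lemma exists_SU [Fact p.Prime] (hF : Fintype.card F = p ^ 2) (A : M3 p) (hA : mm d (star3 A) A = one3)
    (hd : det3 d A = oneK) : ∃ g ∈ SUgl 3 F p, g.val = toMat R.t A ∧ g⁻¹.val = toMat R.t (star3 A) := by
  obtain ⟨g, hg, h1, h2⟩ := exists_GU R hF A hA
  refine ⟨g, Subgroup.mem_inf.mpr ⟨hg, Symplectic.mem_specialLinear.mpr ?_⟩, h1, h2⟩
  rw [h1, det_toMat R.sq, hd, phi_one]

/-- The vectors on a list of lines. -/
def lineSet (pts : List (Fin 3 → K2 p)) : Set (Fin 3 → F) :=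
  {v | ∃ i, i < pts.length ∧ ∃ c : F, v = c • (phi R.t ∘ pts.getD i fun _ => zeroK)}

/-- The stabiliser of a list of lines. -/
def overgroup (pts : List (Fin 3 → K2 p)) : Subgroup (GL (Fin 3) F) :=
  stabilizing (glToMat (Fin 3) F) (lineSet R pts)

lemma mem_overgroup {pts : List (Fin 3 → K2 p)} {g : GL (Fin 3) F} {A : M3 p} (hg : g.val = toMat R.t A)
    {w : List (ℕ × K2 p)} (hw : okWit d pts A w = true) : g ∈ overgroup R pts := by
  simp only [okWit, List.all_eq_true, List.mem_range, Bool.and_eq_true, decide_eq_true_eq, List.mem_finRange,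
    forall_true_left, beq_iff_eq] at hw
  have hmaps : ∀ v ∈ lineSet R pts, g.val *ᵥ v ∈ lineSet R pts := by
    rintro _ ⟨i, hi, c, rfl⟩
    refine ⟨(w.getD i (0, zeroK)).1, (hw i hi).1, c * phi R.t (w.getD i (0, zeroK)).2, ?_⟩
    rw [Matrix.mulVec_smul, hg, toMat_mv R.sq, mul_smul]
    congr 1
    funext j
    simp only [Function.comp_apply, (hw i hi).2 j, Pi.smul_apply, smul_eq_mul, phi_mul R.sq]
  have hinj : Function.Injective fun v : Fin 3 → F => g.val *ᵥ v := fun a b h => by
    simpa [inv_mulVec_cancel] using congrArg (fun v => (g⁻¹ : GL (Fin 3) F).val *ᵥ v) h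
  have himg : (fun v : Fin 3 → F => g.val *ᵥ v) '' lineSet R pts = lineSet R pts :=
    Set.eq_of_subset_of_ncard_le (Set.image_subset_iff.mpr hmaps)
      (le_of_eq (Set.ncard_image_of_injective _ hinj).symm) (Set.toFinite _)
  intro v
  constructor
  · exact hmaps v
  · intro hv
    obtain ⟨u, hu, huv⟩ := himg.symm ▸ hv
    exact hinj huv ▸ hu

lemma scalars_le_overgroup (pts : List (Fin 3 → K2 p)) : scalars (Fin 3) F ≤ overgroup R pts := by
  intro g hg v
  obtain ⟨c, hc⟩ := (mem_scalars_iff g).mp hg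
  simp only [glToMat, Units.coeHom_apply, hc, Matrix.smul_mulVec, Matrix.one_mulVec]
  constructor
  · rintro ⟨i, hi, a, rfl⟩
    exact ⟨i, hi, (c : F) * a, by rw [mul_smul]⟩
  · rintro ⟨i, hi, a, ha⟩
    exact ⟨i, hi, (c : F)⁻¹ * a, by rw [mul_smul, ← ha, inv_smul_smul₀ c.ne_zero]⟩

lemma not_mem_overgroup (hF : Fintype.card F = p ^ 2) {pts : List (Fin 3 → K2 p)} {g : GL (Fin 3) F} {A : M3 p}
    (hg : g.val = toMat R.t A) (hm : moves d pts A = true) : g ∉ overgroup R pts := by
  intro h
  simp only [moves, Bool.and_eq_true, decide_eq_true_eq, List.all_eq_true, List.mem_finRange, forall_true_left,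
    List.any_eq_true, true_and, bne_iff_ne] at hm
  obtain ⟨hlen, hall⟩ := hm
  obtain ⟨i, hi, c, hc⟩ := (h (phi R.t ∘ pts.getD 0 fun _ => zeroK)).mp ⟨0, hlen, 1, (one_smul _ _).symm⟩
  obtain ⟨⟨a, b⟩, rfl⟩ := phi_surjective R hF c
  obtain ⟨j, hj⟩ := hall _ (List.getD_eq_getElem (d := fun _ => zeroK) pts hi ▸ List.getElem_mem hi) a b
  refine hj (R.inj ?_)
  have h1 : (g.val *ᵥ (phi R.t ∘ pts.getD 0 fun _ => zeroK)) j = phi R.t (a, b) * phi R.t (pts.getD i (fun _ => zeroK) j) :=
    congrFun hc j
  rw [hg, toMat_mv R.sq] at h1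
  rw [phi_mul R.sq]
  exact h1

/-- A model matrix all of whose images lie in a subgroup. -/
def InGroup (S : Subgroup (GL (Fin 3) F)) (A : M3 p) : Prop := ∃ g ∈ S, g.val = toMat R.t A

lemma table_mem {S : Subgroup (GL (Fin 3) F)} {gens tab : List (M3 p)} {w : List (ℕ × ℕ)}
    (hgens : ∀ A ∈ gens, InGroup R S A) (hok : okTable d gens tab w = true) : ∀ A ∈ tab, InGroup R S A := by
  simp only [okTable, List.all_eq_true, List.mem_range, Bool.or_eq_true, Bool.and_eq_true, decide_eq_true_eq,
    beq_iff_eq] at hok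
  have key : ∀ i, i < tab.length → InGroup R S (tab.getD i one3) := by
    intro i
    induction i using Nat.strong_induction_on with
    | _ i ih =>
      intro hi
      rcases hok i hi with h | ⟨⟨h1, h2⟩, h3⟩
      · exact ⟨1, one_mem _, by rw [h, toMat_one, Units.val_one]⟩
      · obtain ⟨g, hg, hgv⟩ := ih _ h1 (by omega)
        obtain ⟨g', hg', hgv'⟩ := hgens _ (List.getD_eq_getElem (d := one3) gens h2 ▸ List.getElem_mem h2)
        exact ⟨g * g', mul_mem hg hg', by rw [h3, toMat_mm R.sq, Units.val_mul, hgv, hgv']⟩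
  intro A hA
  obtain ⟨i, hi, rfl⟩ := List.mem_iff_getElem.mp hA
  rw [← List.getD_eq_getElem (d := one3)]
  exact key i hi

/-- A conjugate of an overgroup contradicts maximality. -/
theorem not_maximal {H : Subgroup (GL (Fin 3) F)} (hH : IsMaximalIn (SUgl 3 F p) H) {pts : List (Fin 3 → K2 p)}
    {c : GL (Fin 3) F} (hcU : c ∈ GU 3 F p) (hin : ∀ h ∈ H, c⁻¹ * h * c ∈ overgroup R pts)
    {gp gz : GL (Fin 3) F} (hp : gp ∈ SUgl 3 F p) (hpO : gp ∉ overgroup R pts) (hz : gz ∈ SUgl 3 F p)
    (hzO : gz ∈ overgroup R pts) (hzH : c * gz * c⁻¹ ∉ H) : False := by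
  set M : Subgroup (GL (Fin 3) F) := (overgroup R pts).comap (MulAut.conj c⁻¹).toMonoidHom ⊓ SUgl 3 F p with hM
  have hmemM : ∀ g, g ∈ M ↔ c⁻¹ * g * c ∈ overgroup R pts ∧ g ∈ SUgl 3 F p := fun g => by
    simp [hM, Subgroup.mem_inf]
  have hconj : ∀ g ∈ SUgl 3 F p, c * g * c⁻¹ ∈ SUgl 3 F p := by
    intro g hg
    obtain ⟨hg1, hg2⟩ := Subgroup.mem_inf.mp hg
    exact Subgroup.mem_inf.mpr ⟨mul_mem (mul_mem hcU hg1) (inv_mem hcU), (MonoidHom.normal_ker _).conj_mem g hg2 c⟩
  rcases hH.2 M (fun h hh => (hmemM h).mpr ⟨hin h hh, hH.1.le hh⟩) inf_le_right with h | h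
  · exact hzH (h ▸ (hmemM _).mpr ⟨by simpa [mul_assoc] using hzO, hconj gz hz⟩)
  · apply hpO
    have hmem : c * gp * c⁻¹ ∈ M := h.symm ▸ hconj gp hp
    simpa [mul_assoc] using ((hmemM _).mp hmem).1

end Cfsg.Agent.Lib.PrimeDim.SU3Model
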