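import Cfsg.Agent.Lib.PrimeDim.SU3Cases

set_option autoImplicit false
set_option linter.style.haveILetI false
set_option linter.unusedSectionVars false

/-!
The subfield groups of index two in `SU(3, 3)` and `SU(3, 5)` are not maximal.
-/

namespace Cfsg.Agent.Lib.PrimeDim.SU3Subfield

open Cfsg.Geo Cfsg.Agent.Lib.PrimeDim.Basic Cfsg.Agent.Lib.PrimeDim.Fields Cfsg.Agent.Lib.PrimeDim.Unitary
open Cfsg.Agent.Lib.PrimeDim.UnitaryBase Cfsg.Agent.Lib.Unitary Cfsg.Agent.Lib.PrimeDim.SU3Model
open Cfsg.Agent.Lib.PrimeDim.SU3Check Cfsg.Agent.Lib.PrimeDim.SU3Data Cfsg.Agent.Lib.PrimeDim.SU3Cases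
open scoped Matrix MatrixGroups

variable {p : ℕ} [Fact p.Prime] {F : Type*} [Field F] [Fintype F] [CharP F p] {d : Fin p}

lemma exists_rat (R : Real F p d) (hF : Fintype.card F = p ^ 2) (hodd : ∀ b : Fin p, -b = b → b = 0) {x : F}
    (hx : x ^ p = x) : ∃ k : Fin p, phi R.t (k, (0 : Fin p)) = x := by
  obtain ⟨⟨a, b⟩, rfl⟩ := phi_surjective R hF x
  rw [← conj_apply hF, phi_conj R hF] at hx
  have h := congrArg Prod.snd (R.inj hx)
  simp only [conjK] at h
  exact ⟨a, by rw [hodd b h]⟩

lemma rat_pow (k : Fin p) : ((k.val : F)) ^ p = k.val := by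
  rw [← frobenius_def, map_natCast]

theorem not_maximal (R : Real F p d) (hF : Fintype.card F = p ^ 2) (hp2 : p ≠ 2)
    (hodd : ∀ b : Fin p, -b = b → b = 0) {H : Subgroup (GL (Fin 3) F)} (hH : IsMaximalIn (SUgl 3 F p) H)
    {F₀ : Subfield F} {P : GL (Fin 3) F} (hcard : Fintype.card F = Nat.card F₀ ^ 2)
    (hP : IsFormRationalStructure (hermForm 3 F p) F₀ 1 P) (hle : H ≤ subfieldSubgroup F₀ P)
    {pts : List (Fin 3 → K2 p)} {gens : List (M3 p)} {w : List (ℕ × K2 p)} {tab : List (M3 p)} {par : List ℕ}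
    (hgroup : okGroup d pts gens w tab par = true) (horth : okOrth d tab = true) {ms : List ℕ}
    (hdiag : okDiag d ms = true) {Z P' : M3 p} {wZ : List (ℕ × K2 p)} (hwZ : okWit d pts Z wZ = true)
    (hP' : moves d pts P' = true) (hZu : okSU d Z = true) (hPu : okSU d P' = true)
    (hnot : notRat d Z = true) : False := by
  classical
  letI : Fintype F₀ := Fintype.ofFinite _
  have hcard0 : Fintype.card F₀ = p := by
    rw [← Nat.card_eq_fintype_card]
    exact (Nat.pow_left_injective two_ne_zero (hF.symm.trans hcard)).symm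
  have hfix : ∀ x ∈ F₀, x ^ p = x := fun x hx => by
    have := FiniteField.pow_card (⟨x, hx⟩ : F₀)
    rw [hcard0] at this
    exact congrArg Subtype.val this
  have hconj0 : ∀ x : F₀, conj hF (x : F) = x := fun x => by rw [conj_apply]; exact hfix _ x.2
  set G : Matrix (Fin 3) (Fin 3) F := P.valᵀ * P.val.map (conj hF) with hGdef
  have hGmem : ∀ i j, G i j ∈ F₀ := by
    intro i j
    have hstd : ∀ a b : Fin 3, (Pi.single a 1 : Fin 3 → F) b ∈ F₀ := by
      intro a b
      rw [Pi.single_apply]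
      split
      · exact one_mem _
      · exact zero_mem _
    have h1 := hP (Pi.single i 1) (Pi.single j 1) (hstd i) (hstd j)
    rw [one_mul, Matrix.mulVec_single_one, Matrix.mulVec_single_one] at h1
    exact h1
  let G₀ : Matrix (Fin 3) (Fin 3) F₀ := Matrix.of fun i j => ⟨G i j, hGmem i j⟩
  have hG₀ : G₀.map (F₀.subtype : F₀ →+* F) = G := rfl
  have hGdet : G.det ≠ 0 := by
    rw [hGdef, Matrix.det_mul, Matrix.det_transpose]
    exact mul_ne_zero ((Matrix.isUnit_iff_isUnit_det _).mp P.isUnit).ne_zero (det_invariant_ne_zero P _)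
  have hG₀det : G₀.det ≠ 0 := fun h => hGdet (by
    rw [← hG₀, ← RingHom.mapMatrix_apply, ← RingHom.map_det, h, map_zero])
  have hsymm : ∀ i j, G i j = G j i := fun i j => by
    have e : G j i = G i j ^ p := (herm_conj (n := 3) (fun a => P.val a i) (fun a => P.val a j) hF).symm
    rw [e, hfix _ (hGmem i j)]
  have h2F : (2 : F₀) ≠ 0 := by
    intro h
    have h' : ((2 : ℕ) : F) = 0 := by simpa [map_ofNat] using congrArg F₀.subtype h
    rw [CharP.cast_eq_zero_iff F p] at h'
    exact hp2 ((Nat.prime_dvd_prime_iff_eq Fact.out Nat.prime_two).mp h')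
  haveI : Invertible (2 : F₀) := invertibleOfNonzero h2F
  obtain ⟨v, hv⟩ := LinearMap.BilinForm.exists_orthogonal_basis (B := Matrix.toBilin' G₀) ⟨fun x y => by
    simp only [Matrix.toBilin'_apply, RingHom.id_apply]
    rw [Finset.sum_comm]
    refine Finset.sum_congr rfl fun i _ => Finset.sum_congr rfl fun j _ => ?_
    have : G₀ j i = G₀ i j := Subtype.ext (hsymm j i)
    rw [this]
    ring⟩
  let v' : Module.Basis (Fin 3) F₀ (Fin 3 → F₀) := v.reindex (finCongr (Module.finrank_fin_fun F₀))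
  set Q : Matrix (Fin 3) (Fin 3) F₀ := Matrix.of fun a i => v' i a with hQdef
  have hQu : IsUnit Q := Matrix.linearIndependent_cols_iff_isUnit.mp
    (show LinearIndependent F₀ Q.col from v'.linearIndependent)
  set δ : Fin 3 → F₀ := fun i => Matrix.toBilin' G₀ (v' i) (v' i) with hδ
  have hQG : Qᵀ * G₀ * Q = Matrix.diagonal δ := by
    ext i j
    have h1 : (Qᵀ * G₀ * Q) i j = Matrix.toBilin' G₀ (v' i) (v' j) := by
      rw [Matrix.toBilin'_apply', mul_assoc]
      rfl
    rw [h1, Matrix.diagonal_apply]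
    split
    · next h => rw [h]
    · next h =>
        rw [show v' i = v ((finCongr (Module.finrank_fin_fun F₀)).symm i) from Module.Basis.reindex_apply ..,
          show v' j = v ((finCongr (Module.finrank_fin_fun F₀)).symm j) from Module.Basis.reindex_apply ..]
        rw [hv (fun he => h ((finCongr (Module.finrank_fin_fun F₀)).symm.injective he))]
  have hδ0 : ∀ i, (δ i : F) ≠ 0 := by
    intro i h
    have h' : δ i = 0 := Subtype.ext h
    have hdet := congrArg Matrix.det hQG
    rw [Matrix.det_mul, Matrix.det_mul, Matrix.det_transpose, Matrix.det_diagonal,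
      Finset.prod_eq_zero (Finset.mem_univ i) h'] at hdet
    have hQ0 := ((Matrix.isUnit_iff_isUnit_det _).mp hQu).ne_zero
    exact (mul_ne_zero (mul_ne_zero hQ0 hG₀det) hQ0) hdet
  -- make the form scalar
  choose a ha using fun i => exists_rat R hF hodd (hfix _ (δ i).2)
  simp only [okDiag, List.all_eq_true, Bool.or_eq_true, beq_iff_eq, Bool.and_eq_true, bne_iff_ne] at hdiag
  have ha0 : ∀ i, a i ≠ 0 := fun i h => hδ0 i (by rw [← ha i, h]; exact phi_zero)
  rcases hdiag a (triple_mem _ fun i => List.mem_finRange _) with ((h | h) | h) | ⟨⟨hl0, hMdet⟩, hMD⟩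
  · exact ha0 0 h
  · exact ha0 1 h
  · exact ha0 2 h
  set l : Fin p := Fin.ofNat p
    (ms.getD (((a 0).val - 1) * (p - 1) ^ 2 + ((a 1).val - 1) * (p - 1) + ((a 2).val - 1)) 0 / p ^ 9) with hl
  set m : Fin 3 → Fin 3 → Fin p := fun i j => Fin.ofNat p
    (ms.getD (((a 0).val - 1) * (p - 1) ^ 2 + ((a 1).val - 1) * (p - 1) + ((a 2).val - 1)) 0
      / p ^ (3 * i.val + j.val) % p) with hm
  let M₀ : Matrix (Fin 3) (Fin 3) F₀ := Matrix.of fun i j => ((m i j).val : F₀)
  have hM₀ : M₀.map (F₀.subtype : F₀ →+* F) = toMat R.t (rmat m) := by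
    rw [toMat_rmat]
    ext i j
    simp [M₀]
  have hS₀ : (Q * M₀).det ≠ 0 := by
    rw [Matrix.det_mul]
    refine mul_ne_zero ((Matrix.isUnit_iff_isUnit_det _).mp hQu).ne_zero fun h => ?_
    apply hMdet
    apply R.inj
    rw [phi_zero, ← det_toMat R.sq, ← hM₀, ← RingHom.mapMatrix_apply, ← RingHom.map_det, h, map_zero]
  set S₀ : GL (Fin 3) F₀ := Matrix.GeneralLinearGroup.mkOfDetNeZero (Q * M₀) hS₀
  set S := Matrix.GeneralLinearGroup.map (F₀.subtype : F₀ →+* F) S₀ with hSdef
  have hSval : S.val = Q.map (F₀.subtype : F₀ →+* F) * toMat R.t (rmat m) := by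
    rw [← hM₀, ← Matrix.map_mul]
    rfl
  have hreal : ∀ X : Matrix (Fin 3) (Fin 3) F₀,
      (X.map (F₀.subtype : F₀ →+* F)).map (conj hF) = X.map (F₀.subtype : F₀ →+* F) := fun X => by
    ext i j
    exact hconj0 _
  have hgram : (P.val * S.val)ᵀ * (P.val * S.val).map (conj hF)
      = Matrix.diagonal fun _ => phi R.t (l, (0 : Fin p)) := by
    have hd1 : (Matrix.diagonal δ).map (F₀.subtype : F₀ →+* F) = Matrix.diagonal fun i => phi R.t (a i, (0 : Fin p)) := by
      rw [Matrix.diagonal_map (map_zero _)]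
      congr 1
      funext i
      exact (ha i).symm
    have hd2 : toMat R.t (fun i j => if i = j then (a i, (0 : Fin p)) else zeroK)
        = Matrix.diagonal fun i => phi R.t (a i, (0 : Fin p)) := by
      ext i j
      by_cases h : i = j <;> simp [toMat, phi_zero, h]
    have hrm : (toMat R.t (rmat m))ᵀ = toMat R.t (fun i j => rmat m j i) := rfl
    calc (P.val * S.val)ᵀ * (P.val * S.val).map (conj hF)
        = S.valᵀ * G * S.val.map (conj hF) := by
          rw [Matrix.transpose_mul, Matrix.map_mul, hGdef]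
          simp only [mul_assoc]
      _ = (toMat R.t (rmat m))ᵀ * ((Qᵀ * G₀ * Q).map (F₀.subtype : F₀ →+* F)) * toMat R.t (rmat m) := by
          rw [show S.val.map (conj hF) = S.val from hreal S₀.val, hSval, Matrix.transpose_mul, Matrix.map_mul,
            Matrix.map_mul, hG₀, Matrix.transpose_map]
          simp only [mul_assoc]
      _ = toMat R.t (smat (l, 0)) := by
          rw [hQG, hd1, ← hd2, hrm, ← toMat_mm R.sq, ← toMat_mm R.sq]
          exact congrArg (toMat R.t) hMD
      _ = _ := by rw [toMat_smat, Matrix.smul_one_eq_diagonal]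
  obtain ⟨c, hcU, ν, hν0, hc, hνeq⟩ := exists_scaled hF
    (fun _ => phi_ne_zero R (fun h => hl0 (congrArg Prod.fst h))) hgram
  have hνc : Matrix.diagonal ν = ν 0 • (1 : Matrix (Fin 3) (Fin 3) F) := by
    rw [Matrix.smul_one_eq_diagonal]
    congr 1
    funext i
    exact hνeq i 0 rfl
  set u₀ : GL (Fin 3) F := Matrix.GeneralLinearGroup.mkOfDetNeZero (ν 0 • 1) (by simp [hν0 0]) with hu₀
  have hu₀s : u₀ ∈ scalars (Fin 3) F := (mem_scalars_iff _).mpr ⟨Units.mk0 _ (hν0 0), rfl⟩
  have hcu : c = P * S * u₀ := Units.ext (by rw [hc, hνc]; rfl)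
  have key : ∀ h ∈ H, ∃ (s : F) (O : Matrix (Fin 3) (Fin 3) F),
      (∀ i j, O i j ^ p = O i j) ∧ (c⁻¹ * h * c : GL (Fin 3) F).val = s • O := by
    intro h hh
    obtain ⟨x, hx, rfl⟩ := Subgroup.mem_map.mp (hle hh)
    rw [Subgroup.mem_sup_of_normal_right] at hx
    obtain ⟨_, ⟨g, rfl⟩, u, hu, rfl⟩ := hx
    obtain ⟨s, hs⟩ := (mem_scalars_iff u).mp hu
    refine ⟨s, (S₀⁻¹ * g * S₀ : GL (Fin 3) F₀).val.map (F₀.subtype : F₀ →+* F),
      fun i j => hfix _ (SetLike.coe_mem _), ?_⟩
    have he : c⁻¹ * (MulAut.conj P).toMonoidHom (Matrix.GeneralLinearGroup.map (F₀.subtype : F₀ →+* F) g * u) * c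
        = u * Matrix.GeneralLinearGroup.map (F₀.subtype : F₀ →+* F) (S₀⁻¹ * g * S₀) := by
      simp only [hcu, MulEquiv.coe_toMonoidHom, MulAut.conj_apply, map_mul, map_inv, ← hSdef]
      set g' := Matrix.GeneralLinearGroup.map (F₀.subtype : F₀ →+* F) g
      calc (P * S * u₀)⁻¹ * (P * g' * P⁻¹ * (P * u * P⁻¹)) * (P * S * u₀)
          = u₀⁻¹ * (S⁻¹ * g' * (u * S) * u₀) := by group
        _ = u₀⁻¹ * u₀ * (S⁻¹ * g' * (S * u)) := by
          rw [Symplectic.scalar_comm hu S, mul_assoc u₀⁻¹ u₀, Symplectic.scalar_comm hu₀s]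
        _ = S⁻¹ * g' * S * u := by group
        _ = u * (S⁻¹ * g' * S) := (Symplectic.scalar_comm hu _).symm
    rw [he, Units.val_mul, hs, Matrix.smul_mul, one_mul]
    rfl
  obtain ⟨gp, hgp, hgpv, -⟩ := exists_SU R hF P' (okSU_iff hPu).1 (okSU_iff hPu).2
  obtain ⟨gz, hgz, hgzv, -⟩ := exists_SU R hF Z (okSU_iff hZu).1 (okSU_iff hZu).2
  refine SU3Model.not_maximal R hH hcU (fun h hh => ?_) hgp (not_mem_overgroup R hF hgpv hP') hgz
    (mem_overgroup R hgzv hwZ) ?_
  · obtain ⟨s, O, hO, hval⟩ := key h hh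
    obtain ⟨hU, hS⟩ := Subgroup.mem_inf.mp (hH.1.le hh)
    set h' := c⁻¹ * h * c with hh'
    have hgU : h' ∈ GU 3 F p := mul_mem (mul_mem (inv_mem hcU) hU) hcU
    have hdet : h'.val.det = 1 := by
      have h2 := (MonoidHom.normal_ker _).conj_mem h hS c⁻¹
      rw [inv_inv] at h2
      exact Symplectic.mem_specialLinear.mp h2
    have hOconj : O.map (conj hF) = O := by
      ext i j
      exact hO i j
    have hs0 : s ≠ 0 := by
      rintro rfl
      rw [zero_smul] at hval
      exact h'.ne_zero hval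
    have hOO : Oᵀ * O = (s * s ^ p)⁻¹ • (1 : Matrix (Fin 3) (Fin 3) F) := by
      have h1 := GU_matrix hF hgU
      rw [hval, Matrix.map_smul' (conj hF) s O (fun a b => map_mul _ a b), hOconj, Matrix.transpose_smul,
        Matrix.smul_mul, Matrix.mul_smul, smul_smul, conj_apply] at h1
      rw [← h1, inv_smul_smul₀ (mul_ne_zero hs0 (pow_ne_zero _ hs0))]
    set μ := (s * s ^ p)⁻¹ with hμ
    have hμ0 : μ ≠ 0 := inv_ne_zero (mul_ne_zero hs0 (pow_ne_zero _ hs0))
    have hdetO : O.det ^ p = O.det := by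
      rw [← conj_apply hF, RingHom.map_det, RingHom.mapMatrix_apply, hOconj]
    have hμfix : μ ^ p = μ := by
      rw [hμ, inv_pow, mul_pow, pow_q_q hF, mul_comm]
    have hμ3 : O.det * O.det = μ ^ 3 := by
      have h1 := congrArg Matrix.det hOO
      rw [Matrix.det_mul, Matrix.det_transpose, Matrix.det_smul, Matrix.det_one, mul_one, Fintype.card_fin] at h1
      exact h1
    have hdO0 : O.det ≠ 0 := fun h0 => by
      rw [h0, zero_mul] at hμ3
      exact pow_ne_zero 3 hμ0 hμ3.symm
    set k := O.det / μ with hk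
    have hk0 : k ≠ 0 := div_ne_zero hdO0 hμ0
    have hk2 : k * k = μ := by
      rw [hk, div_mul_div_comm, hμ3]
      field_simp
    have hO' : ∀ i j, (k⁻¹ • O) i j ^ p = (k⁻¹ • O) i j := fun i j => by
      rw [Matrix.smul_apply, smul_eq_mul, mul_pow, inv_pow, hk, div_pow, hdetO, hμfix, hO]
    choose o ho using fun i j => exists_rat R hF hodd (hO' i j)
    have hA : toMat R.t (rmat o) = k⁻¹ • O := by
      ext i j
      exact ho i j
    have hOO' : (k⁻¹ • O)ᵀ * (k⁻¹ • O) = 1 := by
      rw [Matrix.transpose_smul, Matrix.smul_mul, Matrix.mul_smul, smul_smul, hOO, smul_smul, ← mul_inv, hk2,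
        inv_mul_cancel₀ hμ0, one_smul]
    have hdet' : (k⁻¹ • O).det = 1 := by
      rw [Matrix.det_smul, Fintype.card_fin, inv_pow, hk, div_pow]
      field_simp
      linear_combination -hμ3
    have hcol : ∀ i j, o 0 i * o 0 j + o 1 i * o 1 j + o 2 i * o 2 j = if i = j then Fin.ofNat p 1 else 0 := by
      intro i j
      apply cast_injective (F := F)
      have h1 := congrFun (congrFun hOO' i) j
      rw [← hA, toMat_rmat] at h1
      simp only [Matrix.mul_apply, Fin.sum_univ_three, Matrix.transpose_apply, Matrix.of_apply, Matrix.one_apply] at h1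
      simp only [cast_add, cast_mul, h1]
      split <;> simp [Nat.mod_eq_of_lt (Fact.out : p.Prime).one_lt]
    have hU : ∀ j, (fun i => o i j) ∈ unitVecs (p := p) := fun j => by
      simp only [unitVecs, List.mem_filter, beq_iff_eq]
      exact ⟨triple_mem _ fun _ => List.mem_finRange _, by rw [hcol j j, if_pos rfl]⟩
    simp only [okOrth, List.all_eq_true, Bool.or_eq_true, bne_iff_ne] at horth
    have h01 := hcol 0 1
    have h02 := hcol 0 2
    have h12 := hcol 1 2
    rw [if_neg (by decide)] at h01 h02 h12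
    have heq : rmat (fun i => ![o i 0, o i 1, o i 2]) = rmat o := by
      funext i j
      fin_cases j <;> rfl
    rcases horth _ (hU 0) _ (hU 1) with h | h
    · exact absurd h01 h
    rcases h _ (hU 2) with ((h | h) | h) | h
    · exact absurd h02 h
    · exact absurd h12 h
    · exfalso
      apply h
      rw [heq]
      apply R.inj
      rw [← det_toMat R.sq, hA, hdet', phi_one]
    rw [heq, List.contains_iff_mem] at h
    obtain ⟨g, hg, hgv⟩ := group_mem R hF hgroup _ h
    have hscal : h' * g⁻¹ ∈ scalars (Fin 3) F := by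
      refine (mem_scalars_iff _).mpr ⟨Units.mk0 (s * k) (mul_ne_zero hs0 hk0), ?_⟩
      have h3 : h'.val = (s * k) • g.val := by
        rw [hval, hgv, hA, smul_smul, mul_assoc, mul_inv_cancel₀ hk0, mul_one]
      rw [Units.val_mul, h3, Matrix.smul_mul, Units.mul_inv]
      rfl
    have := mul_mem (scalars_le_overgroup R pts hscal) hg
    rwa [inv_mul_cancel_right] at this
  · intro hzH
    obtain ⟨s, O, hO, hval⟩ := key _ hzH
    rw [show c⁻¹ * (c * gz * c⁻¹) * c = gz by group] at hval
    simp only [notRat, List.any_eq_true, List.mem_finRange, true_and, bne_iff_ne] at hnot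
    obtain ⟨i, j, k, l, hne⟩ := hnot
    apply hne
    have hz : ∀ a b, phi R.t (Z a b) = s * O a b := fun a b => by
      have := congrFun (congrFun (hgzv.symm.trans hval) a) b
      exact this
    set y := mulK d (Z i j) (conjK (Z k l)) with hy
    have hyrat : conj hF (phi R.t y) = phi R.t y := by
      rw [hy, phi_mul R.sq, ← phi_conj R hF, hz, hz, conj_apply, conj_apply, mul_pow, mul_pow, mul_pow, mul_pow]
      simp only [hO, pow_q_q hF]
      ring
    rw [phi_conj R hF] at hyrat
    exact hodd _ (congrArg Prod.snd (R.inj hyrat))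

/-- The index two subfield groups are not maximal for `q = 3`. -/
theorem three {F : Type*} [Field F] [Fintype F] (hF : Fintype.card F = 3 ^ 2) {H : Subgroup (GL (Fin 3) F)}
    (hH : IsMaximalIn (SUgl 3 F 3) H) {F₀ : Subfield F} {P : GL (Fin 3) F}
    (hcard : Fintype.card F = Nat.card F₀ ^ 2) (hP : IsFormRationalStructure (hermForm 3 F 3) F₀ 1 P)
    (hle : H ≤ subfieldSubgroup F₀ P) : False := by
  haveI := charP_of_card (p := 3) hF
  obtain ⟨R⟩ := exists_real (p := 3) hF 2 (by decide) (by decide)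
  exact not_maximal R hF (by decide) (by decide) hH hcard hP hle ax_group ax_orth.1 ax_orth.2 ax_pts.1 ax_pts.2.1
    ax_pts.2.2.1 ax_pts.2.2.2.1 ax_pts.2.2.2.2

/-- The index two subfield groups are not maximal for `q = 5`. -/
theorem five {F : Type*} [Field F] [Fintype F] (hF : Fintype.card F = 5 ^ 2) {H : Subgroup (GL (Fin 3) F)}
    (hH : IsMaximalIn (SUgl 3 F 5) H) {F₀ : Subfield F} {P : GL (Fin 3) F}
    (hcard : Fintype.card F = Nat.card F₀ ^ 2) (hP : IsFormRationalStructure (hermForm 3 F 5) F₀ 1 P)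
    (hle : H ≤ subfieldSubgroup F₀ P) : False := by
  haveI := charP_of_card (p := 5) hF
  obtain ⟨R⟩ := exists_real (p := 5) hF 2 (by decide) (by decide)
  exact not_maximal R hF (by decide) (by decide) hH hcard hP hle so_group so_orth.1 so_orth.2 so_pts.1 so_pts.2.1
    so_pts.2.2.1 so_pts.2.2.2.1 so_pts.2.2.2.2

end Cfsg.Agent.Lib.PrimeDim.SU3Subfield
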