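import Cfsg.Agent.Lib.PrimeDim.Unitary

set_option autoImplicit false
set_option linter.style.haveILetI false
set_option linter.unusedSectionVars false

/-!
In `SU(5, 2)` the normaliser of a degree five field lies in a proper subgroup preserving 55 lines, so it is not maximal.
-/

namespace Cfsg.Agent.Lib.PrimeDim.SU52

open Cfsg.Geo Cfsg.Agent.Lib.PrimeDim.Basic Cfsg.Agent.Lib.PrimeDim.Fields Cfsg.Agent.Lib.PrimeDim.Unitary
open Cfsg.Agent.Lib.PrimeDim.UnitaryBase Cfsg.Agent.Lib.Unitary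
open scoped Matrix MatrixGroups

/-! ### A model of the field with four elements -/

/-- Addition. -/
def add4 (a b : Fin 4) : Fin 4 := ![![0, 1, 2, 3], ![1, 0, 3, 2], ![2, 3, 0, 1], ![3, 2, 1, 0]] a b

/-- Multiplication. -/
def mul4 (a b : Fin 4) : Fin 4 := ![![0, 0, 0, 0], ![0, 1, 2, 3], ![0, 2, 3, 1], ![0, 3, 1, 2]] a b

/-- A `5 × 5` matrix over the model. -/
abbrev M4 : Type := Fin 5 → Fin 5 → Fin 4

/-- A sum of five terms. -/
def sum5 (f : Fin 5 → Fin 4) : Fin 4 := add4 (add4 (add4 (add4 (f 0) (f 1)) (f 2)) (f 3)) (f 4)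

/-- Matrix product. -/
def mm (A B : M4) : M4 := fun i j => sum5 fun k => mul4 (A i k) (B k j)

/-- Matrix times vector. -/
def mv (A : M4) (v : Fin 5 → Fin 4) : Fin 5 → Fin 4 := fun i => sum5 fun k => mul4 (A i k) (v k)

/-- The identity matrix. -/
def one5 : M4 := fun i j => if i = j then 1 else 0

/-- Powers. -/
def pw (A : M4) : ℕ → M4
  | 0 => one5
  | k + 1 => mm (pw A k) A

/-- The adjoint. -/
def star4 (A : M4) : M4 := fun i j => mul4 (A j i) (A j i)

/-- The trace. -/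
def tr5 (A : M4) : Fin 4 := sum5 fun i => A i i

/-- The element of order eleven. -/
def X4 : M4 := ![![3, 2, 3, 3, 3], ![0, 3, 3, 2, 0], ![0, 2, 0, 1, 2], ![2, 2, 0, 1, 0], ![2, 3, 2, 3, 2]]
/-- The element of order five. -/
def Y4 : M4 := ![![2, 0, 2, 1, 0], ![3, 0, 0, 2, 3], ![2, 3, 0, 1, 0], ![2, 1, 3, 3, 3], ![2, 2, 1, 2, 1]]
/-- An involution. -/
def Z4 : M4 := ![![1, 1, 2, 2, 3], ![1, 1, 1, 3, 3], ![3, 1, 0, 0, 1], ![3, 2, 0, 0, 3], ![2, 2, 1, 2, 1]]
/-- A permutation matrix. -/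
def P4 : M4 := fun i j => if Equiv.swap (0 : Fin 5) 1 i = j then 1 else 0

/-- The invariant set of lines. -/
def pts : Fin 55 → Fin 5 → Fin 4 := ![![1, 1, 2, 1, 0], ![1, 0, 1, 2, 2], ![0, 1, 0, 1, 0], ![0, 0, 1, 0, 2], ![1, 3, 0, 3, 1], ![1, 1, 3, 3, 0], ![1, 2, 2, 2, 0], ![1, 3, 2, 3, 0], ![1, 2, 2, 0, 3], ![1, 3, 0, 1, 2], ![1, 0, 3, 2, 1], ![1, 1, 0, 0, 0], ![1, 1, 3, 0, 3], ![0, 1, 2, 2, 1], ![1, 0, 1, 3, 2], ![0, 1, 1, 2, 1], ![0, 1, 2, 1, 2], ![1, 0, 2, 0, 0], ![1, 2, 2, 0, 1], ![1, 0, 3, 2, 2], ![1, 2, 1, 1, 0], ![0, 0, 1, 3, 0], ![1, 0, 2, 1, 1], ![1, 0, 2, 3, 3], ![1, 2, 0, 0, 0], ![1, 3, 0, 2, 3], ![1, 3, 2, 0, 1], ![1, 2, 3, 2, 0], ![1, 1, 3, 0, 1], ![1, 2, 2, 1, 0], ![1, 1, 2, 0, 3], ![1, 3, 0, 2, 2], ![1, 1, 2, 3, 0], ![0, 0, 1, 0, 1], ![1, 0, 0, 3, 0], ![1, 3, 0, 1, 3], ![1, 0, 3, 3, 1], ![1, 1, 1, 0, 1], ![1, 1, 3, 1, 0], ![1, 1, 2, 0, 2], ![1, 2, 3, 3, 0], ![0, 1, 2, 2, 2], ![1, 0, 1, 3, 1], ![0, 1, 3, 1, 3], ![0, 1, 1, 1,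 2], ![1, 2, 1, 0, 1], ![0, 1, 0, 0, 2], ![1, 1, 1, 0, 2], ![0, 1, 3, 0, 0], ![1, 2, 1, 3, 0], ![1, 2, 1, 0, 3], ![0, 1, 1, 1, 1], ![1, 0, 0, 0, 1], ![0, 0, 1, 1, 0], ![0, 1, 3, 3, 2]]

/-- Images of the lines under `X4`. -/
def witX : List (Fin 55 × Fin 4) := [(1, 3), (3, 1), (5, 1), (8, 2), (11, 3), (14, 1), (16, 3), (18, 1), (19, 3), (21, 3), (24, 3), (26, 1), (28, 1), (30, 1), (31, 3), (12, 3), (34, 1), (35, 2), (36, 2), (37, 1), (33, 2), (40, 1), (6, 2), (42, 2), (43, 1), (0, 1), (44, 3), (22, 3), (46, 1), (47, 2), (39, 2), (4, 2), (27, 2), (48, 3), (38, 1), (23, 3), (13, 3), (52, 1), (15, 3), (45, 1), (2, 2), (50, 3), (20, 1), (7, 1), (9, 3), (54, 2), (32, 3), (17, 3), (41, 1), (25, 1), (29, 1), (49, 1), (53, 2), (51, 1), (10, 3)]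
/-- Images of the lines under `Y4`. -/
def witY : List (Fin 55 × Fin 4) := [(2, 1), (4, 2), (6, 1), (9, 2), (12, 1), (15, 2), (17, 3), (0, 2), (5, 1), (22, 3), (25, 1), (27, 2), (29, 3), (1, 1), (32, 3), (33, 1), (20, 2), (7, 1), (19, 1), (11, 1), (39, 1), (38, 1), (41, 2), (10, 2), (8, 2), (44, 2), (34, 1), (42, 1), (23, 3), (13, 1), (37, 1), (16, 1), (47, 2), (24, 2), (50, 1), (30, 3), (51, 1), (21, 1), (35, 2), (49, 1), (46, 2), (45, 1), (18, 3), (53, 2), (28, 3), (3, 3), (48, 1), (54, 2), (36, 1), (31, 3), (43, 1), (40, 3), (14, 2), (26, 3), (52, 2)]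
/-- Images of the lines under `Z4`. -/
def witZ : List (Fin 55 × Fin 4) := [(0, 1), (1, 1), (7, 3), (10, 3), (13, 3), (16, 1), (17, 3), (2, 2), (20, 2), (23, 1), (3, 2), (21, 2), (29, 3), (4, 2), (32, 3), (31, 3), (5, 1), (6, 2), (35, 3), (38, 2), (8, 3), (11, 3), (28, 3), (9, 1), (39, 3), (45, 3), (40, 2), (37, 1), (22, 2), (12, 2), (42, 1), (15, 2), (14, 2), (49, 1), (51, 3), (18, 2), (50, 2), (27, 1), (19, 3), (24, 2), (26, 3), (44, 3), (30, 1), (48, 3), (41, 2), (25, 2), (53, 3), (52, 3), (43, 2), (33, 1), (36, 3), (34, 2), (47, 2), (46, 2), (54, 1)]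

/-- The check of an image table. -/
def okWit (A : M4) (w : List (Fin 55 × Fin 4)) : Bool :=
  (List.finRange 55).all fun i =>
    (List.finRange 5).all fun j =>
      mv A (pts i) j == mul4 (w.getD i.val (0, 0)).2 (pts (w.getD i.val (0, 0)).1 j)

lemma unit_X : mm (star4 X4) X4 = one5 ∧ pw X4 11 = one5 := by decide +kernel
lemma unit_Y : mm (star4 Y4) Y4 = one5 ∧ pw Y4 5 = one5 := by decide +kernel
lemma unit_Z : mm (star4 Z4) Z4 = one5 ∧ mm Z4 Z4 = one5 := by decide +kernel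
lemma unit_P : mm (star4 P4) P4 = one5 ∧ mm P4 P4 = one5 := by decide +kernel
lemma conj_YX : mm Y4 X4 = mm (pw X4 4) Y4 := by decide +kernel
lemma conj_Z : ∀ k : Fin 11, mm (mm Z4 X4) Z4 ≠ pw X4 k.val := by decide +kernel
lemma trace_X : ∀ k : Fin 11, tr5 (pw X4 k.val) = tr5 (pw X4 1) →
    ∃ j : Fin 5, 4 ^ j.val % 11 = k.val := by decide +kernel
lemma wit_X : okWit X4 witX = true := by decide +kernel
lemma wit_Y : okWit Y4 witY = true := by decide +kernel
lemma wit_Z : okWit Z4 witZ = true := by decide +kernel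
lemma wit_P : ∀ (j : Fin 55) (c : Fin 4), mv P4 (pts 1) ≠ fun i => mul4 c (pts j i) := by decide +kernel

/-! ### Transfer -/

variable {F : Type*} [Field F] [Fintype F]

lemma two_eq_zero (hF : Fintype.card F = 2 ^ 2) : (2 : F) = 0 := by
  have h : ((4 : ℕ) : F) = 0 := by
    rw [show (4 : ℕ) = Fintype.card F by rw [hF]; norm_num]
    exact Nat.cast_card_eq_zero F
  push_cast at h
  exact (pow_eq_zero_iff two_ne_zero).mp (by linear_combination h : (2 : F) ^ 2 = 0)

lemma exists_omega (hF : Fintype.card F = 2 ^ 2) : ∃ ω : F, ω * ω = ω + 1 := by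
  classical
  obtain ⟨x, hx⟩ : ∃ x : F, x ∉ ({0, 1} : Finset F) := by
    by_contra! h
    have := (Finset.card_le_card (fun x _ => h x : (Finset.univ : Finset F) ⊆ {0, 1})).trans Finset.card_le_two
    rw [Finset.card_univ, hF] at this
    norm_num at this
  simp only [Finset.mem_insert, Finset.mem_singleton, not_or] at hx
  refine ⟨x, ?_⟩
  have h3 : x ^ 3 = 1 := by
    have := FiniteField.pow_card_sub_one_eq_one x hx.1
    rwa [hF] at this
  have h : (x - 1) * (x * x + x + 1) = 0 := by linear_combination h3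
  have h' := (mul_eq_zero.mp h).resolve_left (sub_ne_zero.mpr hx.2)
  linear_combination h' - (x + 1) * two_eq_zero hF

/-- The isomorphism from the model. -/
def phi (ω : F) : Fin 4 → F := ![0, 1, ω, ω + 1]

/-- The matrix of a model matrix. -/
def toMat (ω : F) (A : M4) : Matrix (Fin 5) (Fin 5) F := Matrix.of fun i j => phi ω (A i j)

section transfer

variable (hF : Fintype.card F = 2 ^ 2) {ω : F} (hω : ω * ω = ω + 1)
include hF hω

lemma phi_add (a b : Fin 4) : phi ω (add4 a b) = phi ω a + phi ω b := by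
  have h2 := two_eq_zero hF
  fin_cases a <;> fin_cases b <;> simp [phi, add4] <;> grind

lemma phi_mul (a b : Fin 4) : phi ω (mul4 a b) = phi ω a * phi ω b := by
  have h2 := two_eq_zero hF
  fin_cases a <;> fin_cases b <;> simp [phi, mul4] <;> grind

lemma phi_injective : Function.Injective (phi ω) := by
  have h2 := two_eq_zero hF
  intro a b h
  fin_cases a <;> fin_cases b <;> simp [phi] at h ⊢ <;> grind

lemma phi_surjective : Function.Surjective (phi ω) :=
  ((Fintype.bijective_iff_injective_and_card _).mpr ⟨phi_injective hF hω, by rw [Fintype.card_fin, hF]; norm_num⟩).2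

lemma phi_sum5 (f : Fin 5 → Fin 4) : phi ω (sum5 f) = ∑ k, phi ω (f k) := by
  simp only [sum5, phi_add hF hω, Fin.sum_univ_five]

lemma toMat_mm (A B : M4) : toMat ω (mm A B) = toMat ω A * toMat ω B := by
  ext i j
  simp only [toMat, mm, Matrix.of_apply, Matrix.mul_apply, phi_sum5 hF hω, phi_mul hF hω]

lemma toMat_mv (A : M4) (v : Fin 5 → Fin 4) : toMat ω A *ᵥ (phi ω ∘ v) = phi ω ∘ mv A v := by
  funext i
  simp only [toMat, mv, Matrix.mulVec, dotProduct, Matrix.of_apply, Function.comp_apply, phi_sum5 hF hω,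
    phi_mul hF hω]

omit hF hω in
lemma toMat_one : toMat ω one5 = 1 := by
  ext i j
  by_cases h : i = j <;> simp [toMat, one5, phi, Matrix.one_apply, h]

lemma toMat_pw (A : M4) : ∀ k, toMat ω (pw A k) = toMat ω A ^ k
  | 0 => by rw [pw, toMat_one, pow_zero]
  | k + 1 => by rw [pw, toMat_mm hF hω, toMat_pw A k, pow_succ]

lemma toMat_injective : Function.Injective (toMat ω) := fun A B h => funext fun i => funext fun j =>
  phi_injective hF hω (congrFun (congrFun h i) j)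

lemma trace_toMat (A : M4) : (toMat ω A).trace = phi ω (tr5 A) := by
  simp only [tr5, phi_sum5 hF hω, Matrix.trace, Matrix.diag_apply, toMat, Matrix.of_apply]

/-- A certified element of `SU(5, 2)`. -/
lemma exists_elem (A : M4) (hA : mm (star4 A) A = one5) {k : ℕ} (hk : Nat.Coprime 3 k) (hp : pw A k = one5) :
    ∃ g ∈ SUgl 5 F 2, g.val = toMat ω A := by
  have hstar : toMat ω (star4 A) = ((toMat ω A).map (conj hF))ᵀ := by
    ext i j
    simp only [toMat, star4, Matrix.transpose_apply, Matrix.map_apply, Matrix.of_apply, phi_mul hF hω, conj_apply]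
    ring
  have hu := congrArg (toMat ω) hA
  rw [toMat_mm hF hω, toMat_one, hstar] at hu
  have hu' : (toMat ω A)ᵀ * (toMat ω A).map (conj hF) = 1 := by
    have := congrArg Matrix.transpose hu
    rwa [Matrix.transpose_mul, Matrix.transpose_transpose, Matrix.transpose_one] at this
  have hdk : (toMat ω A).det ^ k = 1 := by
    rw [← Matrix.det_pow, ← toMat_pw hF hω, hp, toMat_one, Matrix.det_one]
  have hdet : (toMat ω A).det = 1 := by
    have hd0 : (toMat ω A).det ≠ 0 := by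
      intro h
      have h1 := congrArg Matrix.det hu'
      rw [Matrix.det_mul, Matrix.det_transpose, h, zero_mul, Matrix.det_one] at h1
      exact zero_ne_one h1
    have h3 := FiniteField.pow_card_sub_one_eq_one _ hd0
    rw [hF] at h3
    have h4 := pow_gcd_eq_one.mpr ⟨h3, hdk⟩
    rwa [show Nat.gcd (2 ^ 2 - 1) k = 1 from hk, pow_one] at h4
  let g : GL (Fin 5) F := Matrix.GeneralLinearGroup.mkOfDetNeZero (toMat ω A) (by rw [hdet]; exact one_ne_zero)
  have hgval : g.val = toMat ω A := rfl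
  refine ⟨g, ⟨?_, Symplectic.mem_specialLinear.mpr (hgval ▸ hdet)⟩, hgval⟩
  intro u v
  have := ((isSesqui_herm (n := 5) hF).scale_iff (toMat ω A) 1).mpr (by rw [gram_herm hF, mul_one, hu', one_smul]) u v
  rw [one_mul] at this
  exact this

end transfer

/-- The vectors of the invariant lines. -/
def lineSet (ω : F) : Set (Fin 5 → F) := {v | ∃ (i : Fin 55) (c : F), v = c • (phi ω ∘ pts i)}

/-- The stabiliser of the lines. -/
def overgroup (ω : F) : Subgroup (GL (Fin 5) F) := stabilizing (glToMat (Fin 5) F) (lineSet ω)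

lemma mem_overgroup (hF : Fintype.card F = 2 ^ 2) {ω : F} (hω : ω * ω = ω + 1) {g : GL (Fin 5) F} {A : M4}
    (hg : g.val = toMat ω A) {w : List (Fin 55 × Fin 4)} (hw : okWit A w = true) : g ∈ overgroup ω := by
  have hmaps : ∀ v ∈ lineSet ω, g.val *ᵥ v ∈ lineSet ω := by
    rintro _ ⟨i, c, rfl⟩
    refine ⟨(w.getD i.val (0, 0)).1, c * phi ω (w.getD i.val (0, 0)).2, ?_⟩
    rw [Matrix.mulVec_smul, hg, toMat_mv hF hω, mul_smul]
    congr 1
    funext j
    simp only [okWit, List.all_eq_true, List.mem_finRange, forall_true_left, beq_iff_eq] at hw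
    simp only [Function.comp_apply, hw i j, Pi.smul_apply, smul_eq_mul, phi_mul hF hω]
  have hfin : (lineSet ω).Finite := Set.toFinite _
  have hinj : Function.Injective fun v : Fin 5 → F => g.val *ᵥ v := fun a b h => by
    simpa [inv_mulVec_cancel] using congrArg (fun v => (g⁻¹ : GL (Fin 5) F).val *ᵥ v) h
  have himg : (fun v : Fin 5 → F => g.val *ᵥ v) '' lineSet ω = lineSet ω :=
    Set.eq_of_subset_of_ncard_le (Set.image_subset_iff.mpr hmaps)
      (le_of_eq (Set.ncard_image_of_injective _ hinj).symm) hfin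
  intro v
  constructor
  · exact hmaps v
  · intro hv
    obtain ⟨u, hu, huv⟩ := himg.symm ▸ hv
    exact hinj huv ▸ hu

/-- Elements of `SU(5, 2)` in a quintic field subalgebra have order dividing eleven. -/
lemma pow_eleven (hF : Fintype.card F = 2 ^ 2) {K : Subalgebra F (Matrix (Fin 5) (Fin 5) F)}
    (hK : IsFieldSubalgebra 5 K) {u : GL (Fin 5) F} (hu : u ∈ SUgl 5 F 2) (huK : u.val ∈ K) : u ^ 11 = 1 := by
  classical
  have hfld : IsField K := ⟨exists_pair_ne K, fun a b => Subtype.ext (hK.comm _ a.2 _ b.2), fun {a} ha => by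
    obtain ⟨y, hy, hay⟩ := hK.inv a.1 a.2 (fun h => ha (Subtype.ext h))
    exact ⟨⟨y, hy⟩, Subtype.ext hay⟩⟩
  have hcardK : Nat.card K = 1024 := by
    rw [Module.natCard_eq_pow_finrank (K := F) (V := K), hK.finrank_eq, Nat.card_eq_fintype_card, hF]
    norm_num
  have h1023 : u ^ 1023 = 1 := by
    letI := hfld.toField
    letI : Fintype K := Fintype.ofFinite K
    have h0 : (⟨u.val, huK⟩ : K) ≠ 0 := fun h => u.ne_zero (congrArg Subtype.val h)
    have h1 := FiniteField.pow_card_sub_one_eq_one _ h0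
    rw [← Nat.card_eq_fintype_card, hcardK] at h1
    apply Units.ext
    rw [Units.val_pow_eq_pow_val, Units.val_one]
    exact congrArg Subtype.val h1
  have hGU : u ^ (2 ^ 10 * (3 * 3 * 9 * 15 * 33)) = 1 := by
    have h1 : (⟨u, hu.1⟩ : GU 5 F 2) ^ Nat.card (GU 5 F 2) = 1 := pow_card_eq_one'
    have h2 := congrArg Subtype.val h1
    rw [SubmonoidClass.coe_pow, card_GU hF] at h2
    simpa [Finset.prod_range_succ, Nat.even_iff] using h2
  have h33 := pow_gcd_eq_one.mpr ⟨h1023, hGU⟩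
  rw [show Nat.gcd 1023 (2 ^ 10 * (3 * 3 * 9 * 15 * 33)) = 33 by decide +kernel] at h33
  set c := u ^ 11 with hc
  have hc3 : c ^ 3 = 1 := by rw [hc, ← pow_mul]; exact h33
  have hcK : c.val ∈ K := by rw [hc, Units.val_pow_eq_pow_val]; exact pow_mem huK 11
  obtain ⟨ω, hω⟩ := exists_omega hF
  have h2 := two_eq_zero hF
  have hsplit : (c.val - 1) * ((c.val - ω • 1) * (c.val - (ω + 1) • 1)) = 0 := by
    have h3 : c.val * c.val * c.val = 1 := by
      rw [← Units.val_mul, ← Units.val_mul, ← sq, ← pow_succ, hc3, Units.val_one]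
    have e : (c.val - ω • 1) * (c.val - (ω + 1) • 1) = c.val * c.val + c.val + 1 := by
      simp only [mul_sub, sub_mul, Matrix.mul_smul, Matrix.smul_mul, mul_one, one_mul, smul_smul]
      ext i j
      simp only [Matrix.sub_apply, Matrix.add_apply, Matrix.smul_apply, smul_eq_mul]
      linear_combination (1 : Matrix (Fin 5) (Fin 5) F) i j * hω
        + (((1 : Matrix (Fin 5) (Fin 5) F) i j) * ω - c.val i j * (ω + 1)) * h2
    rw [e]
    calc (c.val - 1) * (c.val * c.val + c.val + 1) = c.val * c.val * c.val - 1 := by noncomm_ring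
      _ = 0 := by rw [h3, sub_self]
  have hzero : ∀ x y : Matrix (Fin 5) (Fin 5) F, x ∈ K → y ∈ K → x * y = 0 → x = 0 ∨ y = 0 := by
    intro x y hx hy hxy
    by_contra! hne
    obtain ⟨z, -, hz⟩ := hK.inv x hx hne.1
    apply hne.2
    rw [← one_mul y, ← mul_eq_one_comm.mp hz, mul_assoc, hxy, mul_zero]
  have hmem : ∀ a : F, c.val - a • 1 ∈ K := fun a => sub_mem hcK (Subalgebra.smul_mem _ (one_mem _) _)
  obtain ⟨a, ha⟩ : ∃ a : F, c.val = a • 1 := by
    rcases hzero _ _ (sub_mem hcK (one_mem _)) (mul_mem (hmem _) (hmem _)) hsplit with h | h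
    · exact ⟨1, by rw [one_smul]; exact sub_eq_zero.mp h⟩
    rcases hzero _ _ (hmem _) (hmem _) h with h | h
    · exact ⟨_, sub_eq_zero.mp h⟩
    · exact ⟨_, sub_eq_zero.mp h⟩
  have hdet : a ^ 5 = 1 := by
    have h := Symplectic.mem_specialLinear.mp ((pow_mem hu 11).2 : c ∈ specialLinear (Fin 5) F)
    rwa [ha, Matrix.det_smul, Matrix.det_one, mul_one, Fintype.card_fin] at h
  have ha3 : a ^ 3 = 1 := by
    have h := congrArg Units.val hc3
    rw [Units.val_pow_eq_pow_val, ha, smul_pow, one_pow, Units.val_one] at h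
    simpa using congrFun (congrFun h 0) 0
  have ha1 : a = 1 := by simpa using pow_gcd_eq_one.mpr ⟨ha3, hdet⟩
  exact Units.ext (by rw [ha, ha1, one_smul, Units.val_one])

/-- The subgroups normalising a quintic field subalgebra through a group of unitary units are not maximal. -/
theorem not_maximal (hF : Fintype.card F = 2 ^ 2) {H N : Subgroup (GL (Fin 5) F)}
    (hH : IsMaximalIn (SUgl 5 F 2) H) (hNG : N ≤ SUgl 5 F 2) (hNn : NormalizedBy H N)
    (hNs : ¬ N ≤ scalars (Fin 5) F) (hK : IsFieldSubalgebra 5 (commutant N)) : False := by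
  classical
  set K := commutant N with hKdef
  -- every element centralising `N` is a unit of `K`
  have hcentK : ∀ g : GL (Fin 5) F, (∀ x ∈ N, g * x = x * g) → g.val ∈ K := fun g hg =>
    mem_commutant.mpr fun x hx => by rw [← Units.val_mul, ← Units.val_mul, hg x hx]
  -- `N` lies in `K`
  have hNK : ∀ x ∈ N, x.val ∈ K := by
    intro x hx
    let e₀ : Fin 5 → F := Pi.single 0 1
    let L : K →ₗ[F] (Fin 5 → F) :=
      { toFun := fun k => k.1 *ᵥ e₀
        map_add' := fun a b => by simp [Matrix.add_mulVec]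
        map_smul' := fun r a => by simp [Matrix.smul_mulVec] }
    have hinj : Function.Injective L := by
      rw [← LinearMap.ker_eq_bot, eq_bot_iff]
      intro k hk
      rw [Submodule.mem_bot]
      by_contra hne
      obtain ⟨y, -, hy⟩ := hK.inv k.1 k.2 (fun h => hne (Subtype.ext h))
      have h1 : e₀ = 0 := by
        rw [← Matrix.one_mulVec e₀, ← mul_eq_one_comm.mp hy, ← Matrix.mulVec_mulVec,
          show k.1 *ᵥ e₀ = 0 from hk, Matrix.mulVec_zero]
      simpa [e₀] using congrFun h1 0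
    have hsurj : Function.Surjective L :=
      (LinearMap.injective_iff_surjective_of_finrank_eq_finrank (by rw [hK.finrank_eq, Module.finrank_fin_fun])).mp hinj
    obtain ⟨k₀, hk₀⟩ := hsurj (x.val *ᵥ e₀)
    have : x.val = k₀.1 := by
      refine Matrix.ext_of_mulVec_single fun i => ?_
      obtain ⟨k, hk⟩ := hsurj (Pi.single i 1)
      have hk' : k.1 *ᵥ e₀ = Pi.single i 1 := hk
      have hk₀' : k₀.1 *ᵥ e₀ = x.val *ᵥ e₀ := hk₀
      rw [← hk', Matrix.mulVec_mulVec, mem_commutant.mp k.2 x hx, ← Matrix.mulVec_mulVec, ← hk₀',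
        Matrix.mulVec_mulVec, hK.comm _ k.2 _ k₀.2, ← Matrix.mulVec_mulVec]
    exact this ▸ k₀.2
  -- the units of `K` in `SU(5, 2)` form a group of order at most eleven
  let T : Finset (GL (Fin 5) F) := Finset.univ.filter fun u => u ∈ SUgl 5 F 2 ∧ u.val ∈ K
  have hT : T.card ≤ 11 := by
    have hfld : IsField K := ⟨exists_pair_ne K, fun a b => Subtype.ext (hK.comm _ a.2 _ b.2), fun {a} ha => by
      obtain ⟨y, hy, hay⟩ := hK.inv a.1 a.2 (fun h => ha (Subtype.ext h))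
      exact ⟨⟨y, hy⟩, Subtype.ext hay⟩⟩
    letI := hfld.toField
    let R : Finset K := (Polynomial.nthRoots 11 (1 : K)).toFinset
    have hR : R.card ≤ 11 := (Multiset.toFinset_card_le _).trans (Polynomial.card_nthRoots 11 1)
    refine le_trans ?_ hR
    refine Finset.card_le_card_of_injOn (fun u => if h : u.val ∈ K then (⟨u.val, h⟩ : K) else 0) ?_ ?_
    · intro u hu
      simp only [T, Finset.coe_filter, Finset.mem_univ, true_and, Set.mem_ofPred_eq] at hu
      simp only [dif_pos hu.2, R, SetLike.mem_coe, Multiset.mem_toFinset]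
      rw [Polynomial.mem_nthRoots (by norm_num)]
      have h1 := congrArg Units.val (pow_eleven hF hK hu.1 hu.2)
      rw [Units.val_pow_eq_pow_val] at h1
      exact Subtype.ext h1
    · intro u hu v hv h
      simp only [T, Finset.coe_filter, Finset.mem_univ, true_and, Set.mem_ofPred_eq] at hu hv
      simp only [dif_pos hu.2, dif_pos hv.2] at h
      exact Units.ext (congrArg Subtype.val h)
  have hmemT : ∀ u, u ∈ SUgl 5 F 2 → u.val ∈ K → u ∈ T := fun u h1 h2 => by
    simp only [T, Finset.mem_filter, Finset.mem_univ, true_and]; exact ⟨h1, h2⟩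
  obtain ⟨x₁, hx₁, hx₁s⟩ := Set.not_subset.mp (hNs : ¬ (N : Set (GL (Fin 5) F)) ⊆ scalars (Fin 5) F)
  haveI h11 : Fact (Nat.Prime 11) := ⟨by norm_num⟩
  have hx₁o : orderOf x₁ = 11 :=
    orderOf_eq_prime (pow_eleven hF hK (hNG hx₁) (hNK x₁ hx₁)) (fun h => hx₁s (h ▸ one_mem _))
  have hNle : Nat.card N ≤ 11 := by
    rw [Nat.card_eq_fintype_card, Fintype.card_subtype]
    exact (Finset.card_le_card fun u hu => hmemT u (hNG (Finset.mem_filter.mp hu).2) (hNK u (Finset.mem_filter.mp hu).2)).trans hT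
  have hN : N = Subgroup.zpowers x₁ := (Subgroup.eq_of_le_of_card_ge (Subgroup.zpowers_le.mpr hx₁)
    (by rw [Nat.card_zpowers, hx₁o]; exact hNle)).symm
  -- the certified elements
  obtain ⟨ω, hω⟩ := exists_omega hF
  obtain ⟨gx, hgxG, hgx⟩ := exists_elem hF hω X4 unit_X.1 (by norm_num : Nat.Coprime 3 11) unit_X.2
  obtain ⟨gy, hgyG, hgy⟩ := exists_elem hF hω Y4 unit_Y.1 (by norm_num : Nat.Coprime 3 5) unit_Y.2
  obtain ⟨gz, hgzG, hgz⟩ := exists_elem hF hω Z4 unit_Z.1 (by norm_num : Nat.Coprime 3 2)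
    (by simpa [pw, show mm one5 Z4 = Z4 from toMat_injective hF hω (by rw [toMat_mm hF hω, toMat_one, one_mul])] using unit_Z.2)
  obtain ⟨gp, hgpG, hgp⟩ := exists_elem hF hω P4 unit_P.1 (by norm_num : Nat.Coprime 3 2)
    (by simpa [pw, show mm one5 P4 = P4 from toMat_injective hF hω (by rw [toMat_mm hF hω, toMat_one, one_mul])] using unit_P.2)
  have hgxo : orderOf gx = 11 := by
    refine orderOf_eq_prime (Units.ext ?_) fun h => ?_
    · rw [Units.val_pow_eq_pow_val, hgx, ← toMat_pw hF hω, unit_X.2, toMat_one, Units.val_one]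
    · rw [h, Units.val_one, ← toMat_one (ω := ω)] at hgx
      exact absurd (toMat_injective hF hω hgx.symm) (by decide +kernel)
  -- conjugacy of the subgroups of order eleven
  obtain ⟨c, hcG, hc⟩ : ∃ c ∈ GU 5 F 2, ∀ g, g ∈ N ↔ c⁻¹ * g * c ∈ Subgroup.zpowers gx := by
    let a : GU 5 F 2 := ⟨x₁, (hNG hx₁).1⟩
    let b : GU 5 F 2 := ⟨gx, hgxG.1⟩
    have ha : orderOf a = 11 := by rw [← Subgroup.orderOf_coe]; exact hx₁o
    have hb : orderOf b = 11 := by rw [← Subgroup.orderOf_coe]; exact hgxo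
    have hsyl : ∀ u : GU 5 F 2, orderOf u = 11 → ∃ P : Sylow 11 (GU 5 F 2), P.toSubgroup = Subgroup.zpowers u := by
      intro u hu
      have hp : IsPGroup 11 (Subgroup.zpowers u) := IsPGroup.of_card (n := 1) (by rw [Nat.card_zpowers, hu, pow_one])
      obtain ⟨P, hP⟩ := hp.exists_le_sylow
      refine ⟨P, (Subgroup.eq_of_le_of_card_ge hP ?_).symm⟩
      obtain ⟨j, hj⟩ := IsPGroup.iff_card.mp P.2
      have hdvd : 11 ^ j ∣ Nat.card (GU 5 F 2) := hj ▸ Subgroup.card_subgroup_dvd_card _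
      have hj2 : j < 2 := by
        by_contra hlt
        have h2 := (Nat.pow_dvd_pow 11 (not_lt.mp hlt)).trans hdvd
        rw [card_GU hF] at h2
        norm_num [Finset.prod_range_succ, Nat.even_iff] at h2
      rw [Nat.card_zpowers, hu, hj]
      calc 11 ^ j ≤ 11 ^ 1 := Nat.pow_le_pow_right (by norm_num) (by omega)
        _ = 11 := by norm_num
    obtain ⟨Pa, hPa⟩ := hsyl a ha
    obtain ⟨Pb, hPb⟩ := hsyl b hb
    obtain ⟨c, hc⟩ := MulAction.exists_smul_eq (GU 5 F 2) Pb Pa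
    have hiff : ∀ g : GU 5 F 2, g ∈ Subgroup.zpowers a ↔ c⁻¹ * g * c ∈ Subgroup.zpowers b := by
      intro g
      rw [← hPa, ← hc, Sylow.coe_subgroup_smul, hPb, Subgroup.mem_pointwise_smul_iff_inv_smul_mem]
      simp [MulAut.smul_def, MulAut.conj_symm_apply]
    have hcoe : ∀ u g : GU 5 F 2, g ∈ Subgroup.zpowers u ↔ (g : GL (Fin 5) F) ∈ Subgroup.zpowers (u : GL (Fin 5) F) := by
      intro u g
      simp only [Subgroup.mem_zpowers_iff, ← SubgroupClass.coe_zpow, Subtype.coe_inj]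
    refine ⟨c, c.2, fun g => ?_⟩
    rw [hN]
    constructor
    · intro hg
      have hgU : g ∈ GU 5 F 2 := (Subgroup.zpowers_le.mpr (hNG hx₁).1) hg
      exact (hcoe b _).mp ((hiff ⟨g, hgU⟩).mp ((hcoe a ⟨g, hgU⟩).mpr hg))
    · intro hg
      have h1 : (c : GL (Fin 5) F)⁻¹ * g * c ∈ GU 5 F 2 := (Subgroup.zpowers_le.mpr hgxG.1) hg
      have hgU : g ∈ GU 5 F 2 := by
        have := mul_mem (mul_mem c.2 h1) (inv_mem c.2)
        simpa [mul_assoc] using this
      exact (hcoe a ⟨g, hgU⟩).mp ((hiff ⟨g, hgU⟩).mpr ((hcoe b _).mpr hg))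
  have hconjG : ∀ g ∈ SUgl 5 F 2, c * g * c⁻¹ ∈ SUgl 5 F 2 ∧ c⁻¹ * g * c ∈ SUgl 5 F 2 := by
    intro g hg
    have hnormal : (specialLinear (Fin 5) F).Normal := MonoidHom.normal_ker _
    obtain ⟨hg1, hg2⟩ := Subgroup.mem_inf.mp hg
    refine ⟨Subgroup.mem_inf.mpr ⟨mul_mem (mul_mem hcG hg1) (inv_mem hcG), hnormal.conj_mem g hg2 c⟩,
      Subgroup.mem_inf.mpr ⟨mul_mem (mul_mem (inv_mem hcG) hg1) hcG, ?_⟩⟩
    simpa using hnormal.conj_mem g hg2 c⁻¹
  -- the overgroup
  set M : Subgroup (GL (Fin 5) F) := (overgroup ω).comap (MulAut.conj c⁻¹).toMonoidHom ⊓ SUgl 5 F 2 with hM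
  have hmemM : ∀ g, g ∈ M ↔ c⁻¹ * g * c ∈ overgroup ω ∧ g ∈ SUgl 5 F 2 := fun g => by
    simp [hM, Subgroup.mem_inf]
  have hgxO : gx ∈ overgroup ω := mem_overgroup hF hω hgx wit_X
  have hgyO : gy ∈ overgroup ω := mem_overgroup hF hω hgy wit_Y
  have hgzO : gz ∈ overgroup ω := mem_overgroup hF hω hgz wit_Z
  have hxN : c * gx * c⁻¹ ∈ N := (hc _).mpr (by simp [mul_assoc])
  have hpow : ∀ k : ℕ, (gx ^ k).val = toMat ω (pw X4 k) := fun k => by
    rw [Units.val_pow_eq_pow_val, hgx, toMat_pw hF hω]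
  have himage : ∀ h ∈ H, ∃ k : Fin 11, c⁻¹ * h * c * gx * (c⁻¹ * h * c)⁻¹ = gx ^ k.val := by
    intro h hh
    have h1 := (hc _).mp (hNn h hh _ hxN)
    rw [← mem_powers_iff_mem_zpowers, Submonoid.mem_powers_iff] at h1
    obtain ⟨m, hm⟩ := h1
    refine ⟨⟨m % 11, Nat.mod_lt _ (by norm_num)⟩, ?_⟩
    show _ = gx ^ (m % 11)
    rw [show gx ^ (m % 11) = gx ^ m by rw [← hgxo, pow_mod_orderOf], hm]
    group
  have hHM : H ≤ M := by
    intro h hh
    rw [hmemM]
    refine ⟨?_, hH.1.le hh⟩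
    set h' := c⁻¹ * h * c with hh'
    obtain ⟨k, hk⟩ := himage h hh
    obtain ⟨j, hj⟩ := trace_X k (by
      apply phi_injective hF hω
      rw [← trace_toMat hF hω, ← trace_toMat hF hω, ← hpow, ← hpow, ← hk, pow_one, Units.val_mul, Units.val_mul,
        Matrix.trace_mul_cycle, Units.inv_mul, one_mul])
    have hyx : gy * gx * gy⁻¹ = gx ^ 4 := by
      rw [mul_inv_eq_iff_eq_mul]
      apply Units.ext
      rw [Units.val_mul, Units.val_mul, hgy, hgx, hpow, ← toMat_mm hF hω, ← toMat_mm hF hω, conj_YX]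
    have hyj : ∀ i : ℕ, gy ^ i * gx * (gy ^ i)⁻¹ = gx ^ (4 ^ i) := by
      intro i
      induction i with
      | zero => simp
      | succ i ih =>
        calc gy ^ (i + 1) * gx * (gy ^ (i + 1))⁻¹ = gy * (gy ^ i * gx * (gy ^ i)⁻¹) * gy⁻¹ := by
              rw [pow_succ']; group
          _ = (gy * gx * gy⁻¹) ^ (4 ^ i) := by rw [ih, conj_pow]
          _ = gx ^ (4 ^ (i + 1)) := by rw [hyx, ← pow_mul, pow_succ']
    set w := (gy ^ j.val)⁻¹ * h' with hw
    have hwx : w * gx = gx * w := by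
      have h2 : gy ^ j.val * gx * (gy ^ j.val)⁻¹ = h' * gx * h'⁻¹ := by
        rw [hyj, hk, ← hj, ← hgxo, pow_mod_orderOf]
      calc w * gx = (gy ^ j.val)⁻¹ * (h' * gx * h'⁻¹) * h' := by rw [hw]; group
        _ = gx * w := by rw [← h2, hw]; group
    have hwN : c * w * c⁻¹ ∈ N := by
      have hTN : T = (Finset.univ.filter fun u => u ∈ N) := by
        symm
        refine Finset.eq_of_subset_of_card_le (fun u hu => hmemT u (hNG (Finset.mem_filter.mp hu).2) (hNK u (Finset.mem_filter.mp hu).2)) ?_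
        refine le_trans hT (le_of_eq ?_)
        rw [← Fintype.card_subtype, ← Nat.card_eq_fintype_card]
        simp only [hN]
        exact ((Nat.card_zpowers x₁).trans hx₁o).symm
      have hwG : c * w * c⁻¹ ∈ SUgl 5 F 2 :=
        (hconjG w (mul_mem (inv_mem (pow_mem hgyG _)) (hconjG h (hH.1.le hh)).2)).1
      have h3 := hmemT _ hwG (hcentK _ fun x hx => by
        have h4 := (hc x).mp hx
        rw [← mem_powers_iff_mem_zpowers, Submonoid.mem_powers_iff] at h4
        obtain ⟨m, hm⟩ := h4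
        have h5 : x = c * gx ^ m * c⁻¹ := by rw [hm]; group
        have h6 : w * gx ^ m = gx ^ m * w := (Commute.pow_right hwx m).eq
        rw [h5]
        calc c * w * c⁻¹ * (c * gx ^ m * c⁻¹) = c * (w * gx ^ m) * c⁻¹ := by group
          _ = c * gx ^ m * c⁻¹ * (c * w * c⁻¹) := by rw [h6]; group)
      rw [hTN] at h3
      exact (Finset.mem_filter.mp h3).2
    have hwO : w ∈ overgroup ω := by
      refine Subgroup.zpowers_le.mpr hgxO ?_
      simpa [mul_assoc] using (hc _).mp hwN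
    have := mul_mem (pow_mem hgyO j.val) hwO
    simpa [hw] using this
  rcases hH.2 M hHM inf_le_right with hMH | hMtop
  · have hzH : c * gz * c⁻¹ ∈ H := hMH ▸ (hmemM _).mpr ⟨by simpa [mul_assoc] using hgzO, (hconjG gz hgzG).1⟩
    obtain ⟨k, hk⟩ := himage _ hzH
    have hz2 : gz⁻¹ = gz := by
      rw [inv_eq_iff_mul_eq_one]
      exact Units.ext (by rw [Units.val_mul, hgz, ← toMat_mm hF hω, unit_Z.2, toMat_one, Units.val_one])
    rw [show c⁻¹ * (c * gz * c⁻¹) * c = gz by group, hz2] at hk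
    refine conj_Z k (toMat_injective hF hω ?_)
    rw [toMat_mm hF hω, toMat_mm hF hω, ← hgz, ← hgx, ← Units.val_mul, ← Units.val_mul, hk, hpow]
  · have hpM : c * gp * c⁻¹ ∈ M := hMtop.symm ▸ (hconjG gp hgpG).1
    have hpO : gp ∈ overgroup ω := by simpa [mul_assoc] using ((hmemM _).mp hpM).1
    obtain ⟨j, a, hja⟩ := (hpO (phi ω ∘ pts 1)).mp ⟨1, 1, (one_smul _ _).symm⟩
    obtain ⟨a', rfl⟩ := phi_surjective hF hω a
    refine wit_P j a' (funext fun i => phi_injective hF hω ?_)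
    have h1 : (phi ω ∘ mv P4 (pts 1)) i = phi ω a' * phi ω (pts j i) := by
      rw [← toMat_mv hF hω, ← hgp]
      exact congrFun hja i
    rw [phi_mul hF hω]
    exact h1

end Cfsg.Agent.Lib.PrimeDim.SU52
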